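import Mathlib
import Cfsg.Prelude.Def_LieExceptional

/-!
# LeafH1, END: the interface

`EndIn S G₀ U R v` : what the chain (split, same type; all `q ≥ 2`) has to deliver about the simple group `G₀` found by
THEOREM PAR:

* `G₀` simple with an irreducible (B,N)-pair of rank `≥ 3`, `C_G(G₀) = 1`;
* `S` a 2-group normalising `G₀` and `R`, `U = S ∩ G₀` Sylow in `G₀`;
* `R = R₁ ≤ Z(U)` with `N_G(R) ≤ N_G(G₀)`, `N_{G₀}(R) ≥ N_{G₀}(U)` maximal in `G₀` and with a nonabelian normal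
  2-subgroup (`W₁`);
* `1 ≠ v ∈ Z(U)` with `C_{G₀}(v) ≰ N_G(R)` (`v ∈ V₀ ≤ C_G(X)`).

`LIn U R v` : the part inside the simple group.
-/

set_option autoImplicit false

namespace Cfsg.Agent.Omega.HOneEnd

open Subgroup

/-- The data inside a simple group `L`. -/
structure LIn {L : Type*} [Group L] (U R : Subgroup L) (v : L) : Prop where
  two : IsPGroup 2 U
  odd : Odd U.index
  R_U : R ≤ U
  U_R : U ≤ centralizer (R : Set L)
  R_ne : R ≠ ⊥
  NU : normalizer (U : Set L) ≤ normalizer (R : Set L)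
  max : IsCoatom (normalizer (R : Set L))
  v_U : v ∈ U
  U_v : U ≤ centralizer {v}
  v_ne : v ≠ 1
  v_R : ¬ centralizer {v} ≤ normalizer (R : Set L)
  nonab : ∃ W : Subgroup L, IsPGroup 2 W ∧ normalizer (R : Set L) ≤ normalizer (W : Set L) ∧
    ¬ W ≤ centralizer (W : Set L)

/-- The interface of the END of LeafH1. -/
structure EndIn {G : Type*} [Group G] (S G₀ U R : Subgroup G) (v : G) : Prop where
  simple : IsSimpleGroup ↥G₀
  bn : ∃ Q : Cfsg.BNPair ↥G₀, U.subgroupOf G₀ ≤ Q.B ∧ 3 ≤ Q.rank ∧ Q.Irreducible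
  cent : centralizer (G₀ : Set G) = ⊥
  S_two : IsPGroup 2 S
  S_G₀ : S ≤ normalizer (G₀ : Set G)
  S_R : S ≤ normalizer (R : Set G)
  S_inf : S ⊓ G₀ = U
  /-- `U` is a Sylow 2-subgroup of `G₀` -/
  odd : Odd (U.relIndex G₀)
  N_R : normalizer (R : Set G) ≤ normalizer (G₀ : Set G)
  R_U : R ≤ U
  U_R : U ≤ centralizer (R : Set G)
  R_ne : R ≠ ⊥
  NU : G₀ ⊓ normalizer (U : Set G) ≤ normalizer (R : Set G)
  R_lt : ¬ G₀ ≤ normalizer (R : Set G)
  max : ∀ M ≤ G₀, G₀ ⊓ normalizer (R : Set G) < M → M = G₀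
  v_U : v ∈ U
  U_v : U ≤ centralizer {v}
  v_ne : v ≠ 1
  v_R : ¬ G₀ ⊓ centralizer {v} ≤ normalizer (R : Set G)
  nonab : ∃ W ≤ G₀, IsPGroup 2 W ∧ G₀ ⊓ normalizer (R : Set G) ≤ normalizer (W : Set G) ∧
    ¬ W ≤ centralizer (W : Set G)

section transfer

variable {G : Type*} [Group G] {G₀ : Subgroup G}

theorem mem_normalizer_subgroupOf {K : Subgroup G} (hK : K ≤ G₀) {x : ↥G₀} :
    x ∈ normalizer (K.subgroupOf G₀ : Set ↥G₀) ↔ (x : G) ∈ normalizer (K : Set G) := by
  rw [Subgroup.mem_normalizer_iff, Subgroup.mem_normalizer_iff]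
  constructor
  · intro h g
    constructor
    · intro hg
      have h1 := (h ⟨g, hK hg⟩).1 (mem_subgroupOf.2 hg)
      exact mem_subgroupOf.1 h1
    · intro hg
      have h0 : g ∈ G₀ := by
        have h1 := mul_mem (mul_mem (inv_mem x.2) (hK hg)) x.2
        have e : (x : G)⁻¹ * ((x : G) * g * (x : G)⁻¹) * x = g := by group
        rwa [e] at h1
      have h1 := (h ⟨g, h0⟩).2 (mem_subgroupOf.2 hg)
      exact mem_subgroupOf.1 h1
  · intro h g
    constructor
    · intro hg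
      exact mem_subgroupOf.2 ((h g).1 (mem_subgroupOf.1 hg))
    · intro hg
      exact mem_subgroupOf.2 ((h g).2 (mem_subgroupOf.1 hg))

theorem mem_centralizer_subgroupOf {K : Subgroup G} (hK : K ≤ G₀) {x : ↥G₀} :
    x ∈ centralizer (K.subgroupOf G₀ : Set ↥G₀) ↔ (x : G) ∈ centralizer (K : Set G) := by
  rw [Subgroup.mem_centralizer_iff, Subgroup.mem_centralizer_iff]
  constructor
  · intro h g hg
    have h1 := h ⟨g, hK hg⟩ (mem_subgroupOf.2 hg)
    exact congrArg Subtype.val h1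
  · intro h g hg
    exact Subtype.ext (h g (mem_subgroupOf.1 hg))

end transfer

theorem EndIn.lIn {G : Type*} [Group G] {S G₀ U R : Subgroup G} {v : G} (h : EndIn S G₀ U R v) :
    ∃ hv : v ∈ G₀, LIn (U.subgroupOf G₀) (R.subgroupOf G₀) ⟨v, hv⟩ := by
  have hU : U ≤ G₀ := by rw [← h.S_inf]; exact inf_le_right
  have hUS : U ≤ S := by rw [← h.S_inf]; exact inf_le_left
  have hR : R ≤ G₀ := h.R_U.trans hU
  have hv : v ∈ G₀ := hU h.v_U
  refine ⟨hv, {
    two := ?_, odd := h.odd, R_U := ?_, U_R := ?_, R_ne := ?_, NU := ?_, max := ?_, v_U := mem_subgroupOf.2 h.v_U,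
    U_v := ?_, v_ne := ?_, v_R := ?_, nonab := ?_ }⟩
  · exact (h.S_two.to_le hUS).comap_of_injective _ (Subgroup.subtype_injective _)
  · intro x hx
    exact mem_subgroupOf.2 (h.R_U (mem_subgroupOf.1 hx))
  · intro x hx
    rw [mem_centralizer_subgroupOf hR]
    exact h.U_R (mem_subgroupOf.1 hx)
  · intro h0
    apply h.R_ne
    rw [eq_bot_iff]
    intro x hx
    have h1 : (⟨x, hR hx⟩ : ↥G₀) ∈ R.subgroupOf G₀ := mem_subgroupOf.2 hx
    rw [h0, mem_bot] at h1
    exact mem_bot.2 (congrArg Subtype.val h1)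
  · intro x hx
    rw [mem_normalizer_subgroupOf hR]
    rw [mem_normalizer_subgroupOf hU] at hx
    exact h.NU ⟨x.2, hx⟩
  · constructor
    · intro h0
      apply h.R_lt
      intro x hx
      have h1 : (⟨x, hx⟩ : ↥G₀) ∈ normalizer (R.subgroupOf G₀ : Set ↥G₀) := by rw [h0]; trivial
      exact (mem_normalizer_subgroupOf hR).1 h1
    · intro M hM
      have h1 : M.map G₀.subtype ≤ G₀ := by
        rintro _ ⟨x, -, rfl⟩
        exact x.2
      have h2 : G₀ ⊓ normalizer (R : Set G) < M.map G₀.subtype := by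
        refine lt_of_le_of_ne ?_ ?_
        · rintro x ⟨hx, hx1⟩
          exact ⟨⟨x, hx⟩, hM.le ((mem_normalizer_subgroupOf hR).2 hx1), rfl⟩
        · intro h3
          obtain ⟨x, hxM, hx⟩ := SetLike.exists_of_lt hM
          apply hx
          rw [mem_normalizer_subgroupOf hR]
          have h4 : (x : G) ∈ M.map G₀.subtype := ⟨x, hxM, rfl⟩
          rw [← h3] at h4
          exact h4.2
      have h3 := h.max _ h1 h2
      rw [eq_top_iff]
      intro x _
      have h4 : (x : G) ∈ M.map G₀.subtype := by rw [h3]; exact x.2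
      obtain ⟨y, hy, hyx⟩ := h4
      have : y = x := Subtype.ext hyx
      rwa [← this]
  · intro x hx
    have h1 := h.U_v (mem_subgroupOf.1 hx)
    rw [mem_centralizer_singleton_iff] at h1 ⊢
    exact Subtype.ext h1
  · intro h0
    exact h.v_ne (congrArg Subtype.val h0)
  · intro h0
    apply h.v_R
    rintro x ⟨hx, hx1⟩
    have hx2 : x ∈ centralizer {v} := hx1
    have h1 : (⟨x, hx⟩ : ↥G₀) ∈ centralizer {(⟨v, hv⟩ : ↥G₀)} := by
      rw [mem_centralizer_singleton_iff] at hx2 ⊢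
      exact Subtype.ext hx2
    exact (mem_normalizer_subgroupOf hR).1 (h0 h1)
  · obtain ⟨W, hW, h1, h2, h3⟩ := h.nonab
    refine ⟨W.subgroupOf G₀, h1.comap_of_injective _ (Subgroup.subtype_injective _), fun x hx => ?_, fun h4 => ?_⟩
    · rw [mem_normalizer_subgroupOf hW]
      rw [mem_normalizer_subgroupOf hR] at hx
      exact h2 ⟨x.2, hx⟩
    · apply h3
      intro x hx
      have h5 := h4 (mem_subgroupOf.2 hx : (⟨x, hW hx⟩ : ↥G₀) ∈ W.subgroupOf G₀)
      exact (mem_centralizer_subgroupOf hW).1 h5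

end Cfsg.Agent.Omega.HOneEnd
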