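import Cfsg.Agent.FixBN.OfBN
import Cfsg.Agent.S0319
import Cfsg.Agent.S0311
import Cfsg.Agent.S0314
import Cfsg.Agent.Schreier.BNUse
import Cfsg.Agent.ParSys.Hall

/-!
# LeafH1, END: groups with a (B,N)-pair and a Borel 2-group

`Bor Q U` : `U` is a normal 2-subgroup of odd index of the Borel subgroup `Q.B`, not stabilised in the panels.

* `mem_core` : an element of `B` which fixes the panels of `B` and all chambers `n B`, `n ∈ N`, lies in the core of `B`
  (rigidity);
* `Bor.normalizer_eq`, `Bor.odd` : `N(U) = B`, `U` is a Sylow 2-subgroup;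
* `isCoatom` : the normaliser of `R` if it contains `B` and all but one of the fundamental reflections;
* `Bor.core_eq_bot`, `Bor.perfect`, `Bor.simple`.
-/

set_option autoImplicit false
set_option linter.unusedSectionVars false

namespace Cfsg.Agent.Omega.HOneEnd.BNCore

open Subgroup Cfsg Cfsg.Agent.LieExceptional.BNPairCore Cfsg.Agent.Tits.Core Cfsg.Agent.Tits.Core.Bldg
  Cfsg.Agent.Tits.OfBN Cfsg.Agent.Tits.OppRes

variable {K : Type*} [Group K]

/-- **Rigidity.** -/
theorem mem_core [Finite K] (P : Cfsg.BNPair K) {u : K} (hB : u ∈ P.B)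
    (hpan : ∀ s ∈ P.S, ∀ b ∈ P.B, (b * s)⁻¹ * u * (b * s) ∈ P.B) (hN : ∀ n ∈ P.N, n⁻¹ * u * n ∈ P.B) :
    u ∈ P.B.normalCore := by
  obtain ⟨M, hNn, cs, hcs⟩ := Tits.Labels.exists_bnType P
  have hI : Finite P.S := inferInstance
  set e : P.S ≃ P.S := Equiv.refl P.S
  set Δ := bldg P e cs hcs with hΔ
  have hiso : ∀ (g : K) (a b : K ⧸ P.B), Δ.δ (g • a) (g • b) = Δ.δ a b := fun g a b => dist_smul P g a b
  -- the opposite chamber
  obtain ⟨n₀, hn₀⟩ : ∃ n : P.N, (QuotientGroup.mk n : WP P) = wJ cs Set.univ :=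
    QuotientGroup.mk_surjective _
  have hopp : Δ.δ (QuotientGroup.mk 1) (QuotientGroup.mk (n₀ : K)) = wJ cs Set.univ := by
    rw [bldg_δ_mk, inv_one, one_mul, ← hn₀]
    exact wt_of_mem P (self_mem_C _)
  have hagree : Tits.Rigid.Agree Δ (fun z => u • z) (fun z => z) Set.univ (QuotientGroup.mk 1 : K ⧸ P.B) := by
    intro i _ z hz
    induction z using QuotientGroup.induction_on with
    | _ a =>
    show u • (QuotientGroup.mk a : K ⧸ P.B) = QuotientGroup.mk a
    rw [FixBN.OfBN.smul_mk_eq]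
    rcases hz with hz | hz
    · rw [FixBN.OfBN.mk_eq] at hz
      have ha : a ∈ P.B := by simpa using inv_mem hz
      exact mul_mem (mul_mem (inv_mem ha) hB) ha
    · rw [bldg_δ_mk, hcs, inv_one, one_mul] at hz
      obtain ⟨b₁, hb₁, b₂, hb₂, h1⟩ := mem_C.1 (mem_C_of_wt P hz)
      have h2 := hpan _ i.2 b₁ hb₁
      have e1 : a⁻¹ * u * a = b₂⁻¹ * ((b₁ * (i : K))⁻¹ * u * (b₁ * i)) * b₂ := by
        have h1' : a = b₁ * (i : K) * b₂ := h1
        rw [h1']; group
      rw [e1]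
      exact mul_mem (mul_mem (inv_mem hb₂) h2) hb₂
  have h1 : ∀ z ∈ Δ.Res Set.univ (QuotientGroup.mk 1), u • z = z :=
    Tits.Rigid.rigid (thick P e cs hcs) (φ := fun z => u • z) (ψ := fun z => z) (fun a _ b _ => hiso u a b)
      (fun a _ b _ => rfl) hagree hopp (FixBN.OfBN.smul_mk_eq.2 (hN _ n₀.2))
  intro b
  have h2 := h1 (QuotientGroup.mk b⁻¹) (by rw [Bldg.Res_univ]; trivial)
  rw [FixBN.OfBN.smul_mk_eq, inv_inv] at h2
  exact h2

/-! ### The Borel 2-group -/

/-- `U` is a normal 2-subgroup of odd index of the Borel subgroup `Q.B`. -/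
structure Bor (Q : Cfsg.BNPair K) (U : Subgroup K) : Prop where
  le : U ≤ Q.B
  norm : ∀ b ∈ Q.B, ∀ u ∈ U, b * u * b⁻¹ ∈ U
  two : IsPGroup 2 U
  index : Odd (U.relIndex Q.B)
  ne : ∀ s ∈ Q.S, ∃ u ∈ U, s⁻¹ * u * s ∉ Q.B

namespace Bor

variable {Q : Cfsg.BNPair K} {U : Subgroup K} (h : Bor Q U)

include h

theorem normalizer_eq : normalizer (U : Set K) = Q.B :=
  Schreier.BNSch.normalizer_eq Q U h.le h.norm h.ne

/-- 2-elements of `B` lie in `U` -/
theorem mem_of_pow {x : K} (hx : x ∈ Q.B) {n : ℕ} (hn : x ^ 2 ^ n ∈ U) : x ∈ U := by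
  have hnor : Q.B ≤ normalizer (U : Set K) := by rw [h.normalizer_eq]
  have h1 := ParSys.Hall.pow_relIndex_mem hnor hx
  exact ParSys.Hall.mem_of_pow_mem_of_coprime hn h1
    ((Nat.coprime_two_left.2 h.index).pow_left n)

variable [Finite K]

/-- `U` is a Sylow 2-subgroup. -/
theorem odd : Odd U.index := by
  have : Fact (Nat.Prime 2) := ⟨Nat.prime_two⟩
  obtain ⟨S, hS⟩ := Schreier.BNUse.exists_sylow (p := 2) U h.two (by
    rw [h.normalizer_eq, ← even_iff_two_dvd, Nat.not_even_iff_odd]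
    exact h.index)
  rw [← Nat.not_even_iff_odd, even_iff_two_dvd, ← hS]
  exact S.not_dvd_index

theorem exists_sylow : ∃ S : Sylow 2 K, (S : Subgroup K) = U := by
  have : Fact (Nat.Prime 2) := ⟨Nat.prime_two⟩
  exact Schreier.BNUse.exists_sylow (p := 2) U h.two (by
    rw [h.normalizer_eq, ← even_iff_two_dvd, Nat.not_even_iff_odd]
    exact h.index)

/-- A group generated by its 2-elements is generated by the conjugates of `U`. -/
theorem le_of_conj (hgen : Subgroup.closure {x : K | ∃ a : ℕ, x ^ 2 ^ a = 1} = ⊤) {M : Subgroup K}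
    (hM : ∀ g : K, ∀ u ∈ U, g * u * g⁻¹ ∈ M) : M = ⊤ := by
  have : Fact (Nat.Prime 2) := ⟨Nat.prime_two⟩
  obtain ⟨S, hS⟩ := h.exists_sylow
  rw [eq_top_iff, ← hgen, Subgroup.closure_le]
  rintro x ⟨a, ha⟩
  have hz : IsPGroup 2 (zpowers x) := by
    rintro ⟨_, k, rfl⟩
    refine ⟨a, Subtype.ext ?_⟩
    show (x ^ k) ^ 2 ^ a = 1
    rw [← zpow_natCast, ← zpow_mul, mul_comm, zpow_mul, zpow_natCast, ha, one_zpow]
  obtain ⟨T, hT⟩ := hz.exists_le_sylow
  obtain ⟨g, hg⟩ := MulAction.exists_smul_eq K S T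
  have h1 : x ∈ (T : Subgroup K) := hT (mem_zpowers x)
  rw [← hg, Sylow.smul_def, Sylow.pointwise_smul_def, hS, Subgroup.mem_smul_pointwise_iff_exists] at h1
  obtain ⟨u, hu, h2⟩ := h1
  rw [← h2]
  exact hM g u hu

/-- the core of `B` is central if it has no 2-part -/
theorem core_eq_bot (hgen : Subgroup.closure {x : K | ∃ a : ℕ, x ^ 2 ^ a = 1} = ⊤)
    (hO : ∀ M ≤ U, M.Normal → M = ⊥) (hZ : center K = ⊥) : Q.B.normalCore = ⊥ := by
  set C := Q.B.normalCore with hC
  have hCn : C.Normal := inferInstance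
  have hCB : C ≤ Q.B := Subgroup.normalCore_le Q.B
  have hUn : ∀ b ∈ Q.B, ∀ u ∈ U, b * u * b⁻¹ ∈ U := h.norm
  -- the 2-part of the core
  have h1 : (C ⊓ U : Subgroup K) = ⊥ := by
    apply hO _ inf_le_right
    constructor
    rintro x ⟨hxC, hxU⟩ g
    have h2 : g * x * g⁻¹ ∈ C := hCn.conj_mem x hxC g
    obtain ⟨a, ha⟩ := h.two ⟨x, hxU⟩
    have ha' : x ^ 2 ^ a = 1 := by simpa using congrArg Subtype.val ha
    refine ⟨h2, h.mem_of_pow (hCB h2) (n := a) ?_⟩
    rw [conj_pow, ha', mul_one, mul_inv_cancel]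
    exact one_mem _
  rw [eq_bot_iff]
  intro x hx
  -- `x` centralises `U`
  have h3 : ∀ u ∈ U, x * u * x⁻¹ * u⁻¹ = 1 := by
    intro u hu
    have h4 : x * u * x⁻¹ * u⁻¹ ∈ C := by
      have h5 := hCn.conj_mem _ (inv_mem hx) u
      have h6 := mul_mem hx h5
      have e : x * (u * x⁻¹ * u⁻¹) = x * u * x⁻¹ * u⁻¹ := by group
      rwa [e] at h6
    have h5 : x * u * x⁻¹ * u⁻¹ ∈ U := mul_mem (hUn x (hCB hx) u hu) (inv_mem hu)
    have h6 : x * u * x⁻¹ * u⁻¹ ∈ (C ⊓ U : Subgroup K) := ⟨h4, h5⟩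
    rw [h1] at h6
    exact mem_bot.1 h6
  -- hence all of the core centralises all conjugates of `U`
  have hall : ∀ y ∈ C, ∀ u ∈ U, y * u * y⁻¹ * u⁻¹ = 1 := by
    intro y hy u hu
    have h4 : y * u * y⁻¹ * u⁻¹ ∈ C := by
      have h5 := hCn.conj_mem _ (inv_mem hy) u
      have h6 := mul_mem hy h5
      have e : y * (u * y⁻¹ * u⁻¹) = y * u * y⁻¹ * u⁻¹ := by group
      rwa [e] at h6
    have h5 : y * u * y⁻¹ * u⁻¹ ∈ U := mul_mem (hUn y (hCB hy) u hu) (inv_mem hu)
    have h6 : y * u * y⁻¹ * u⁻¹ ∈ (C ⊓ U : Subgroup K) := ⟨h4, h5⟩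
    rw [h1] at h6
    exact mem_bot.1 h6
  have h7 : centralizer (C : Set K) = ⊤ := by
    apply h.le_of_conj hgen
    intro g u hu
    rw [mem_centralizer_iff]
    intro y hy
    have h8 := hall (g⁻¹ * y * g) (by simpa using hCn.conj_mem y hy g⁻¹) u hu
    have h9 : (g⁻¹ * y * g) * u = u * (g⁻¹ * y * g) := by
      have h10 := mul_inv_eq_one.1 h8
      exact mul_inv_eq_iff_eq_mul.1 h10
    calc y * (g * u * g⁻¹) = g * ((g⁻¹ * y * g) * u) * g⁻¹ := by group
      _ = g * (u * (g⁻¹ * y * g)) * g⁻¹ := by rw [h9]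
      _ = g * u * g⁻¹ * y := by group
  have h8 : x ∈ center K := by
    rw [mem_center_iff]
    intro g
    have h9 : g ∈ centralizer (C : Set K) := by rw [h7]; trivial
    exact (mem_centralizer_iff.1 h9 x hx).symm
  rw [hZ] at h8
  exact h8

/-- **Tits' criterion** (Bourbaki's form: `U` is soluble, its conjugates generate, `K` is perfect). -/
theorem simple (hgen : Subgroup.closure {x : K | ∃ a : ℕ, x ^ 2 ^ a = 1} = ⊤) (hirr : Q.Irreducible)
    (hS : Q.S.Nonempty) (hperf : commutator K = ⊤) (hcore : Q.B.normalCore = ⊥) : IsSimpleGroup K := by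
  have hfact : Fact (Nat.Prime 2) := ⟨Nat.prime_two⟩
  obtain ⟨s₀, hs₀⟩ := hS
  have : Nontrivial K := by
    refine ⟨⟨s₀, 1, ?_⟩⟩
    rintro rfl
    exact Schreier.BNSch.not_mem_B Q hs₀ (one_mem _)
  refine ⟨fun H hH => ?_⟩
  obtain ⟨J, hJ, hHJ⟩ : ∃ J ⊆ Q.S, H ⊔ Q.B = Q.parabolic J :=
    ⟨_, Set.inter_subset_left, eq_parabolic le_sup_right⟩
  have hcomm : ∀ s ∈ J, ∀ s' ∈ Q.S \ J, s * s' * s⁻¹ * s'⁻¹ ∈ Q.B := fun s hs s' hs' =>
    S0319.commute_of_normal Q H hJ hHJ hs hs'
  rcases J.eq_empty_or_nonempty with rfl | hJne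
  · left
    have h1 : H ≤ Q.B := by
      have : Q.parabolic ∅ = Q.B := by
        show Q.B ⊔ Subgroup.closure ∅ = Q.B
        rw [Subgroup.closure_empty, sup_bot_eq]
      rw [← this, ← hHJ]
      exact le_sup_left
    rw [← le_bot_iff, ← hcore]
    exact (Subgroup.normal_le_normalCore).2 h1
  · right
    rcases (Q.S \ J).eq_empty_or_nonempty with hemp | hne
    · -- `H B = K`
      have hJS : J = Q.S := Set.Subset.antisymm hJ (Set.sdiff_eq_empty.1 hemp)
      have htop : H ⊔ Q.B = ⊤ := by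
        rw [hHJ, hJS, parabolic_S_eq_top]
      -- `H U = K`
      have hHU : H ⊔ U = ⊤ := by
        apply h.le_of_conj hgen
        intro g u hu
        have hg : g ∈ H ⊔ Q.B := by rw [htop]; trivial
        obtain ⟨x, hx, b, hb, rfl⟩ := (Subgroup.mem_sup_of_normal_left).1 hg
        have h1 : b * u * b⁻¹ ∈ H ⊔ U := mem_sup_right (h.norm b hb u hu)
        have h2 : x ∈ H ⊔ U := mem_sup_left hx
        have e : x * b * u * (x * b)⁻¹ = x * (b * u * b⁻¹) * x⁻¹ := by group
        rw [e]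
        exact mul_mem (mul_mem h2 h1) (inv_mem h2)
      have hsurj : Function.Surjective ((QuotientGroup.mk' H).comp U.subtype) := by
        intro q
        obtain ⟨g, rfl⟩ := QuotientGroup.mk'_surjective H q
        have hg : g ∈ H ⊔ U := by rw [hHU]; trivial
        obtain ⟨x, hx, b, hb, hxb⟩ := (Subgroup.mem_sup_of_normal_left).1 hg
        refine ⟨⟨b, hb⟩, ?_⟩
        have h0 : (QuotientGroup.mk' H) g = (QuotientGroup.mk' H) x * (QuotientGroup.mk' H) b := by
          rw [← map_mul, hxb]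
        rw [h0]
        have h1 : (QuotientGroup.mk' H) x = 1 := (QuotientGroup.eq_one_iff x).2 hx
        rw [h1, one_mul]
        rfl
      have hUs : Group.IsSolvable U := by
        have := h.two.isNilpotent
        infer_instance
      have hsolvQ : Group.IsSolvable (K ⧸ H) := Group.isSolvable_of_surjective hsurj
      by_contra hne
      have hnt : Nontrivial (K ⧸ H) := by
        rw [← not_subsingleton_iff_nontrivial]
        intro hsub
        exact hne (QuotientGroup.subgroup_eq_top_of_subsingleton H hsub)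
      have hlt := Group.IsSolvable.commutator_lt_top_of_nontrivial (G := K ⧸ H)
      have hmap : commutator (K ⧸ H) = ⊤ := by
        have h1 : (commutator K).map (QuotientGroup.mk' H) = commutator (K ⧸ H) := by
          rw [commutator_def, Subgroup.map_commutator, commutator_def]
          rw [Subgroup.map_top_of_surjective _ (QuotientGroup.mk'_surjective H)]
        rw [← h1, hperf, Subgroup.map_top_of_surjective _ (QuotientGroup.mk'_surjective H)]
      exact hlt.ne hmap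
    · exfalso
      obtain ⟨s, hs, s', hs', h⟩ := hirr J hJ hJne hne
      exact h (hcomm s hs s' hs')

/-- **Perfectness**: a torus `H ≤ B`, normalised by `N`, with `U = [U,H] C_U(H)` and `C_U(H)` trivial on the panels. -/
theorem perfect (hgen : Subgroup.closure {x : K | ∃ a : ℕ, x ^ 2 ^ a = 1} = ⊤) (hcore : Q.B.normalCore = ⊥)
    {H : Subgroup K} (_hHB : H ≤ Q.B) (hHN : Q.N ≤ normalizer (H : Set K))
    (hcov : ∀ u ∈ U, ∃ c ∈ U, c ∈ centralizer (H : Set K) ∧ u * c⁻¹ ∈ commutator K)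
    (hfix : ∀ s ∈ Q.S, ∀ c ∈ U, c ∈ centralizer (H : Set K) → ∀ b ∈ Q.B, (b * s)⁻¹ * c * (b * s) ∈ Q.B) :
    commutator K = ⊤ := by
  -- `C = C_U(H)` is normalised by `N`
  have hstep : ∀ s ∈ Q.S, ∀ c, c ∈ U → c ∈ centralizer (H : Set K) →
      s⁻¹ * c * s ∈ U ∧ s⁻¹ * c * s ∈ centralizer (H : Set K) := by
    intro s hs c hcU hcC
    have h1 := hfix s hs c hcU hcC 1 (one_mem _)
    rw [one_mul] at h1
    obtain ⟨a, ha⟩ := h.two ⟨c, hcU⟩
    have ha' : c ^ 2 ^ a = 1 := by simpa using congrArg Subtype.val ha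
    refine ⟨h.mem_of_pow h1 (n := a) ?_, ?_⟩
    · have e : (s⁻¹ * c * s) ^ 2 ^ a = s⁻¹ * c ^ 2 ^ a * s := by
        have := conj_pow (a := s⁻¹) (b := c) (i := 2 ^ a)
        rwa [inv_inv] at this
      rw [e, ha', mul_one, inv_mul_cancel]
      exact one_mem _
    · rw [mem_centralizer_iff] at hcC ⊢
      intro x hx
      have h2 : s * x * s⁻¹ ∈ H := (mem_normalizer_iff.1 (hHN (Q.subset hs)) x).1 hx
      have h3 := hcC _ h2
      calc x * (s⁻¹ * c * s) = s⁻¹ * (s * x * s⁻¹ * c) * s := by group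
        _ = s⁻¹ * (c * (s * x * s⁻¹)) * s := by rw [h3]
        _ = s⁻¹ * c * s * x := by group
  -- finiteness: also for the inverse
  have hN : ∀ n ∈ Q.N, ∀ c, c ∈ U → c ∈ centralizer (H : Set K) →
      n⁻¹ * c * n ∈ U ∧ n⁻¹ * c * n ∈ centralizer (H : Set K) := by
    set C : Subgroup K := U ⊓ centralizer (H : Set K) with hC
    have hSN : ∀ s ∈ Q.S, s ∈ normalizer (C : Set K) := by
      intro s hs
      have h1 : C.map (MulAut.conj s⁻¹).toMonoidHom ≤ C := by
        rintro _ ⟨c, hc, rfl⟩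
        show s⁻¹ * c * s⁻¹⁻¹ ∈ C
        rw [inv_inv]
        exact hstep s hs c hc.1 hc.2
      have h2 : C.map (MulAut.conj s⁻¹).toMonoidHom = C :=
        Subgroup.eq_of_le_of_card_ge h1 (le_of_eq (Nat.card_congr
          (C.equivMapOfInjective (MulAut.conj s⁻¹).toMonoidHom (MulAut.conj s⁻¹).injective).toEquiv))
      rw [mem_normalizer_iff'']
      intro g
      constructor
      · intro hg
        exact hstep s hs g hg.1 hg.2
      · intro hg
        have hg' : s⁻¹ * g * s ∈ C := hg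
        rw [← h2] at hg'
        obtain ⟨c, hc, h3⟩ := hg'
        have h4 : s⁻¹ * c * s⁻¹⁻¹ = s⁻¹ * g * s := h3
        have h5 : c = g := by
          rw [inv_inv] at h4
          exact mul_left_cancel (mul_right_cancel h4)
        rw [← h5]
        exact hc
    have hTN : Q.B ⊓ Q.N ≤ normalizer (C : Set K) := by
      rintro t ⟨htB, htN⟩
      have htH := hHN htN
      rw [mem_normalizer_iff]
      intro c
      constructor
      · rintro ⟨hcU, hcC⟩
        refine ⟨h.norm t htB c hcU, ?_⟩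
        have hcC : c ∈ centralizer (H : Set K) := hcC
        show t * c * t⁻¹ ∈ centralizer (H : Set K)
        rw [mem_centralizer_iff] at hcC ⊢
        intro x hx
        have h2 : t⁻¹ * x * t ∈ H := (mem_normalizer_iff''.1 htH x).1 hx
        have h3 := hcC _ h2
        calc x * (t * c * t⁻¹) = t * ((t⁻¹ * x * t) * c) * t⁻¹ := by group
          _ = t * (c * (t⁻¹ * x * t)) * t⁻¹ := by rw [h3]
          _ = t * c * t⁻¹ * x := by group
      · rintro ⟨hcU, hcC⟩
        have e : c = t⁻¹ * (t * c * t⁻¹) * t := by group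
        have h4 := h.norm t⁻¹ (inv_mem htB) _ hcU
        rw [inv_inv, ← e] at h4
        refine ⟨h4, ?_⟩
        have hcC : t * c * t⁻¹ ∈ centralizer (H : Set K) := hcC
        show c ∈ centralizer (H : Set K)
        rw [mem_centralizer_iff] at hcC ⊢
        intro x hx
        have h2 : t * x * t⁻¹ ∈ H := (mem_normalizer_iff.1 htH x).1 hx
        have h3 := hcC _ h2
        calc x * c = t⁻¹ * ((t * x * t⁻¹) * (t * c * t⁻¹)) * t := by group
          _ = t⁻¹ * ((t * c * t⁻¹) * (t * x * t⁻¹)) * t := by rw [h3]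
          _ = c * x := by group
    have hNN : Q.N ≤ normalizer (C : Set K) := by
      rw [← Q.closure_sup, sup_le_iff, Subgroup.closure_le]
      exact ⟨hSN, hTN⟩
    intro n hn c hcU hcC
    have h5 := (mem_normalizer_iff''.1 (hNN hn) c).1 ⟨hcU, hcC⟩
    exact h5
  have hC1 : ∀ c ∈ U, c ∈ centralizer (H : Set K) → c = 1 := by
    intro c hcU hcC
    have h1 : c ∈ Q.B.normalCore :=
      mem_core Q (h.le hcU) (fun s hs b hb => hfix s hs c hcU hcC b hb)
        (fun n hn => h.le (hN n hn c hcU hcC).1)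
    rw [hcore] at h1
    exact mem_bot.1 h1
  apply h.le_of_conj hgen
  intro g u hu
  have h2 : u ∈ commutator K := by
    obtain ⟨c, hcU, hcC, h3⟩ := hcov u hu
    rw [hC1 c hcU hcC, inv_one, mul_one] at h3
    exact h3
  exact (inferInstance : (commutator K).Normal).conj_mem u h2 g

end Bor

/-- A proper overgroup of `B` which contains all but one of the fundamental reflections is maximal. -/
theorem isCoatom (Q : Cfsg.BNPair K) {N : Subgroup K} (hBN : Q.B ≤ N) {s₀ : K} (hs₀ : s₀ ∈ Q.S) (h0 : s₀ ∉ N)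
    (hS : ∀ s ∈ Q.S, s ≠ s₀ → s ∈ N) : IsCoatom N := by
  refine ⟨fun h => h0 (by rw [h]; trivial), fun M hM => ?_⟩
  have h1 := eq_parabolic (P := Q) (hBN.trans hM.le)
  have h2 := eq_parabolic (P := Q) hBN
  by_cases h3 : s₀ ∈ M
  · have h4 : Q.S ∩ M = Q.S := by
      apply Set.inter_eq_left.2
      intro s hs
      by_cases h5 : s = s₀
      · rw [h5]; exact h3
      · exact hM.le (hS s hs h5)
    rw [h4, parabolic_S_eq_top] at h1
    exact h1
  · exfalso
    apply hM.ne
    rw [h1, h2]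
    congr 1
    ext s
    constructor
    · rintro ⟨hs, hsN⟩
      exact ⟨hs, hM.le hsN⟩
    · rintro ⟨hs, hsM⟩
      refine ⟨hs, hS s hs ?_⟩
      rintro rfl
      exact h3 hsM

end Cfsg.Agent.Omega.HOneEnd.BNCore
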