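import Cfsg.Agent.Omega.HOneEnd.FFourDat

/-!
# `FFourDat` for a subgroup `G₀ ≅ F₄(K)` of `G`

`φ : G₀ ≃* F₄(K)` with `φ(S ∩ G₀) = U`, `φ(R) = X_s`: `emb_of`, `ffourDat_of`.
-/

set_option autoImplicit false
set_option Elab.async false
set_option linter.unusedSectionVars false

namespace Cfsg.Agent.Omega.HOneEnd.FFour

open CoxeterSystem Cfsg.Agent.ChevalleyStructure.CoxeterGeom Cfsg.Agent.Tits.Roots Cfsg.Agent.Tits.Core
open Cfsg Cfsg.Lie Cfsg.Agent.ChevalleyStructure Cfsg.Agent.ChevalleyStructure.Elts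
  Cfsg.Agent.ChevalleyStructure.RootVec Cfsg.Agent.ChevalleyStructure.CoxeterGeomTypes
open Cfsg.Agent.Nodes Cfsg.Agent.Nodes.Reps Cfsg.Agent.Nodes.BNOf Cfsg.Agent.Nodes.RGDChev Cfsg.Agent.Nodes.Coroot
  Cfsg.Agent.Nodes.KindF Cfsg.Agent.KFacts.ChevTwo Cfsg.Agent.KFacts.ChevTwoTab
  Cfsg.Agent.KFacts.ChevTwoInst Cfsg.Agent.KFacts.RgdTI Cfsg.Agent.KFacts.RgdOdd
  Cfsg.Agent.KFacts.F4Star Cfsg.Agent.KFacts.F4Cent Cfsg.Agent.KFacts.F4Pair Cfsg.Agent.KFacts.F4Torus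
open Subgroup Cfsg.Agent.Omega.All.HOne

universe u v

variable {K : Type v} [Field K] [Finite K] [CharP K 2] {G : Type u} [Group G] {G₀ : Subgroup G}

/-- the embedding -/
def emb (φ : ↥G₀ ≃* ↥(chevF4.group K)) : ↥(chevF4.group K) →* G := G₀.subtype.comp φ.symm.toMonoidHom

theorem emb_inj (φ : ↥G₀ ≃* ↥(chevF4.group K)) : Function.Injective (emb φ) :=
  (subtype_injective G₀).comp φ.symm.injective

theorem emb_range (φ : ↥G₀ ≃* ↥(chevF4.group K)) : (emb φ).range = G₀ := by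
  ext g
  constructor
  · rintro ⟨x, rfl⟩
    exact (φ.symm x).2
  · intro hg
    refine ⟨φ ⟨g, hg⟩, ?_⟩
    show ((φ.symm (φ ⟨g, hg⟩) : ↥G₀) : G) = g
    rw [MulEquiv.symm_apply_apply]

theorem map_emb (φ : ↥G₀ ≃* ↥(chevF4.group K)) {A : Subgroup G} (hA : A ≤ G₀) {B : Subgroup ↥(chevF4.group K)}
    (h : (A.subgroupOf G₀).map φ.toMonoidHom = B) : B.map (emb φ) = A := by
  subst h
  ext g
  constructor
  · rintro ⟨_, ⟨x, hx, rfl⟩, rfl⟩
    show ((φ.symm (φ x) : ↥G₀) : G) ∈ A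
    rw [MulEquiv.symm_apply_apply]
    exact mem_subgroupOf.1 hx
  · intro hg
    refine ⟨φ ⟨g, hA hg⟩, ⟨⟨g, hA hg⟩, mem_subgroupOf.2 hg, rfl⟩, ?_⟩
    show ((φ.symm (φ ⟨g, hA hg⟩) : ↥G₀) : G) = g
    rw [MulEquiv.symm_apply_apply]

theorem XG_emb (φ : ↥G₀ ≃* ↥(chevF4.group K)) {R : Subgroup G} (hR : R ≤ G₀) {r : Fin 4 → ℤ}
    (h : (R.subgroupOf G₀).map φ.toMonoidHom = XF K r) : XG (emb φ) r = R := map_emb φ hR h

theorem emb_of (φ : ↥G₀ ≃* ↥(chevF4.group K)) {S R : Subgroup G} (hS : IsPGroup 2 S)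
    (hSG : S ≤ normalizer (G₀ : Set G)) (hSR : S ≤ normalizer (R : Set G)) (hR : R ≤ G₀)
    (hc : centralizer (G₀ : Set G) = ⊥)
    (hU : ((S ⊓ G₀).subgroupOf G₀).map φ.toMonoidHom = RGD.Sup (XF K) (RGD.Pos cF isType.isCartan))
    {s : Fin 4 → ℤ} (hs : Dom s) (hX : (R.subgroupOf G₀).map φ.toMonoidHom = XF K s) :
    Emb (emb φ) S (normalizer (G₀ : Set G)) where
  inj := emb_inj φ
  two := hS
  S_Y := hSG
  G_Y := by rw [emb_range]; exact le_normalizer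
  Y_G := by rw [emb_range]
  S₀ := by rw [emb_range]; exact (map_emb φ inf_le_right hU).symm
  cent g hg := by
    have h1 : g ∈ centralizer (G₀ : Set G) := by
      rw [mem_centralizer_iff]
      intro x hx
      have h2 : x ∈ (emb φ).range := by rw [emb_range]; exact hx
      obtain ⟨y, rfl⟩ := h2
      exact (hg y).symm
    rwa [hc, mem_bot] at h1
  len := ⟨s, hs, by rw [XG_emb φ hR hX]; exact hSR⟩

theorem exists_other {s : Fin 4 → ℤ} (hs : Dom s) : ∃ r, Dom r ∧ r ≠ s := by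
  have h1 : v 47 ≠ v 44 := fun h => absurd (v_inj (by norm_num) (by norm_num) h) (by norm_num)
  rcases hs with rfl | rfl
  · exact ⟨v 44, Or.inr rfl, h1.symm⟩
  · exact ⟨v 47, Or.inl rfl, h1⟩

/-- **`FFourDat` for `G₀ ≅ F₄(K)`, `R = X_s`.** -/
theorem ffourDat_of [Finite G] (φ : ↥G₀ ≃* ↥(chevF4.group K)) {S : Sylow 2 G} {R : Subgroup G}
    (hSG : (S : Subgroup G) ≤ normalizer (G₀ : Set G)) (hSR : (S : Subgroup G) ≤ normalizer (R : Set G)) (hR : R ≤ G₀)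
    (hc : centralizer (G₀ : Set G) = ⊥)
    (hU : (((S : Subgroup G) ⊓ G₀).subgroupOf G₀).map φ.toMonoidHom = RGD.Sup (XF K) (RGD.Pos cF isType.isCartan))
    {s : Fin 4 → ℤ} (hs : Dom s) (hX : (R.subgroupOf G₀).map φ.toMonoidHom = XF K s)
    (hN : normalizer (R : Set G) ≤ normalizer (G₀ : Set G)) :
    ∃ Cs Cl Xl Qs Ql Us Ul : Subgroup G, FFourDat (S : Subgroup G) ((S : Subgroup G) ⊓ G₀) (normalizer (G₀ : Set G))
      Cs Cl R Xl Qs Ql Us Ul := by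
  have E := emb_of φ S.isPGroup' hSG hSR hR hc hU hs hX
  obtain ⟨r, hr, hrs⟩ := exists_other hs
  have h1 := E.ffourDat hr hs hrs (by rw [XG_emb φ hR hX]; exact hN)
  rw [emb_range, XG_emb φ hR hX] at h1
  exact ⟨_, _, _, _, _, _, _, h1⟩

end Cfsg.Agent.Omega.HOneEnd.FFour
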