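import Cfsg.Prelude.Def_LieTypeChar

/-!
# LeafH1, END: the groups of Lie type of rank at least three

`Fam p K`: `K` is one of the groups in the conclusion of Tits' theorem in rank at least three, in characteristic `p`,
with the bounds on the rank.
-/

set_option autoImplicit false

namespace Cfsg.Agent.Omega.HOneEnd

open Cfsg

/-- The groups of Lie type of characteristic `p` and rank at least three. -/
def Fam (p : ℕ) (K : Type*) [Group K] : Prop :=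
  (∃ (F : Type) (_ : Field F) (_ : Fintype F) (_ : CharP F p) (n : ℕ),
    4 ≤ n ∧ Nonempty (K ≃* Matrix.ProjectiveSpecialLinearGroup (Fin n) F)) ∨
  (∃ (F : Type) (_ : Field F) (_ : Fintype F) (_ : CharP F p) (m : ℕ), 3 ≤ m ∧ Nonempty (K ≃* PSp m F)) ∨
  (∃ (F : Type) (_ : Field F) (_ : Fintype F) (_ : CharP F p) (n q : ℕ),
    Fintype.card F = q ^ 2 ∧ 6 ≤ n ∧ Nonempty (K ≃* PSU n F q)) ∨
  (∃ (F : Type) (_ : Field F) (_ : Fintype F) (_ : CharP F p) (m : ℕ),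
    3 ≤ m ∧ (2 : F) ≠ 0 ∧ Nonempty (K ≃* POmega F (quadFormOdd m F))) ∨
  (∃ (F : Type) (_ : Field F) (_ : Fintype F) (_ : CharP F p) (m : ℕ),
    4 ≤ m ∧ Nonempty (K ≃* POmega F (quadFormPlus m F))) ∨
  (∃ (F : Type) (_ : Field F) (_ : Fintype F) (_ : CharP F p) (m : ℕ) (a b : F),
    3 ≤ m ∧ (∀ z₁ z₂ : F, z₁ ^ 2 + a * z₁ * z₂ + b * z₂ ^ 2 = 0 → z₁ = 0 ∧ z₂ = 0) ∧
    Nonempty (K ≃* POmega F (quadFormMinus m F a b))) ∨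
  (∃ (F : Type) (_ : Field F) (_ : Fintype F) (_ : CharP F p), Nonempty (K ≃* Lie.chevF4.group F)) ∨
  (∃ (F : Type) (_ : Field F) (_ : Fintype F) (_ : CharP F p), Nonempty (K ≃* Lie.chevE6.group F)) ∨
  (∃ (F : Type) (_ : Field F) (_ : Fintype F) (_ : CharP F p), Nonempty (K ≃* Lie.chevE7.group F)) ∨
  (∃ (F : Type) (_ : Field F) (_ : Fintype F) (_ : CharP F p), Nonempty (K ≃* Lie.chevE8.group F)) ∨
  (∃ (E : Type) (_ : Field E) (_ : Fintype E) (_ : CharP E p) (q : ℕ), IsPrimePow q ∧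
    Fintype.card E = q ^ 2 ∧ Nonempty (K ≃* Lie.twistedE6 E q))

theorem Fam.of_equiv {p : ℕ} {G K : Type*} [Group G] [Group K] (e : G ≃* K) (h : Fam p K) : Fam p G := by
  rcases h with h | h | h | h | h | h | h | h | h | h | h
  · obtain ⟨F, i1, i2, i3, n, h1, ⟨f⟩⟩ := h
    exact Or.inl ⟨F, i1, i2, i3, n, h1, ⟨e.trans f⟩⟩
  · obtain ⟨F, i1, i2, i3, n, h1, ⟨f⟩⟩ := h
    exact Or.inr (Or.inl ⟨F, i1, i2, i3, n, h1, ⟨e.trans f⟩⟩)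
  · obtain ⟨F, i1, i2, i3, n, q, h1, h2, ⟨f⟩⟩ := h
    exact Or.inr (Or.inr (Or.inl ⟨F, i1, i2, i3, n, q, h1, h2, ⟨e.trans f⟩⟩))
  · obtain ⟨F, i1, i2, i3, n, h1, h2, ⟨f⟩⟩ := h
    exact Or.inr (Or.inr (Or.inr (Or.inl ⟨F, i1, i2, i3, n, h1, h2, ⟨e.trans f⟩⟩)))
  · obtain ⟨F, i1, i2, i3, n, h1, ⟨f⟩⟩ := h
    exact Or.inr (Or.inr (Or.inr (Or.inr (Or.inl ⟨F, i1, i2, i3, n, h1, ⟨e.trans f⟩⟩))))
  · obtain ⟨F, i1, i2, i3, n, a, b, h1, h2, ⟨f⟩⟩ := h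
    exact Or.inr (Or.inr (Or.inr (Or.inr (Or.inr (Or.inl ⟨F, i1, i2, i3, n, a, b, h1, h2, ⟨e.trans f⟩⟩)))))
  · obtain ⟨F, i1, i2, i3, ⟨f⟩⟩ := h
    exact Or.inr (Or.inr (Or.inr (Or.inr (Or.inr (Or.inr (Or.inl ⟨F, i1, i2, i3, ⟨e.trans f⟩⟩))))))
  · obtain ⟨F, i1, i2, i3, ⟨f⟩⟩ := h
    exact Or.inr (Or.inr (Or.inr (Or.inr (Or.inr (Or.inr (Or.inr (Or.inl ⟨F, i1, i2, i3, ⟨e.trans f⟩⟩)))))))
  · obtain ⟨F, i1, i2, i3, ⟨f⟩⟩ := h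
    exact Or.inr (Or.inr (Or.inr (Or.inr (Or.inr (Or.inr (Or.inr (Or.inr (Or.inl
      ⟨F, i1, i2, i3, ⟨e.trans f⟩⟩))))))))
  · obtain ⟨F, i1, i2, i3, ⟨f⟩⟩ := h
    exact Or.inr (Or.inr (Or.inr (Or.inr (Or.inr (Or.inr (Or.inr (Or.inr (Or.inr (Or.inl
      ⟨F, i1, i2, i3, ⟨e.trans f⟩⟩)))))))))
  · obtain ⟨F, i1, i2, i3, q, h1, h2, ⟨f⟩⟩ := h
    exact Or.inr (Or.inr (Or.inr (Or.inr (Or.inr (Or.inr (Or.inr (Or.inr (Or.inr (Or.inr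
      ⟨F, i1, i2, i3, q, h1, h2, ⟨e.trans f⟩⟩)))))))))

end Cfsg.Agent.Omega.HOneEnd
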