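import Cfsg.Agent.TitsThree.CharBase
import Cfsg.Agent.Omega.HOneEnd.Fam

/-!
# S1143 with the family list of rank at least three: the frame (copy of `TitsThree.CharBase` with `Fam`)
-/

set_option autoImplicit false

namespace Cfsg.Agent.Omega.HOneEnd.FamBase

open Cfsg.Agent.Tits.Core Cfsg.Agent.Tits.Core.Bldg Cfsg.Agent.Tits Cfsg.Agent.Tits.Exchange
open Cfsg.Agent.Tits.MouTrans Cfsg.Agent.Tits.MouOut
open Cfsg.Agent.Tits.MouDefs (rt Aut mem_Aut Chart Ext Comb)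
open Cfsg.Agent.TitsThree Cfsg.Agent.TitsThree.NormalTrans Cfsg.Agent.TitsThree.Top Cfsg.Agent.Omega.HOneEnd
open Cfsg.Agent.TitsThree.CharBase (relIndex_of_param relIndex_eq_orbit relIndex_ne_one)
open Cfsg.Agent.LieRecognition
open Cfsg.Agent.LieRecognition.BNCox (cA cC cD cE cF)
open MulAction

universe u

/-! ### `SolvedF` -/

variable {I : Type*} {M : CoxeterMatrix I} {W : Type*} [Group W] {cs : CoxeterSystem M W}
variable {C : Type*}

/-- As `Top.Solved`, with the characteristic. -/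
structure SolvedF (Δ : Bldg cs C) : Prop where
  out : ∃ (p : ℕ) (_ : Fact p.Prime) (c d : C) (U : Subgroup (Aut Δ)),
    Δ.Opp c d ∧ U ≤ stabilizer (Aut Δ) c ∧
    (∀ a ∈ stabilizer (Aut Δ) c, ∀ u ∈ U, a * u * a⁻¹ ∈ U) ∧
    IsPGroup p U ∧
    (∀ x, Δ.Opp c x → ∃ u ∈ U, u • d = x) ∧
    (∀ u ∈ U, u • d = d → u = 1) ∧
    (∀ x : C, ∃ n ∈ Subgroup.normalClosure (U : Set (Aut Δ)), n • c = x) ∧
    Group.IsSolvable ↥(stabilizer (Aut Δ) c ⊓ stabilizer (Aut Δ) d) ∧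
    (Nat.card ↥(stabilizer (Aut Δ) c ⊓ stabilizer (Aut Δ) d ⊓
      Subgroup.normalClosure (U : Set (Aut Δ)))).Coprime p ∧
    (∀ i, ∃ a : ℕ, Δ.Param i (p ^ a)) ∧
    (IsSimpleGroup ↥(Subgroup.normalClosure (U : Set (Aut Δ))) →
      Cfsg.Agent.Omega.HOneEnd.Fam p ↥(Subgroup.normalClosure (U : Set (Aut Δ))))

/-- The conclusion: `G` is of Lie type in characteristic `p`, the parameters are powers of `p`. -/
def ConclF (Δ : Bldg cs C) (G : Type*) [Group G] : Prop :=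
  ∃ p : ℕ, p.Prime ∧ (∀ i, ∃ a : ℕ, Δ.Param i (p ^ a)) ∧ Cfsg.Agent.Omega.HOneEnd.Fam p G

/-- **End of the proof**: a simple group acting strongly transitively on a solved building. -/
theorem concl_of_solvedF [Nonempty I] [Finite C] {Δ : Bldg cs C} (ht : Δ.Thick) (hS : SolvedF Δ)
    {G : Type*} [Group G] [IsSimpleGroup G] [MulAction G C] (hG : Δ.StrongAct G) :
    ConclF Δ G := by
  obtain ⟨p, hp, c, d, U, hcd, hUc, hUn, hUp, hUt, hUs, hN, hH, hcop, hpar, hK⟩ := hS.out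
  have : Nonempty C := ⟨c⟩
  have hinj := toAut_injective hG
  let e : G ≃* (toAut hG).range := MonoidHom.ofInjective hinj
  have : IsSimpleGroup (toAut hG).range := e.symm.isSimpleGroup
  have hns : ¬ Group.IsSolvable (toAut hG).range := by
    intro hsol
    have h1 := (IsSimpleGroup.comm_iff_isSolvable (G := (toAut hG).range)).2 hsol
    refine not_comm ht hG fun a b => e.injective ?_
    rw [map_mul, map_mul]
    exact h1 _ _
  have hmain := End.main (A := Aut Δ) (C := C) (c := c) (d := d) (O := {x | Δ.Opp c x}) (U := U)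
    (p := p) ?_ hcd hUc hUn hUp hUt hUs hN hH hcop (toAut hG).range hns ?_ ?_
  · have hs : IsSimpleGroup ↥(Subgroup.normalClosure (U : Set (Aut Δ))) :=
      (MulEquiv.subgroupCongr hmain.1).symm.isSimpleGroup
    exact ⟨p, hp.out, hpar, Fam.of_equiv e (Fam.of_equiv (MulEquiv.subgroupCongr hmain.1) (hK hs))⟩
  · intro a ha x hx
    change Δ.δ c (a • x) = _
    have h1 : Δ.δ (a • c) (a • x) = Δ.δ c x := δ_smul a c x
    rw [mem_stabilizer_iff.1 ha] at h1
    rw [h1]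
    exact hx
  · intro x
    obtain ⟨g, hg, -⟩ := hG.trans c c x x (by rw [Δ.δ_self, Δ.δ_self])
    exact ⟨toAut hG g, ⟨g, rfl⟩, by rw [toAut_smul, hg]⟩
  · intro x hx
    obtain ⟨g, hg1, hg2⟩ := hG.trans c d c x (hcd.trans (Eq.symm hx))
    exact ⟨toAut hG g, ⟨g, rfl⟩, by rw [toAut_smul, hg1], by rw [toAut_smul, hg2]⟩

/-- **The structure `SolvedF`** from the Moufang property. -/
theorem solvedF [Finite I] [Finite W] [Finite C] {Δ : Bldg cs C} {σ : W → C}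
    (H : Sys Δ (Aut Δ) σ (UU Δ σ)) {p : ℕ} [Fact p.Prime]
    (hU : ∀ i, IsPGroup p (UU Δ σ (rt cs 1 i)))
    (hH : Group.IsSolvable ↥(stabilizer (Aut Δ) (σ 1) ⊓ stabilizer (Aut Δ) (σ (w0 cs))))
    (hcop : (Nat.card ↥(stabilizer (Aut Δ) (σ 1) ⊓ stabilizer (Aut Δ) (σ (w0 cs)) ⊓
      Gg cs (UU Δ σ))).Coprime p)
    (hK : IsSimpleGroup ↥(Gg cs (UU Δ σ)) → Cfsg.Agent.Omega.HOneEnd.Fam p ↥(Gg cs (UU Δ σ))) :
    SolvedF Δ := by
  have e := H.Gg_eq
  have : Finite (Aut Δ) := by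
    refine Finite.of_injective (fun a : Aut Δ => (MulAction.toPerm a : Equiv.Perm C))
      fun a b hab => ?_
    have h1 : b⁻¹ * a = 1 := H.faith _ fun x => by
      rw [mul_smul, inv_smul_eq_iff]
      exact congrFun (congrArg DFunLike.coe hab) x
    exact (inv_mul_eq_one.1 h1).symm
  refine ⟨p, inferInstance, σ 1, σ (w0 cs), Up cs (UU Δ σ), H.opp, fun u hu => H.Up_fix hu,
    fun a ha u hu => H.Up_normal ha hu, EndHyp.Up_isPGroup H hU, fun x hx => H.Up_trans _ x hx,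
    fun u hu h => H.Up_free hu h, fun x => ?_, hH, ?_, ?_, ?_⟩
  · rw [← e]
    exact H.Gtrans x
  · rw [← e]
    exact hcop
  · intro i
    obtain ⟨a, ha⟩ := (hU i).exists_card_eq
    exact ⟨a, ha ▸ EndHyp.param H i⟩
  · rw [← e]
    exact hK

/-- Every finite thick building of type `M` is solved, with the characteristic. -/
def AllSolvedF {n : ℕ} (M : CoxeterMatrix (Fin n)) : Prop :=
  ∀ (W C : Type u) [Group W] [Finite W] [Finite C] [Nonempty C] (cs : CoxeterSystem M W)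
    (Δ : Bldg cs C), Δ.Thick → SolvedF Δ

/-- The conclusion in terms of the (B,N)-pair. -/
def BNConclF {G : Type*} [Group G] (P : Cfsg.BNPair G) : Prop :=
  ∃ p : ℕ, p.Prime ∧ Cfsg.Agent.Omega.HOneEnd.Fam p G ∧
    ∀ s ∈ P.S, ∃ a : ℕ, (P.B.map (MulAut.conj s).toMonoidHom).relIndex P.B = p ^ a

/-- From the building to the (B,N)-pair. -/
theorem bnConclF_of_concl {G : Type*} [Group G] [Finite G] (P : Cfsg.BNPair G) {I : Type*}
    {M : CoxeterMatrix I} {e : I ≃ P.S} [hN : ((P.B ⊓ P.N).subgroupOf P.N).Normal]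
    {cs : CoxeterSystem M (OfBN.WP P)} {Δ : Bldg cs (G ⧸ P.B)}
    (hcs : ∀ i, cs.simple i = QuotientGroup.mk (⟨(e i : G), P.subset (e i).2⟩ : P.N))
    (hδ : ∀ x y, Δ.δ x y = OfBN.dist P x y) (hG : Δ.StrongAct G) (h : ConclF Δ G) : BNConclF P := by
  obtain ⟨p, hp, hpar, hK⟩ := h
  refine ⟨p, hp, hK, fun s hs => ?_⟩
  obtain ⟨i, hi⟩ := e.surjective ⟨s, hs⟩
  obtain ⟨a, ha⟩ := hpar i
  refine ⟨a, ?_⟩
  have hsi : (e i : G) = s := by rw [hi]
  have h1 : Δ.δ (QuotientGroup.mk 1) (QuotientGroup.mk s) = cs.simple i := by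
    rw [hδ, OfBN.dist_mk, inv_one, one_mul, hcs]
    refine OfBN.wt_of_mem P (n := ⟨(e i : G), P.subset (e i).2⟩) ?_
    rw [← hsi]
    exact DoubleCoset.mem_doubleCoset.mpr ⟨1, P.B.one_mem, 1, P.B.one_mem, by simp⟩
  have h2 := relIndex_of_param hG ha h1
  rw [← h2]
  congr 1
  · ext g
    rw [MulAction.mem_stabilizer_iff, MulAction.Quotient.smul_mk, eq_comm, QuotientGroup.eq,
      Subgroup.mem_map]
    constructor
    · rintro ⟨b, hb, rfl⟩
      simpa [mul_assoc] using hb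
    · intro hg
      exact ⟨_, hg, by simp [mul_assoc]⟩
  · ext g
    rw [MulAction.mem_stabilizer_iff, MulAction.Quotient.smul_mk, eq_comm, QuotientGroup.eq]
    simp

theorem bnConclF_of_allSolved {n : ℕ} (hn : 3 ≤ n) {M : CoxeterMatrix (Fin n)}
    (hM : AllSolvedF.{u} M) {G : Type u} [Group G] [Finite G] [IsSimpleGroup G]
    (P : Cfsg.BNPair G) {e : Fin n ≃ P.S} (h : BNType P M e) : BNConclF P := by
  obtain ⟨hNor, cs, Δ, hcs, hδ, ht, hSA⟩ := OfBN.exists_bldg P h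
  have : Nonempty (Fin n) := ⟨⟨0, by omega⟩⟩
  have hS : P.S.Nonempty := ⟨_, (e ⟨0, by omega⟩).2⟩
  have hcore := OfBN.normalCore_eq_bot P hS
  have hfin : Finite (OfBN.WP P) := inferInstance
  exact bnConclF_of_concl P hcs hδ (hSA hcore)
    (concl_of_solvedF ht (hM _ _ cs Δ ht) (hSA hcore))

/-- S1143 with the characteristic from the seven families. -/
theorem main_of (hA : ∀ n, 3 ≤ n → AllSolvedF.{u} (cA n)) (hC : ∀ n, 3 ≤ n → AllSolvedF.{u} (cC n))
    (hD : ∀ n, 4 ≤ n → AllSolvedF.{u} (cD n)) (hE6 : AllSolvedF.{u} (cE 6))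
    (hE7 : AllSolvedF.{u} (cE 7)) (hE8 : AllSolvedF.{u} (cE 8)) (hF : AllSolvedF.{u} cF)
    {G : Type u} [Group G] [Finite G] [IsSimpleGroup G]
    (P : Cfsg.BNPair G) (h3 : 3 ≤ P.rank) (hirr : P.Irreducible) : BNConclF P := by
  rcases BNCox.exists_type P hirr h3 with h | h | h | h | h | h | h
  · obtain ⟨n, v, hn, h⟩ := h
    exact bnConclF_of_allSolved hn (hA n hn) P h
  · obtain ⟨n, v, hn, h⟩ := h
    exact bnConclF_of_allSolved hn (hC n hn) P h
  · obtain ⟨n, v, hn, h⟩ := h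
    exact bnConclF_of_allSolved (by omega) (hD n hn) P h
  · obtain ⟨v, h⟩ := h
    exact bnConclF_of_allSolved (by omega) hE6 P h
  · obtain ⟨v, h⟩ := h
    exact bnConclF_of_allSolved (by omega) hE7 P h
  · obtain ⟨v, h⟩ := h
    exact bnConclF_of_allSolved (by omega) hE8 P h
  · obtain ⟨v, h⟩ := h
    exact bnConclF_of_allSolved (by omega) hF P h

/-! ### users' form -/

/-- If `B = U (B ∩ N)` with `U` a `p`-subgroup of `B`, the characteristic is `p`. -/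
theorem char_of_split {G : Type*} [Group G] [Finite G] (P : Cfsg.BNPair G) (hS : P.S.Nonempty)
    (h : BNConclF P) {p : ℕ} (hp : p.Prime) (U : Subgroup G) (hU : IsPGroup p U)
    (hB : ∀ b ∈ P.B, ∃ u ∈ U, ∃ t ∈ P.B ⊓ P.N, b = u * t) (hUB : U ≤ P.B) :
    Cfsg.Agent.Omega.HOneEnd.Fam p G := by
  obtain ⟨r, hr, hK, hpar⟩ := h
  obtain ⟨s, hs⟩ := hS
  obtain ⟨a, ha⟩ := hpar s hs
  have : Fact p.Prime := ⟨hp⟩
  suffices hpr : p = r by rw [hpr]; exact hK
  have h1 : MulAction.orbit P.B (QuotientGroup.mk s : G ⧸ P.B) =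
      MulAction.orbit U (QuotientGroup.mk s : G ⧸ P.B) := by
    ext y
    constructor
    · rintro ⟨⟨b, hb⟩, rfl⟩
      obtain ⟨u, hu, t, ht, rfl⟩ := hB b hb
      refine ⟨⟨u, hu⟩, ?_⟩
      change (QuotientGroup.mk (u * s) : G ⧸ P.B) = QuotientGroup.mk (u * t * s)
      rw [QuotientGroup.eq]
      have h2 := P.conj_mem s⁻¹ (inv_mem (P.subset hs)) t ht
      have h3 : (u * s)⁻¹ * (u * t * s) = s⁻¹ * t * s⁻¹⁻¹ := by group
      rw [h3]; exact h2
    · rintro ⟨⟨u, hu⟩, rfl⟩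
      exact ⟨⟨u, hUB hu⟩, rfl⟩
  have h2 := relIndex_eq_orbit P.B s
  rw [h1, ha] at h2
  obtain ⟨k, hk⟩ := hU.card_orbit (QuotientGroup.mk s : G ⧸ P.B)
  have h3 : r ^ a = p ^ k := by
    rw [h2, ← hk]; rfl
  have ha0 : a ≠ 0 := by
    rintro rfl
    exact relIndex_ne_one P hs (by rw [ha, pow_zero])
  have hk0 : k ≠ 0 := by
    rintro rfl
    rw [pow_zero] at h3
    have := Nat.one_lt_pow ha0 hr.one_lt
    omega
  have h4 : p ∣ r ^ a := h3 ▸ dvd_pow_self p hk0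
  exact (Nat.prime_dvd_prime_iff_eq hp hr).1 (hp.dvd_of_dvd_pow h4)

end Cfsg.Agent.Omega.HOneEnd.FamBase
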