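import Cfsg.Agent.TitsThree.CnModel
import Cfsg.Agent.TitsThree.KInstSp
import Cfsg.Agent.Omega.HOneEnd.FamBase
import Cfsg.Agent.TitsThree.SolvedCN
import Cfsg.Agent.TitsThree.EndCN

/-!
# S1143 with the family list, type `C_n`: models and identification (copy of `TitsThree.CharCN` with `Fam`)
-/

set_option autoImplicit false

namespace Cfsg.Agent.Omega.HOneEnd.FamCN

open Cfsg Cfsg.Agent.TitsThree
open Cfsg.Agent.Tits.Core Cfsg.Agent.Tits.Core.Bldg Cfsg.Agent.Tits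
open Cfsg.Agent.LieRecognition.BNCox
open Cfsg.Agent.TitsThree.B2Pkg Cfsg.Agent.TitsThree.Pack Cfsg.Agent.TitsThree.StdData
  Cfsg.Agent.TitsThree.Top Cfsg.Agent.TitsThree.CnModel Cfsg.Agent.TitsThree.KSideO
  Cfsg.Agent.TitsThree.KInstU Cfsg.Agent.TitsThree.KInstSp Cfsg.Agent.Omega.HOneEnd.FamBase
  Cfsg.Agent.TitsThree.KSideUDesc Cfsg.Agent.TitsThree.KSideU

universe u v

/-- There is a simple group of Lie type in the characteristic of `F` with a K side package over `D`. -/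
def HasModelF {F : Type u} [Field F] {V : Type v} [AddCommGroup V] [Module F V] (D : PQDatum F V)
    (n : ℕ) : Prop :=
  ∃ (K : Type) (_ : Group K), IsSimpleGroup K ∧ (∀ p : ℕ, CharP F p → Cfsg.Agent.Omega.HOneEnd.Fam p K) ∧
    Nonempty (KCN K D (n + 1))

theorem hasModelF_Sp {F : Type} [Field F] [Fintype F] (n : ℕ) : HasModelF (stdSp F) (n + 1) :=
  ⟨PSp (n + 3) F, inferInstance,
    Cfsg.Agent.S0270.result (n + 3) (by omega) fun h2 => by omega,
    fun _ hp => Or.inr (Or.inl ⟨F, inferInstance, inferInstance, hp, n + 3, by omega, ⟨MulEquiv.refl _⟩⟩),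
    ⟨kcnSp F (n + 1)⟩⟩

/-- Odd dimensional orthogonal groups, odd characteristic. -/
theorem hasModelF_O1 {F : Type} [Field F] [Fintype F] (h2 : (2 : F) ≠ 0) (n : ℕ) :
    HasModelF (stdO1 F) (n + 1) := by
  have hodd := odd_card_of_two_ne h2
  exact ⟨Cfsg.POmega F (Cfsg.quadFormOdd (n + 3) F), inferInstance,
      Cfsg.Agent.S0295.result hodd (n + 3) (by omega),
      fun _ hp => Or.inr (Or.inr (Or.inr (Or.inl ⟨F, inferInstance, inferInstance, hp, n + 3,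
        by omega, h2, ⟨MulEquiv.refl _⟩⟩))),
      exists_KCN_odd F h2 (n + 1)⟩

/-- Even dimensional orthogonal groups of minus type. -/
theorem hasModelF_O2 {F : Type} [Field F] [Fintype F] (a b : F)
    (hab : ∀ z₁ z₂ : F, z₁ ^ 2 + a * z₁ * z₂ + b * z₂ ^ 2 = 0 → z₁ = 0 ∧ z₂ = 0) (n : ℕ) :
    HasModelF (stdO2 F a b hab) (n + 1) :=
  ⟨Cfsg.POmega F (Cfsg.quadFormMinus (n + 3) F a b), inferInstance,
      Cfsg.Agent.S0297.result (n + 4) (by omega) a b hab,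
      fun _ hp => Or.inr (Or.inr (Or.inr (Or.inr (Or.inr (Or.inl ⟨F, inferInstance, inferInstance,
        hp, n + 3, a, b, by omega, hab, ⟨MulEquiv.refl _⟩⟩))))),
      exists_KCN_minus F a b hab (n + 1)⟩

/-- Even dimensional unitary groups. -/
theorem hasModelF_U0 {F : Type} [Field F] [Fintype F] (σ : F ≃+* F) (hσ : ∀ x, σ (σ x) = x)
    (hne : ∃ x, σ x ≠ x) (n : ℕ) : HasModelF (stdU0 F σ hσ) (n + 1) := by
  obtain ⟨q, hF, rfl⟩ := exists_conj σ hσ hne
  obtain ⟨W, hW⟩ := exists_wframe_even (N := 2 * (n + 1 + 2)) hF rfl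
  exact ⟨PSU (2 * (n + 1 + 2)) F q, inferInstance, KSideUDesc.isSimple hF (by omega),
    fun _ hp => Or.inr (Or.inr (Or.inl ⟨F, inferInstance, inferInstance, hp, 2 * (n + 1 + 2), q, hF,
      by omega, ⟨MulEquiv.refl _⟩⟩)),
    ⟨FrameCN.kcn (KInstU.model hF (by omega) W) (emb0 hF W hσ) (emb0_surj hF W hσ hW)⟩⟩

/-- Odd dimensional unitary groups. -/
theorem hasModelF_U1 {F : Type} [Field F] [Fintype F] (σ : F ≃+* F) (hσ : ∀ x, σ (σ x) = x)
    (hne : ∃ x, σ x ≠ x) (n : ℕ) : HasModelF (stdU1 F σ hσ) (n + 1) := by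
  obtain ⟨q, hF, rfl⟩ := exists_conj σ hσ hne
  obtain ⟨W, d, hd, hW⟩ := exists_wframe_odd (N := 2 * (n + 1 + 2) + 1) hF rfl
  exact ⟨PSU (2 * (n + 1 + 2) + 1) F q, inferInstance, KSideUDesc.isSimple hF (by omega),
    fun _ hp => Or.inr (Or.inr (Or.inl ⟨F, inferInstance, inferInstance, hp, 2 * (n + 1 + 2) + 1, q, hF,
      by omega, ⟨MulEquiv.refl _⟩⟩)),
    ⟨FrameCN.kcn (KInstU.model hF (by omega) W) (emb1 hF W hσ d hd hW)
      (emb1_surj hF W hσ d hd hW)⟩⟩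

/-- **Identification** with the characteristic. -/
theorem charConcl_of_gcn {W : Type*} [Group W] [Finite W] {C : Type*} {n : ℕ} (hn : 1 ≤ n)
    {cs : CoxeterSystem (cC (n + 2)) W} {Δ : Bldg cs C} (hth : Δ.Thick) {G : Type*} [Group G]
    [MulAction G C] (hA : Δ.StrongAct G) {F : Type*} [Field F] {V : Type*} [AddCommGroup V]
    [Module F V] {D : PQDatum F V} (ex : ∃ p : D.T, p.c ≠ 0) (g : GCN (n := n + 1) Δ G D)
    (h : HasModelF D n) {p : ℕ} (hp : CharP F p) : Cfsg.Agent.Omega.HOneEnd.Fam p G := by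
  obtain ⟨K, i1, i2, h1, ⟨k⟩⟩ := h
  obtain ⟨e⟩ := AssembleCN.nonempty_mulEquiv' hth hA (SolvedCN.conn_cC (n + 2)) (by omega) ex g k
  exact Cfsg.Agent.Omega.HOneEnd.Fam.of_equiv e (h1 p hp)

open Cfsg.Agent.Tits.MouOut Cfsg.Agent.TitsThree.GCNOfSys
open Cfsg.Agent.Tits.MouDefs (rt Aut Chart)
open Cfsg.Agent.TitsThree.SolvedCN (ex_sp ex_o1 ex_o2 ex_u0 ex_u1)

open Cfsg.Agent.TitsThree.EndII in
/-- `SolvedF Δ` from the G side over a good datum with a model. -/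
theorem solvedF_of_out {W : Type*} [Group W] [Finite W] {C : Type*} [Finite C] {k : ℕ}
    {cs : CoxeterSystem (cC (k + 3)) W} {Δ : Bldg cs C} (hth : Δ.Thick) {σ : W → C}
    (H : Sys Δ (Aut Δ) σ (UU Δ σ)) {F : Type*} [Field F] [Finite F] {V : Type*} [AddCommGroup V]
    [Module F V] [Finite V] {D : PQDatum F V} (good : Good D) (ex : ∃ p : D.T, p.c ≠ 0)
    (h : Out (k := k + 1) Δ σ D) (hm : HasModelF D (k + 1)) : SolvedF Δ := by
  obtain ⟨P, -, -, r, rT, sl, injT⟩ := id h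
  obtain ⟨p, hp⟩ := CharP.exists F
  have : Fact p.Prime := ⟨CharP.char_is_prime F p⟩
  have : Finite (Aut Δ) := by
    refine Finite.of_injective (fun a : Aut Δ => (MulAction.toPerm a : Equiv.Perm C)) fun a b hab => ?_
    have h1 : b⁻¹ * a = 1 := H.faith _ fun x => by
      rw [mul_smul, inv_smul_eq_iff]
      exact congrFun (congrArg DFunLike.coe hab) x
    exact (inv_mul_eq_one.1 h1).symm
  have R : EndCN.RangesCN P.toCN := ⟨r, rT, sl, injT⟩
  exact FamBase.solvedF H (p := p) (EndCN.isPGroup R) (EndCN.solvable H (by omega) R good ex)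
    (EndCN.coprime H (by omega) R good ex)
    fun _ => charConcl_of_gcn (n := k + 1) (by omega) hth H.Gg_strongAct ex P hm hp

open Cfsg.Agent.TitsThree.EndII in
/-- Every finite thick building of type `C_{k+3}` is solved. -/
theorem solvedF {W : Type*} [Group W] [Finite W] {C : Type*} [Finite C] [Nonempty C] {k : ℕ}
    {cs : CoxeterSystem (cC (k + 3)) W} {Δ : Bldg cs C} (hth : Δ.Thick) : SolvedF Δ := by
  obtain ⟨x⟩ := (inferInstance : Nonempty C)
  obtain ⟨y, hxy⟩ : ∃ y, Δ.Opp x y := Δ.exists_δ x (w0 cs)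
  obtain ⟨σ, hσ, -⟩ := MouDefs.exists_chart hxy (1 : W)
  have H := MouAll.sys (MouAll.lab_C (k + 3)) (CombInst.diag_C (by omega)) hth hσ
  obtain ⟨F, i1, i2, h⟩ := GCNMain.exists_out hth hσ
  have : Fintype F := Fintype.ofFinite F
  rcases h with h | ⟨h2, h⟩ | ⟨a, b, hab, h⟩ | ⟨τ, hτ, hne, h⟩ | ⟨τ, hτ, hne, h⟩
  · exact solvedF_of_out hth H good_sp (ex_sp F) h (hasModelF_Sp k)
  · exact solvedF_of_out hth H good_o1 (ex_o1 F) h (hasModelF_O1 h2 k)
  · exact solvedF_of_out hth H (good_o2 hab) (ex_o2 F a b hab) h (hasModelF_O2 a b hab k)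
  · exact solvedF_of_out hth H (good_u0 τ hτ hne) (ex_u0 τ hτ hne) h (hasModelF_U0 τ hτ hne k)
  · exact solvedF_of_out hth H (good_u1 τ hτ hne) (ex_u1 τ hτ hne) h (hasModelF_U1 τ hτ hne k)

/-- **Type `C_n`, `n ≥ 3`.** -/
theorem allSolvedF (n : ℕ) (hn : 3 ≤ n) : AllSolvedF.{u} (cC n) := by
  obtain ⟨k, rfl⟩ : ∃ k, n = k + 3 := ⟨n - 3, by omega⟩
  intro W C _ _ _ _ cs Δ hth
  exact solvedF hth

end Cfsg.Agent.Omega.HOneEnd.FamCN
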