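import Cfsg.Agent.Omega.HOneEnd.ParityBase
import Cfsg.Agent.Omega.HOneEnd.FamExport

/-!
# LeafH1, END: the characteristic is two (helper368)

**`fam_two`** : a finite simple group with an irreducible (B,N)-pair of rank at least 3 such that `B` contains a subgroup
of odd index satisfies `Fam 2`.
-/

set_option autoImplicit false

namespace Cfsg.Agent.Omega.HOneEnd.Parity

universe u

theorem fam_two {L : Type u} [Group L] [Finite L] [IsSimpleGroup L] (Q : Cfsg.BNPair L) (h3 : 3 ≤ Q.rank)
    (hirr : Q.Irreducible) {U : Subgroup L} (hU : U ≤ Q.B) (hodd : Odd U.index) :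
    Cfsg.Agent.Omega.HOneEnd.Fam 2 L := by
  obtain ⟨p, hp, hF, hpar⟩ := FamExport.main Q h3 hirr
  obtain ⟨s, hs⟩ := FamExport.nonempty_S Q h3
  obtain ⟨a, ha⟩ := hpar s hs
  rwa [two_of_odd Q hs hU hodd hp ha] at hF

end Cfsg.Agent.Omega.HOneEnd.Parity
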