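import Cfsg.Agent.KFacts.SysSp
import Cfsg.Agent.Omega.All.SpN.Asm
import Cfsg.Agent.Omega.All.SpN.Off

/-!
# The END of II.0h1, `Sp_2n(q)`: from `φ : G₀ ≃* PSp m F` to `SpDat` (helper165)

* `center_Sy` : `Z(Sp_2n(F)) = 1`, `char F = 2`; `toP : Sy n F ≃* PSp n F`;
* `eSp_eq` : the root element `eSp m F ρ t` of a short root `ρ = wt a + wt b` is the image of `sx (cv a) (cv b) t`;
* `exists_spDat` : `SpDat` for `R` a short root group, `R ≤ S ⊓ G₀ ≤ C(R)`.
-/

set_option autoImplicit false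
set_option linter.unusedSectionVars false

namespace Cfsg.Agent.Omega.HOneEnd.SpIota

open Cfsg Cfsg.Agent.ClassicalGeometry.SympBasic Cfsg.Agent.ClassicalGeometry.SympAutSemi
open Cfsg.Agent.OddHalf.SpN Cfsg.Agent.OddHalf.SpN.Out
open Subgroup Cfsg.Agent.ZN
open Cfsg.Agent.Nodes.TypeC Cfsg.Agent.TitsThree Cfsg.Agent.TitsThree.Siegel
open Cfsg.Agent.TitsThree.SpIdent (isos)
open Cfsg.Agent.KFacts.SysSp (eSp hypC_Sp eM eI eC PE)
open scoped Matrix

variable {n : ℕ} {F : Type*} [Field F] [CharP F 2]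

/-- `Z(Sp_2n(F)) = 1` -/
theorem center_Sy : Subgroup.center (Sy n F) = ⊥ := by
  rw [eq_bot_iff]
  intro A hA
  rw [Subgroup.mem_bot]
  have h1 : SpIdent.toPSp (⟨SpIdent.ofSp A, SpIdent.ofSp_mem A⟩ : isos (SpIdent.form n F)) = 1 := by
    show QuotientGroup.mk' _ (SpIdent.toSp _) = 1
    rw [SpIdent.toSp_ofSp]
    exact (QuotientGroup.eq_one_iff A).2 hA
  obtain ⟨a, ha, h2⟩ := SpIdent.exists_smul_of_toPSp_eq_one h1
  have ha1 : a = 1 := eq_one_of_sq (by rw [← pow_two]; exact ha)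
  apply rho_injective
  ext1 v
  rw [map_one]
  have h3 : rho n F A v = a • v := h2 v
  rw [h3, ha1, one_smul]
  rfl

/-- the projection `Sp → PSp` -/
def toP (n : ℕ) (F : Type*) [Field F] : Sy n F →* PSp n F := QuotientGroup.mk' _

theorem toP_injective : Function.Injective (toP n F) := by
  rw [← MonoidHom.ker_eq_bot_iff]
  exact (QuotientGroup.ker_mk' _).trans center_Sy

theorem toP_surjective : Function.Surjective (toP n F) := QuotientGroup.mk'_surjective _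

/-- the basis vectors of the frame -/
def cv (a : Fin n × Bool) : Ix n := if a.2 then Sum.inr a.1 else Sum.inl a.1

theorem frame_b (a : Fin n × Bool) : (SpIdent.frame n F).b a = be n F (cv a) := by
  obtain ⟨i, b⟩ := a
  cases b <;> rfl

theorem dj_cv {a b : Fin n × Bool} (h : a.1 ≠ b.1) : Dj (cv a) (cv b) := by
  obtain ⟨i, s⟩ := a
  obtain ⟨j, t⟩ := b
  cases s <;> cases t <;> simp_all [cv, Dj]

/-- **the short root elements** -/
theorem eSp_eq {ρ : Fin n → ℤ} {a b : Fin n × Bool} (hab : a.1 ≠ b.1) (e : ee ρ = wt a + wt b) (t : F) :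
    eSp n F ρ t = toP n F (sx (cv a) (cv b) t) := by
  have h1 : eSp n F ρ t = SpIdent.toPSp (⟨eC (hypC_Sp n F) ρ t, Cfsg.Agent.KFacts.SysSp.eC_mem (hypC_Sp n F)
    (KInstSp.model n F) ρ t⟩ : isos (SpIdent.form n F)) := rfl
  rw [h1]
  show toP n F (SpIdent.toSp _) = _
  congr 1
  apply rho_injective
  ext1 v
  have h2 : rho n F (SpIdent.toSp (⟨eC (hypC_Sp n F) ρ t, Cfsg.Agent.KFacts.SysSp.eC_mem (hypC_Sp n F)
    (KInstSp.model n F) ρ t⟩ : isos (SpIdent.form n F))) v = eC (hypC_Sp n F) ρ t v := SpIdent.toSp_mulVec _ v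
  rw [h2, Cfsg.Agent.KFacts.SysSp.eC_eq (hypC_Sp n F) (Or.inl hab) e, Cfsg.Agent.KFacts.SysSp.PE_ne _ hab,
    WittFrame.Frame.X_eq _ hab, Siegel.HForm.sie_apply, rho_sx (dj_cv hab)]
  have h3 : (SpIdent.frame n F).sc b t = t := by
    simp only [WittFrame.Frame.sc, WittFrame.Frame.η, SpIdent.form_ε, SpIdent.form_σ, inv_neg, inv_one]
    split_ifs <;> simp [CharTwo.neg_eq]
  have h4 : ∀ z, (SpIdent.form n F).h v z = sympForm n F v z := fun z => rfl
  rw [h3, frame_b, frame_b, h4, h4, SpIdent.form_ε, sympForm_smul_right, form_be, form_be, zero_mul, zero_smul, add_zero,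
    smul_smul]
  ext k
  simp only [Pi.add_apply, Pi.sub_apply, Pi.smul_apply, smul_eq_mul, inv_neg, inv_one]
  ring

/-! ### the group `R` -/

/-- short root elements are alternating -/
theorem alt_sx {i j : Ix n} (hd : Dj i j) (t : F) (v : Ix n → F) : sympForm n F (rho n F (sx i j t) v) v = 0 := by
  rw [rho_sx hd, sympForm_add_left, sympForm_add_left, sympForm_smul_left, sympForm_smul_left, sympForm_self,
    Cfsg.Agent.Omega.All.SpN.form_be', Cfsg.Agent.Omega.All.SpN.form_be']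
  linear_combination (t * v (neg i) * v (neg j)) * (two0 : (2 : F) = 0)

theorem mem_X12_of_alt (hn : 3 ≤ n) {A : Sy n F} (hA : A ∈ Zz hn) (h : ∀ v, sympForm n F (rho n F A v) v = 0) :
    A ∈ X12 hn := by
  obtain ⟨a, b, rfl⟩ := hA
  have h1 := h (be n F (Sum.inr (c0 hn)))
  rw [rho_zz, form_be, neg_inr] at h1
  have e := c01 hn
  have h2 : b = 0 := by
    simpa [be_apply, e, e.symm] using h1
  exact ⟨a, by rw [h2]⟩

variable [Finite F] {G : Type*} [Group G]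

theorem R_eq [Finite G] {ι₀ ι : Sy n F →* G} (hι₀ : Function.Injective ι₀) {y : G}
    (hy : y ∈ normalizer (ι₀.range : Set G)) (hιe : ∀ A, ι A = y * ι₀ A * y⁻¹) (hr : ι.range = ι₀.range)
    {S : Subgroup G} (H : Cfsg.Agent.Omega.All.SpN.Hyp ι S) (hn : 3 ≤ n) {R : Subgroup G} {i j : Ix n} (hd : Dj i j)
    (hR : ∀ x, x ∈ R ↔ ∃ t : F, x = ι₀ (sx i j t)) (hSR : S ⊓ ι.range ≤ centralizer (R : Set G)) :
    R = (X12 hn).map ι := by
  apply Subgroup.eq_of_le_of_card_ge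
  · intro x hx
    obtain ⟨t, ht⟩ := (hR x).1 hx
    have hy' : y⁻¹ ∈ normalizer (ι.range : Set G) := by rw [hr]; exact inv_mem hy
    obtain ⟨s, φ, hs, ha⟩ := exists_acts hn H.inj hy'
    obtain ⟨C, hC, hC'⟩ := ha (sx i j t)
    have hx' : x = ι C := by
      rw [← hC, hιe, ht]; group
    have hU : ∀ A, A ∈ Up n F ↔ ι A ∈ S ⊓ ι.range := by
      intro A
      rw [H.U_eq]
      exact ⟨fun h => ⟨A, h, rfl⟩, fun ⟨A', h, e⟩ => H.inj e ▸ h⟩
    have hCz : C ∈ Zz hn := by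
      rw [mem_Zz_iff]
      intro D hD
      apply H.inj
      rw [map_mul, map_mul]
      have h1 := Subgroup.mem_centralizer_iff.1 (hSR ((hU D).1 hD)) x hx
      rw [hx'] at h1
      exact h1.symm
    refine ⟨C, mem_X12_of_alt hn hCz fun v => ?_, hx'.symm⟩
    have h2 : rho n F C v = s (rho n F (sx i j t) (s⁻¹ v)) := by rw [hC']; rfl
    have h3 : v = s (s⁻¹ v) := (perm_apply_inv_self s v).symm
    rw [h2]
    conv_lhs => rw [h3]
    rw [perm_inv_apply_self, hs.form, alt_sx hd, map_zero]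
  · have h1 : Nat.card ↥((X12 hn).map ι) ≤ Nat.card F := by
      apply Nat.card_le_card_of_surjective (fun t : F => (⟨ι (zz hn t 0), ⟨_, ⟨t, rfl⟩, rfl⟩⟩ : ↥((X12 hn).map ι)))
      rintro ⟨_, ⟨_, ⟨t, rfl⟩, rfl⟩⟩
      exact ⟨t, rfl⟩
    refine h1.trans ?_
    apply Nat.card_le_card_of_injective (fun t : F => (⟨ι₀ (sx i j t), (hR _).2 ⟨t, rfl⟩⟩ : R))
    intro t t' htt
    exact sx_inj hd (hι₀ (congrArg Subtype.val htt))

omit [Finite F] in
/-- The embedding `Sp → G` belonging to `φ : G₀ ≃* PSp`. -/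
noncomputable def iota {G₀ : Subgroup G} (φ : ↥G₀ ≃* PSp n F) : Sy n F →* G :=
  G₀.subtype.comp (φ.symm.toMonoidHom.comp (toP n F))

omit [Finite F] in
theorem iota_inj {G₀ : Subgroup G} (φ : ↥G₀ ≃* PSp n F) : Function.Injective (iota φ) := by
  intro A C h
  have h1 : φ.symm (toP n F A) = φ.symm (toP n F C) := Subtype.ext h
  exact toP_injective (φ.symm.injective h1)

omit [Finite F] in
theorem iota_range {G₀ : Subgroup G} (φ : ↥G₀ ≃* PSp n F) : (iota φ).range = G₀ := by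
  ext x
  constructor
  · rintro ⟨A, rfl⟩
    exact (φ.symm (toP n F A)).2
  · intro hx
    obtain ⟨A, hA⟩ := toP_surjective (n := n) (F := F) (φ ⟨x, hx⟩)
    exact ⟨A, by show ((φ.symm (toP n F A) : ↥G₀) : G) = x; rw [hA, MulEquiv.symm_apply_apply]⟩

/-- **From `φ : G₀ ≃* PSp m F` to `SpDat`**: `R` a short root group with `R ≤ S ⊓ G₀ ≤ C(R)`. -/
theorem exists_spDat {G : Type*} [Group G] [Finite G] (S : Sylow 2 G) {G₀ R : Subgroup G} (hn : 3 ≤ n)
    (φ : ↥G₀ ≃* PSp n F) (hSG : (S : Subgroup G) ≤ normalizer (G₀ : Set G)) (hcen : centralizer (G₀ : Set G) = ⊥)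
    (hNR : normalizer (R : Set G) ≤ normalizer (G₀ : Set G)) (hRS : R ≤ (S : Subgroup G) ⊓ G₀)
    (hSR : (S : Subgroup G) ⊓ G₀ ≤ centralizer (R : Set G)) {ρ : Fin n → ℤ} {a b : Fin n × Bool} (hab : a.1 ≠ b.1)
    (e : ee ρ = wt a + wt b) (hR : ∀ x : ↥G₀, (x : G) ∈ R ↔ ∃ t : F, φ x = eSp n F ρ t) :
    ∃ C Q U Ul : Subgroup G, Cfsg.Agent.Omega.All.HOne.SpDat (S : Subgroup G) ((S : Subgroup G) ⊓ G₀)
      (normalizer (G₀ : Set G)) C R Q U Ul := by
  have hr₀ := iota_range φ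
  have hcen' : ∀ c : G, (∀ A, iota φ A * c = c * iota φ A) → c = 1 := by
    intro c hc
    have h1 : c ∈ centralizer (G₀ : Set G) := by
      rw [Subgroup.mem_centralizer_iff]
      intro g hg
      rw [SetLike.mem_coe, ← hr₀] at hg
      obtain ⟨A, rfl⟩ := hg
      exact hc A
    rwa [hcen, Subgroup.mem_bot] at h1
  obtain ⟨ι, y, hy, hιe, hr, H⟩ := Cfsg.Agent.Omega.All.SpN.exists_hyp (iota_inj φ) hcen' S (by rw [hr₀]; exact hSG)
  have hRι : ∀ x, x ∈ R ↔ ∃ t : F, x = iota φ (sx (cv a) (cv b) t) := by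
    intro x
    constructor
    · intro hx
      obtain ⟨t, ht⟩ := (hR ⟨x, (hRS hx).2⟩).1 hx
      refine ⟨t, ?_⟩
      rw [eSp_eq hab e] at ht
      show x = ((φ.symm (toP n F _) : ↥G₀) : G)
      rw [← ht, MulEquiv.symm_apply_apply]
    · rintro ⟨t, rfl⟩
      exact (hR (φ.symm (toP n F _))).2 ⟨t, by rw [MulEquiv.apply_symm_apply, eSp_eq hab e]⟩
  have hrG : ι.range = G₀ := hr.trans hr₀
  have hReq : R = (X12 hn).map ι := R_eq (iota_inj φ) hy hιe hr H hn (dj_cv hab) hRι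
    (by rw [hrG]; exact hSR)
  have hI : Cfsg.Agent.Omega.All.SpN.Inn F hn :=
    ⟨Cfsg.Agent.Omega.All.SpN.Off.offer hn, Cfsg.Agent.Omega.All.SpN.Off.lcs hn,
      Cfsg.Agent.Omega.All.SpN.Off.cen (dj_ll (c01 hn))⟩
  have hD := H.spDat_of hI (by rw [hrG, ← hReq]; exact hNR)
  rw [hrG, ← hReq] at hD
  exact ⟨_, _, _, _, hD⟩

end Cfsg.Agent.Omega.HOneEnd.SpIota
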