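import Cfsg.Agent.Omega.HOneEnd.Ident
import Cfsg.Agent.Omega.HOneEnd.Parity
import Cfsg.Agent.Omega.HOneEnd.SpIota
import Cfsg.Agent.Omega.HOneEnd.FFourEmb
import Cfsg.Agent.Omega.All.HOneEnd

/-!
# The END of LeafH1

* `EndIn.top` : `N_G(G₀) = G`;
* `EndIn.known` : `G` is known.
-/

set_option autoImplicit false

namespace Cfsg.Agent.Omega.HOneEnd

open Subgroup Cfsg Cfsg.Lie Cfsg.Agent.Omega.Frame
open Cfsg.Agent.Omega.FrameLE (AllIn)

universe u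

section main

variable {G : Type u} [Group G] [Finite G] {S : Sylow 2 G} {G₀ U R : Subgroup G} {v : G}

theorem EndIn.U_le {S : Subgroup G} (h : EndIn S G₀ U R v) : U ≤ G₀ := by rw [← h.S_inf]; exact inf_le_right

/-- **`N_G(G₀) = G`** -/
theorem EndIn.top (hFF : FFThm.Stmt.{u}) (hc : IsCharacteristicTwoType G) (hF : Full (S : Subgroup G))
    (hA : AllIn (S : Subgroup G)) (h : EndIn (S : Subgroup G) G₀ U R v) :
    normalizer (G₀ : Set G) = ⊤ ∧ (IsPSp ↥G₀ ∨ Lie.IsoF4 ↥G₀) := by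
  have hs := h.simple
  obtain ⟨hv, H⟩ := h.lIn
  obtain ⟨Q, hQU, hQ3, hQi⟩ := h.bn
  have hfam : Fam 2 ↥G₀ := Parity.fam_two Q hQ3 hQi hQU H.odd
  have hR : R ≤ G₀ := h.R_U.trans h.U_le
  rcases H.id hfam with ⟨F, _, _, _, m, φ, ρ, a, b, hm, hab, he, hR'⟩ | ⟨F, _, _, _, φ, s, hs', hU, hX⟩
  · refine ⟨?_, Or.inl ⟨F, inferInstance, inferInstance, m, by omega, by omega, ⟨φ⟩⟩⟩
    obtain ⟨C, Q', U', Ul, D⟩ := SpIota.exists_spDat S hm φ h.S_G₀ h.cent h.N_R (by rw [h.S_inf]; exact h.R_U)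
      (by rw [h.S_inf]; exact h.U_R) hab he fun x => by rw [← hR' x, mem_subgroupOf]
    exact Cfsg.Agent.Omega.All.HOne.top_sp hFF hc D hA hF
  · refine ⟨?_, Or.inr ⟨F, inferInstance, inferInstance, ⟨φ⟩⟩⟩
    obtain ⟨_, _, _, _, _, _, _, D⟩ := FFour.ffourDat_of φ h.S_G₀ h.S_R hR h.cent (by rw [h.S_inf]; exact hU) hs' hX
      h.N_R
    exact Cfsg.Agent.Omega.All.HOne.top_ffour hFF hc D hA hF

/-- **The END of LeafH1.** -/
theorem EndIn.known [IsSimpleGroup G] (hFF : FFThm.Stmt.{u}) (hc : IsCharacteristicTwoType G)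
    (hF : Full (S : Subgroup G)) (hA : AllIn (S : Subgroup G)) (h : EndIn (S : Subgroup G) G₀ U R v) :
    IsKnownSimple' G := by
  obtain ⟨h1, h2⟩ := h.top hFF hc hF hA
  have hn : G₀.Normal := normalizer_eq_top_iff.1 h1
  have htop : G₀ = ⊤ := by
    refine (hn.eq_bot_or_eq_top).resolve_left fun h0 => h.R_ne ?_
    rw [eq_bot_iff, ← h0]
    exact h.R_U.trans h.U_le
  subst htop
  have e : (⊤ : Subgroup G) ≃* G := Subgroup.topEquiv
  rcases h2 with ⟨F, _, _, m, h3, h4, ⟨φ⟩⟩ | ⟨F, _, _, ⟨φ⟩⟩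
  · exact Or.inr (Or.inr (Or.inr (Or.inl ⟨F, inferInstance, inferInstance, m, h3, h4, ⟨e.symm.trans φ⟩⟩)))
  · exact Or.inr (Or.inr (Or.inr (Or.inr (Or.inr (Or.inr (Or.inr (Or.inr (Or.inl
      (Or.inr (Or.inl ⟨F, inferInstance, inferInstance, ⟨e.symm.trans φ⟩⟩))))))))))

end main

end Cfsg.Agent.Omega.HOneEnd
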