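import Cfsg.Agent.Omega.All.HOneEnd
import Cfsg.Agent.Omega.HOneEnd.EndIn

/-!
# LeafH1, END: `EndL` from THEOREM ID (glue)

`IdEnd` : `EndIn S G₀ U R v` (`S` Sylow) implies that `G₀` is known and `SpDat` or `FFourDat` for `N_G(G₀)`.
`endL` : `FFThm.Stmt` and `IdEnd` imply (literally) `HOne.Cut.EndL`.
-/

set_option autoImplicit false
set_option linter.unusedSectionVars false

namespace Cfsg.Agent.Omega.HOneEnd.EndLOf

open Subgroup Cfsg Cfsg.Agent.ZN Cfsg.Agent.Omega.MinPar Cfsg.Agent.Omega.Frame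
open Cfsg.Agent.Omega.FrameLE (AllIn)
open Cfsg.Agent.Omega.All.HOne

universe u

/-- THEOREM ID for a Sylow 2-subgroup `S` of `G`. -/
def IdEnd : Prop :=
  ∀ (G : Type u) [Group G] [Finite G] (S : Sylow 2 G) (G₀ U R : Subgroup G) (v : G),
    EndIn (S : Subgroup G) G₀ U R v → (Nonempty (G ≃* ↥G₀) → IsKnownSimple' G) ∧
      ((∃ C Q U' Ul : Subgroup G, SpDat (S : Subgroup G) ((S : Subgroup G) ⊓ G₀) (normalizer (G₀ : Set G)) C R Q U' Ul) ∨
        ∃ Cs Cl Xl Qs Ql Us Ul : Subgroup G, FFourDat (S : Subgroup G) ((S : Subgroup G) ⊓ G₀)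
          (normalizer (G₀ : Set G)) Cs Cl R Xl Qs Ql Us Ul)

/-- **The END** (literally `HOne.Cut.EndL`). -/
theorem endL (hFF : FFThm.Stmt.{u}) (hid : IdEnd.{u}) :
    ∀ (G : Type u) [Group G] [Finite G], Ctx G → ∀ (S : Sylow 2 G), Full (S : Subgroup G) → AllIn (S : Subgroup G) →
      ∀ (G₀ U R : Subgroup G) (v : G), EndIn (S : Subgroup G) G₀ U R v → IsKnownSimple' G := by
  intro G _ _ hG S hF hA G₀ U R v e
  obtain ⟨hk, hd⟩ := hid G S G₀ U R v e
  have htop : normalizer (G₀ : Set G) = ⊤ := by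
    rcases hd with ⟨_, _, _, _, D⟩ | ⟨_, _, _, _, _, _, _, D⟩
    · exact top_sp hFF hG.char2 D hA hF
    · exact top_ffour hFF hG.char2 D hA hF
  have hsim := hG.simple
  have hnorm : G₀.Normal := normalizer_eq_top_iff.mp htop
  have hG₀ : G₀ = ⊤ := hnorm.eq_bot_or_eq_top.resolve_left fun h0 => by
    have h1 := e.simple
    rw [h0] at h1
    obtain ⟨⟨x, y, hxy⟩⟩ := h1.toNontrivial
    exact hxy (Subsingleton.elim x y)
  refine hk ?_
  rw [hG₀]
  exact ⟨Subgroup.topEquiv.symm⟩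

end Cfsg.Agent.Omega.HOneEnd.EndLOf
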