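import Cfsg.Agent.Omega.HOneEnd.FFourK
import Cfsg.Agent.KFacts.RgdOver

/-!
# `FFourDat` for `F₄(q)`, `q` even: the action of `S` on `G₀`

* `Emb.exists_frame` : for `t ∈ S` there is `u ∈ U` such that `j(u) t` acts on every root group by `b ↦ c_x τ(b)`;
* `Emb.S_X` : `S` normalises `X_{47}` and `X_{44}`;
* `Emb.mem_range` (no field automorphisms): `t ∈ S`, `[X_i, t] ≤ ⟨X_c : c > 0, c ≠ α_i⟩` for one simple root `α_i`
  implies `t ∈ G₀`.
-/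

set_option autoImplicit false
set_option Elab.async false
set_option linter.unusedSectionVars false

namespace Cfsg.Agent.Omega.HOneEnd.FFour

open CoxeterSystem Cfsg.Agent.ChevalleyStructure.CoxeterGeom Cfsg.Agent.Tits.Roots Cfsg.Agent.Tits.Core
open Cfsg.Lie Cfsg.Agent.ChevalleyStructure Cfsg.Agent.ChevalleyStructure.Elts
  Cfsg.Agent.ChevalleyStructure.RootVec Cfsg.Agent.ChevalleyStructure.CoxeterGeomTypes
open Cfsg.Agent.Nodes Cfsg.Agent.Nodes.Reps Cfsg.Agent.Nodes.BNOf Cfsg.Agent.Nodes.RGDChev Cfsg.Agent.Nodes.Coroot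
  Cfsg.Agent.Nodes.KindF Cfsg.Agent.Nodes.Bruhat Cfsg.Agent.Nodes.OppDec Cfsg.Agent.Nodes.LeviDec
  Cfsg.Agent.Nodes.NormalForm Cfsg.Agent.KFacts.ChevTwo Cfsg.Agent.KFacts.ChevTwoTab
  Cfsg.Agent.KFacts.ChevTwoInst Cfsg.Agent.KFacts.RgdTI Cfsg.Agent.KFacts.RgdAut Cfsg.Agent.KFacts.RgdDiag
  Cfsg.Agent.KFacts.RgdRigid Cfsg.Agent.KFacts.RgdField Cfsg.Agent.KFacts.RgdTau Cfsg.Agent.KFacts.RgdSys
  Cfsg.Agent.KFacts.RgdAutFacts Cfsg.Agent.KFacts.RgdGraphF4 Cfsg.Agent.KFacts.RgdOver Cfsg.Agent.KFacts.RgdFixU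
  Cfsg.Agent.KFacts.F4Star Cfsg.Agent.KFacts.F4Cent Cfsg.Agent.KFacts.F4Pair Cfsg.Agent.KFacts.F4Torus
  Cfsg.Agent.KFacts.F4Perf Cfsg.Agent.KFacts.F4Aut

universe u

variable {K : Type u} [Field K] [Finite K] [CharP K 2]

/-- `Z(U)` contains `X_r`. -/
theorem pos_comm {r : Fin 4 → ℤ} (hr : Dom r) {u z : ↥(chevF4.group K)}
    (hu : u ∈ RGD.Sup (XF K) (RGD.Pos cF isType.isCartan)) (hz : z ∈ XF K r) : u * z = z * u :=
  ((sysF (K := K) cF).lr hr.root).comm' (RGD.Sup_mono hr.pos_sub hu) hz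

/-- Frame representatives of the automorphisms normalising `U` and `X_r`. -/
theorem exists_tau_of_fix {α : MulAut ↥(chevF4.group K)}
    (hU : Fix α (RGD.Sup (XF K) (RGD.Pos cF isType.isCartan))) {r : Fin 4 → ℤ} (hr : Dom r) (hX : Fix α (XF K r)) :
    ∃ u ∈ RGD.Sup (XF K) (RGD.Pos cF isType.isCartan), ∃ τ : K ≃+* K,
      ∀ x, IsRoot cF isType.isCartan x → ∃ c : K, c ≠ 0 ∧ ∀ b, (MulAut.conj u * α) (eF K x b) = eF K x (c * τ b) := by
  have hG1 := G1_eq_top (K := K) isType cF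
  have hG := GG_top (K := K) cF
  obtain ⟨R, hR⟩ : ∃ R, R = rgd (K := K) isType cF 2 := ⟨_, rfl⟩
  have S : Sys R (eF K) := hR ▸ sysF (K := K) cF
  obtain ⟨u, hu, hU', hB, hUN, hBN, hT⟩ := Cfsg.Agent.KFacts.RgdAut.exists_frame R hG hU
  refine ⟨u, hu, ?_⟩
  obtain ⟨β, hβ⟩ : ∃ β, β = MulAut.conj u * α := ⟨_, rfl⟩
  rw [← hβ] at hU' hB hUN hBN hT ⊢
  have hβX : ∀ z ∈ XF K r, β z ∈ XF K r := by
    intro z hz
    have h1 : α z ∈ XF K r := (hX z).2 hz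
    rw [hβ]
    show u * α z * u⁻¹ ∈ XF K r
    rw [pos_comm hr hu h1, mul_inv_cancel_right]
    exact h1
  obtain ⟨σ, D⟩ := exists_diag R hG hU' hUN
  have hσ1 : σ = 1 := by
    rcases perm_F4 σ (D.matrix R) with h1 | h1
    · exact h1
    exfalso
    obtain ⟨z, hz, hz1⟩ := X_ne (K := K) hr.root
    obtain ⟨w, i, hwi⟩ := hr.root
    have h0 : z ∈ XF K (rep cF isType.isCartan w (sr i)) := by rw [← hwi]; exact hz
    have h2 := (D.root R (D.matrix R) w i z).2 h0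
    have h5 : β z ≠ 1 := fun h => hz1 (by
      have := congrArg β.symm h
      rwa [MulEquiv.symm_apply_apply, map_one] at this)
    have h3 : rep cF isType.isCartan (hat cF σ (D.matrix R) w) (sr (σ i)) = rep cF isType.isCartan w (sr i) := by
      by_contra hne
      have h4 := X_inf_X R (⟨_, _, rfl⟩ : IsRoot cF isType.isCartan
        (rep cF isType.isCartan (hat cF σ (D.matrix R) w) (sr (σ i)))) ⟨w, i, rfl⟩ hne
      rw [Subgroup.eq_bot_iff_forall] at h4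
      exact h5 (h4 _ ⟨h2, hwi ▸ hβX z hz⟩)
    have h4 : Lg cF (sr (σ i)) ↔ Lg cF (sr i) := by
      rw [← lg_rep_iff cF (hat cF σ (D.matrix R) w), h3, lg_rep_iff cF w]
    have h6 := lg_swap cF h1 i
    tauto
  subst hσ1
  have C := coords S hG1
  have H := coroots S hG1 (noCent cF)
  obtain ⟨τ, B⟩ := exists_tau R C H hconn_F4 D fun _ _ => rfl
  exact ⟨τ, fun x hx => Tau.root R C B hx⟩

/-- No field automorphisms. -/
theorem inner_of_mod {α : MulAut ↥(chevF4.group K)}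
    (hU : Fix α (RGD.Sup (XF K) (RGD.Pos cF isType.isCartan))) {r : Fin 4 → ℤ} (hr : Dom r) (hX : Fix α (XF K r))
    (i : Fin 4) (hα : ∀ x ∈ XF K (sr i), α x * x⁻¹ ∈ RGD.Sup (XF K) (RGD.PosNe cF isType.isCartan i)) :
    ∃ y : ↥(chevF4.group K), α = MulAut.conj y := by
  have hG1 := G1_eq_top (K := K) isType cF
  obtain ⟨R, hR⟩ : ∃ R, R = rgd (K := K) isType cF 2 := ⟨_, rfl⟩
  have S : Sys R (eF K) := hR ▸ sysF (K := K) cF
  obtain ⟨u, hu, τ, hτ⟩ := exists_tau_of_fix hU hr hX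
  have hsr := isRoot_sr cF isType.isCartan i
  have hXU : XF K (sr i) ≤ RGD.Sup (XF K) (RGD.Pos cF isType.isCartan) :=
    RGD.le_Sup (S := RGD.Pos cF isType.isCartan) ⟨hsr, sr_nonneg i⟩
  have hab : ∀ a ∈ XF K (sr i), ∀ b ∈ XF K (sr i), a * b = b * a := by
    intro a ha b hb
    have h0 : (sr i : Fin 4 → ℤ) ∈ Ge cF isType.isCartan (sr i) := ⟨hsr, by rw [cpr_self cF _ hsr]; norm_num⟩
    exact ((sysF (K := K) cF).lr hsr).comm' (RGD.le_Sup h0 ha) hb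
  -- `β` is trivial on `X_i`
  have hpos : ∀ x ∈ XF K (sr i), (MulAut.conj u * α) x = x := by
    intro x hx
    have h1 : (MulAut.conj u * α) x ∈ XF K (sr i) := by
      obtain ⟨b, rfl⟩ := (mem_XF_iff cF hsr).1 hx
      obtain ⟨c, -, e⟩ := hτ _ hsr
      rw [e]
      exact (mem_XF_iff cF hsr).2 ⟨_, rfl⟩
    have e : (MulAut.conj u * α) x = u * (α x * x⁻¹ * x) * u⁻¹ := by
      rw [MulAut.mul_apply, MulAut.conj_apply, inv_mul_cancel_right]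
    have hw := hα x hx
    obtain ⟨w, hwd⟩ : ∃ w, w = α x * x⁻¹ := ⟨_, rfl⟩
    rw [← hwd] at hw e
    rw [e] at h1
    rw [e]
    obtain ⟨a, ha, v, hv, rfl⟩ := exists_mul_V R i hu
    have h2 : a * v * (w * x) * (a * v)⁻¹ * x⁻¹ ∈ XF K (sr i) := mul_mem h1 (inv_mem hx)
    have h3 : a * v * (w * x) * (a * v)⁻¹ * x⁻¹ = a * ((v * w) * (x * v⁻¹ * x⁻¹)) * a⁻¹ := by
      have h5 : x⁻¹ * a⁻¹ = a⁻¹ * x⁻¹ := hab x⁻¹ (inv_mem hx) a⁻¹ (inv_mem ha)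
      calc a * v * (w * x) * (a * v)⁻¹ * x⁻¹ = a * v * (w * x) * v⁻¹ * (a⁻¹ * x⁻¹) := by group
        _ = a * v * (w * x) * v⁻¹ * (x⁻¹ * a⁻¹) := by rw [h5]
        _ = _ := by group
    have h6 : x * v⁻¹ * x⁻¹ ∈ RGD.Sup (XF K) (RGD.PosNe cF isType.isCartan i) :=
      (Subgroup.mem_normalizer_iff.1 (U_le_normalizer_V R i (hXU hx)) _).1 (inv_mem hv)
    have h4 : a * ((v * w) * (x * v⁻¹ * x⁻¹)) * a⁻¹ ∈ RGD.Sup (XF K) (RGD.PosNe cF isType.isCartan i) :=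
      (Subgroup.mem_normalizer_iff.1 (U_le_normalizer_V R i (hXU ha)) _).1 (mul_mem (mul_mem hv hw) h6)
    have h5 := eq_one_of_mem_PosNe R h2 (by rw [h3]; exact h4)
    exact mul_inv_eq_one.1 h5
  obtain ⟨g, -, hg⟩ := inner_of_fix_X cF hsr hpos
  refine ⟨u⁻¹ * g, ?_⟩
  rw [map_mul, map_inv, ← hg]; group

section Over

variable {G : Type*} [Group G] {j : ↥(chevF4.group K) →* G} {S Y : Subgroup G}

theorem map_normalizer {A : Set (Fin 4 → ℤ)} {H : Subgroup G} (h : ∀ t ∈ H, ∀ z ∈ SG j A, t * z * t⁻¹ ∈ SG j A) :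
    H ≤ Subgroup.normalizer (SG j A : Set G) := by
  intro t ht
  rw [Subgroup.mem_normalizer_iff]
  intro z
  refine ⟨h t ht z, fun hz => ?_⟩
  have h1 := h t⁻¹ (inv_mem ht) _ hz
  have e : t⁻¹ * (t * z * t⁻¹) * t⁻¹⁻¹ = z := by group
  rwa [e] at h1

namespace Emb

variable (E : Emb j S Y)

include E

theorem S_G : S ≤ Subgroup.normalizer (j.range : Set G) := E.S_Y.trans E.Y_G

theorem S_U : S ≤ Subgroup.normalizer (SG j (RGD.Pos cF isType.isCartan) : Set G) := by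
  refine map_normalizer fun t ht z hz => ?_
  rw [← E.S₀, Subgroup.mem_inf] at hz ⊢
  exact ⟨mul_mem (mul_mem ht hz.1) (inv_mem ht), (Subgroup.mem_normalizer_iff.1 (E.S_G ht) z).1 hz.2⟩

theorem fix_U {t : G} (ht : t ∈ S) : Fix (act j E.inj ⟨t, E.S_G ht⟩) (RGD.Sup (XF K) (RGD.Pos cF isType.isCartan)) :=
  fix_act j E.inj (E.S_U ht)

/-- The action of `S`. -/
theorem exists_frame {t : G} (ht : t ∈ S) : ∃ u ∈ RGD.Sup (XF K) (RGD.Pos cF isType.isCartan), ∃ τ : K ≃+* K,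
    ∀ x, IsRoot cF isType.isCartan x → ∃ c : K, c ≠ 0 ∧
      ∀ b, (MulAut.conj u * act j E.inj ⟨t, E.S_G ht⟩) (eF K x b) = eF K x (c * τ b) := by
  obtain ⟨r, hr, hX⟩ := E.len
  exact exists_tau_of_fix (E.fix_U ht) hr (fix_act j E.inj (hX ht))

theorem S_X {r : Fin 4 → ℤ} (hr : Dom r) : S ≤ Subgroup.normalizer (XG j r : Set G) := by
  have key : ∀ t ∈ S, ∀ z ∈ XG j r, t * z * t⁻¹ ∈ XG j r := by
    rintro t ht _ ⟨y, hy, rfl⟩
    obtain ⟨u, hu, τ, h⟩ := E.exists_frame ht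
    obtain ⟨c, -, e⟩ := h r hr.root
    rw [← f_act j E.inj ⟨t, E.S_G ht⟩]
    refine ⟨_, ?_, rfl⟩
    obtain ⟨b, rfl⟩ := (mem_XF_iff cF hr.root).1 hy
    have h1 : eF K r (c * τ b) ∈ XF K r := (mem_XF_iff cF hr.root).2 ⟨_, rfl⟩
    have h2 := e b
    rw [MulAut.mul_apply, MulAut.conj_apply] at h2
    have h3 : act j E.inj ⟨t, E.S_G ht⟩ (eF K r b) = u⁻¹ * eF K r (c * τ b) * u := by rw [← h2]; group
    rw [SetLike.mem_coe, h3, pos_comm hr (inv_mem hu) h1, inv_mul_cancel_right]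
    exact h1
  intro t ht
  rw [Subgroup.mem_normalizer_iff]
  intro z
  refine ⟨key t ht z, fun hz => ?_⟩
  have h1 := key t⁻¹ (inv_mem ht) _ hz
  have e : t⁻¹ * (t * z * t⁻¹) * t⁻¹⁻¹ = z := by group
  rwa [e] at h1

theorem mem_range_of_inner {t : G} (ht : t ∈ S) {y : ↥(chevF4.group K)}
    (h : act j E.inj ⟨t, E.S_G ht⟩ = MulAut.conj y) : t = j y := by
  have h1 := E.cent ((j y)⁻¹ * t) fun x => by
    have h2 := f_act j E.inj ⟨t, E.S_G ht⟩ x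
    rw [h, MulAut.conj_apply, map_mul, map_mul, map_inv] at h2
    change j y * j x * (j y)⁻¹ = t * j x * t⁻¹ at h2
    calc (j y)⁻¹ * t * j x = (j y)⁻¹ * (t * j x * t⁻¹) * t := by group
      _ = j x * ((j y)⁻¹ * t) := by rw [← h2]; group
  exact (inv_mul_eq_one.1 h1).symm

/-- **No field automorphisms.** -/
theorem mem_range {t : G} (ht : t ∈ S) (i : Fin 4)
    (hα : ∀ x ∈ XF K (sr i), t * j x * t⁻¹ * (j x)⁻¹ ∈ SG j (RGD.PosNe cF isType.isCartan i)) :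
    t ∈ SG j (RGD.Pos cF isType.isCartan) := by
  obtain ⟨r, hr, hX⟩ := E.len
  obtain ⟨y, hy⟩ := inner_of_mod (E.fix_U ht) hr (fix_act j E.inj (hX ht)) i (by
    intro x hx
    obtain ⟨w, hw, e⟩ := hα x hx
    have h1 : j w = j (act j E.inj ⟨t, E.S_G ht⟩ x * x⁻¹) := by
      rw [map_mul, map_inv, f_act j E.inj ⟨t, E.S_G ht⟩]
      exact e
    rw [← E.inj h1]
    exact hw)
  rw [← E.S₀]
  exact ⟨ht, y, (E.mem_range_of_inner ht hy).symm⟩

end Emb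

end Over

end Cfsg.Agent.Omega.HOneEnd.FFour
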