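import Cfsg.Agent.Omega.HOneEnd.FFourGlue

/-!
# `FFourDat` for `F₄(q)`, all even `q ≥ 2` (OMEGA, THEOREM F1-h1, #14479)

`ffourDat` : for an embedding `j : F₄(K) →* G` and a Sylow 2-subgroup `S` of `G` with `Emb j S Y`, and the two dominant
roots `s ≠ r` in either order: `FFourDat`, given `N_G(X_s) ≤ Y`.
-/

set_option autoImplicit false
set_option Elab.async false

namespace Cfsg.Agent.Omega.HOneEnd.FFour

open CoxeterSystem Cfsg.Agent.ChevalleyStructure.CoxeterGeom Cfsg.Agent.Tits.Roots Cfsg.Agent.Tits.Core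
open Cfsg Cfsg.Lie Cfsg.Agent.ChevalleyStructure Cfsg.Agent.ChevalleyStructure.Elts
  Cfsg.Agent.ChevalleyStructure.RootVec Cfsg.Agent.ChevalleyStructure.CoxeterGeomTypes
open Cfsg.Agent.Nodes Cfsg.Agent.Nodes.Reps Cfsg.Agent.Nodes.BNOf Cfsg.Agent.Nodes.RGDChev Cfsg.Agent.Nodes.Coroot
  Cfsg.Agent.Nodes.KindF Cfsg.Agent.Nodes.Bruhat Cfsg.Agent.Nodes.OppDec Cfsg.Agent.KFacts.ChevTwo
  Cfsg.Agent.KFacts.ChevTwoTab
  Cfsg.Agent.KFacts.ChevTwoInst Cfsg.Agent.KFacts.RgdTI Cfsg.Agent.KFacts.RgdOdd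
  Cfsg.Agent.KFacts.F4Star Cfsg.Agent.KFacts.F4Cent Cfsg.Agent.KFacts.F4Pair Cfsg.Agent.KFacts.F4Torus
open Subgroup Cfsg.Agent.ZN Cfsg.Agent.Omega.All.HOne
open Cfsg.Agent.Omega.FrameNOFF (CZ)
open Cfsg.Agent.MinSimple.VModule (o2_isPGroup le_normalizer_o2 le_centralizer_zc)
open scoped commutatorElement

universe u v

variable {K : Type v} [Field K] [Finite K] [CharP K 2] {G : Type u} [Group G] [Finite G]
  {j : ↥(chevF4.group K) →* G}

omit [Finite G] in
theorem X_inf (hj : Function.Injective j) {r s : Fin 4 → ℤ} (hr : Dom r) (hs : Dom s) (hrs : r ≠ s) :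
    XG j s ⊓ XG j r = ⊥ := by
  unfold XG
  rw [← Subgroup.map_inf _ _ j hj, X_inf_X (rgd (K := K) isType cF 2) hs.root hr.root hrs.symm, Subgroup.map_bot]

namespace Emb

variable {S Y : Subgroup G} (E : Emb j S Y)

include E

omit [Finite G] in
theorem X_S {r : Fin 4 → ℤ} (hr : Dom r) : XG j r ≤ S :=
  (XG_le_SG (hr.rad_sub (self_mem_rad hr.root))).trans E.UG_le

/-- one side -/
theorem side' {r : Fin 4 → ℤ} (hr : Dom r) : Side S Y (CG j r) (XG j r) (QG j r) (UG j r) :=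
  E.side hr (irr_QG E.inj hr) (comm_QG E.inj hr)
    (typ_zc E.inj E.two E.G_Y (fun _ hr => E.X_S hr) (fun _ hr => E.S_X hr) hr)

theorem oZ' {r s : Fin 4 → ℤ} (hr : Dom r) (hs : Dom s) (hrs : r ≠ s) (hO : o2 (CZ S) ≤ S) (hCZ : CZ S ≤ Y) :
    o2 (CZ S) = QG j s ⊔ QG j r := by
  have h1 := E.oZ_of hO hCZ
  rcases hr with rfl | rfl <;> rcases hs with rfl | rfl
  · exact absurd rfl hrs
  · rw [h1, _root_.sup_comm]
  · exact h1
  · exact absurd rfl hrs

omit [Finite G] in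
theorem cen0' {r s : Fin 4 → ℤ} (hr : Dom r) (hs : Dom s) (hrs : r ≠ s) :
    (QG j s ⊔ QG j r) ⊓ centralizer ((QG j s ⊔ QG j r : Subgroup G) : Set G) = XG j s ⊔ XG j r := by
  have h1 := E.cen0
  rcases hr with rfl | rfl <;> rcases hs with rfl | rfl
  · exact absurd rfl hrs
  · rw [_root_.sup_comm (QG j (v 44)), _root_.sup_comm (XG j (v 44))]; exact h1
  · exact h1
  · exact absurd rfl hrs

/-- **`FFourDat` for `F₄(q)`**, both orders of the two dominant roots, `S` a 2-subgroup containing `O₂(C_G(Z))`. -/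
theorem ffourDat_sub {r s : Fin 4 → ℤ} (hr : Dom r) (hs : Dom s) (hrs : r ≠ s)
    (hN : normalizer (XG j s : Set G) ≤ Y) (hO : CZ S ≤ Y → o2 (CZ S) ≤ S) :
    FFourDat S (S ⊓ j.range) Y (CG j s) (CG j r) (XG j s) (XG j r) (QG j s) (QG j r)
      (UG j s) (UG j r) := by
  obtain ⟨e, X, C⟩ := exists_cht (K := K) hr hs hrs
  obtain ⟨e', X', C'⟩ := exists_cht (K := K) hs hr hrs.symm
  have hj := E.inj
  have mix : ∀ {r s : Fin 4 → ℤ}, Dom s → ∀ v ∈ QG j s ⊓ QG j r, v ∉ UG j s → ∀ x ∈ XG j s, ∃ y ∈ Y,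
      y * v * y⁻¹ = v * x := by
    intro r s hs v hv hv' x hx
    obtain ⟨y, hy, e⟩ := mix_G hj hs v hv.1 hv' x hx
    exact ⟨y, E.G_Y (SG_le_range hy), e⟩
  exact
    { side_s := E.side' hs
      side_l := E.side' hr
      S_Y := E.S_Y
      S₀_S := inf_le_left
      N_Y := hN
      Xs_Ul := X_le_U hj C
      Xl_Us := X_le_U hj C'
      Xs_Xl := X_inf hj hr hs hrs
      oZ := fun h => E.oZ' hr hs hrs (hO h) h
      comm0 := comm0 hj C
      cen0 := E.cen0' hr hs hrs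
      commJs := commJ hj C
      commJl := by rw [_root_.sup_comm]; exact commJ hj C'
      lt_s := lt_J hj C
      lt_s' := lt_J' hj C
      lt_l := by rw [_root_.sup_comm]; exact lt_J hj C'
      lt_l' := by rw [inf_comm (QG j s)]; exact lt_J' hj C'
      two := fun T h1 h2 hn => two' hj C C' h1 h2 (E.GeGe_le_CZ.trans hn)
      cen_l := cenU hj C
      cen_s := by rw [_root_.sup_comm]; exact cenU hj C'
      offer_l := by rw [E.S₀]; exact offer hj C hr hs
      offer_s := by rw [E.S₀, _root_.sup_comm (QG j s)]; exact offer hj C' hs hr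
      mix_s := fun v hv h1 _ x hx => mix hs v hv h1 x hx
      mix_l := fun v hv _ h2 x hx => mix hr v ⟨hv.2, hv.1⟩ h2 x hx }

end Emb

/-- **`FFourDat` for `F₄(q)`**, both orders of the two dominant roots, `S` a Sylow 2-subgroup. -/
theorem Emb.ffourDat {S : Sylow 2 G} {Y : Subgroup G} (E : Emb j (S : Subgroup G) Y) {r s : Fin 4 → ℤ} (hr : Dom r)
    (hs : Dom s) (hrs : r ≠ s) (hN : normalizer (XG j s : Set G) ≤ Y) :
    FFourDat (S : Subgroup G) ((S : Subgroup G) ⊓ j.range) Y (CG j s) (CG j r) (XG j s) (XG j r) (QG j s) (QG j r)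
      (UG j s) (UG j r) := by
  refine E.ffourDat_sub hr hs hrs hN fun _ => ?_
  have hf : Fact (Nat.Prime 2) := ⟨Nat.prime_two⟩
  have h1 : IsPGroup 2 ↥(o2 (CZ (S : Subgroup G)) ⊔ S) :=
    (o2_isPGroup _).to_sup_of_normal_left' E.two
      ((le_centralizer_zc (S : Subgroup G)).trans (le_normalizer_o2 (CZ (S : Subgroup G))))
  exact le_sup_left.trans (S.is_maximal' h1 le_sup_right).le

end Cfsg.Agent.Omega.HOneEnd.FFour
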