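import Cfsg.Agent.Omega.HOneEnd.FFourMax
import Cfsg.Agent.Omega.HOneEnd.FFourEmb
import Cfsg.Agent.Omega.IId.M4.Graph

/-!
# WrMain4, section 6: the K-facts `FK` for `F₄(q)`, `q ≥ 2` even

`Emb.fk` : for an embedding `j : F₄(K) →* G` with `Emb j T (N_G(G₀))`, and the two dominant roots `s ≠ r` in either order;
`fk_of` : for `φ : G₀ ≃* F₄(K)`, `φ(R) = X_s`.
-/

set_option autoImplicit false
set_option Elab.async false
set_option linter.unusedSectionVars false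

namespace Cfsg.Agent.Omega.HOneEnd.FFour

open CoxeterSystem Cfsg.Agent.ChevalleyStructure.CoxeterGeom Cfsg.Agent.Tits.Roots Cfsg.Agent.Tits.Core
open Cfsg Cfsg.Lie Cfsg.Agent.ChevalleyStructure Cfsg.Agent.ChevalleyStructure.Elts
  Cfsg.Agent.ChevalleyStructure.RootVec Cfsg.Agent.ChevalleyStructure.CoxeterGeomTypes
open Cfsg.Agent.Nodes Cfsg.Agent.Nodes.Reps Cfsg.Agent.Nodes.BNOf Cfsg.Agent.Nodes.RGDChev Cfsg.Agent.Nodes.Coroot
  Cfsg.Agent.Nodes.KindF Cfsg.Agent.KFacts.ChevTwo Cfsg.Agent.KFacts.ChevTwoTab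
  Cfsg.Agent.KFacts.ChevTwoInst Cfsg.Agent.KFacts.RgdTI Cfsg.Agent.KFacts.RgdOdd
  Cfsg.Agent.KFacts.F4Star Cfsg.Agent.KFacts.F4Cent Cfsg.Agent.KFacts.F4Pair Cfsg.Agent.KFacts.F4Torus
open Subgroup Cfsg.Agent.Omega.All.HOne
open Cfsg.Agent.Omega.IId.M4 (FK)

universe u v

variable {K : Type v} [Field K] [Finite K] [CharP K 2] {G : Type u} [Group G] {j : ↥(chevF4.group K) →* G}

theorem CG_le_norm {r : Fin 4 → ℤ} (hr : Dom r) : CG j r ≤ normalizer (QG j r : Set G) := by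
  rintro _ ⟨c, hc, rfl⟩
  exact map_mem_normalizer (ge_le_normalizer hr.root hc)

/-- **The K-facts `FK` of WrMain4 for `F₄(q)`.** -/
theorem Emb.fk [Finite G] {T : Subgroup G} (E : Emb j T (normalizer (j.range : Set G))) {r s : Fin 4 → ℤ} (hr : Dom r)
    (hs : Dom s) (hrs : r ≠ s) :
    FK T j.range (XG j s) (XG j r) (CG j s) (CG j r) (QG j s) (QG j r) (UG j s) (UG j r) where
  side_a := E.side' hs
  side_b := E.side' hr
  C_Qa := CG_le_norm hs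
  C_Qb := CG_le_norm hr
  Ca_eq := E.CG_eq hs
  Cb_eq := E.CG_eq hr
  zU z hz h := by
    rw [E.S₀] at hz h
    exact zU_G E.inj hr hs hrs hz h
  mix _ hx _ hy hx1 hy1 := mix_G2 E.inj hr hs hrs hx hy hx1 hy1
  max_b _ hM h := max_G E.inj hr hM h

variable {G₀ : Subgroup G}

/-- **`FK` for `G₀ ≅ F₄(K)`, `R = X_s`.** -/
theorem fk_of [Finite G] (φ : ↥G₀ ≃* ↥(chevF4.group K)) {T R : Subgroup G} (hT : IsPGroup 2 T)
    (hTG : T ≤ normalizer (G₀ : Set G)) (hTR : T ≤ normalizer (R : Set G)) (hR : R ≤ G₀)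
    (hc : centralizer (G₀ : Set G) = ⊥)
    (hU : ((T ⊓ G₀).subgroupOf G₀).map φ.toMonoidHom = RGD.Sup (XF K) (RGD.Pos cF isType.isCartan))
    {s : Fin 4 → ℤ} (hs : Dom s) (hX : (R.subgroupOf G₀).map φ.toMonoidHom = XF K s) :
    ∃ Xb Ca Cb Qa Qb Ua Ub : Subgroup G, FK T G₀ R Xb Ca Cb Qa Qb Ua Ub := by
  have E := emb_of φ hT hTG hTR hR hc hU hs hX
  obtain ⟨r, hr, hrs⟩ := exists_other hs
  have hXR := XG_emb φ hR hX
  have hj : (emb φ).range = G₀ := emb_range φ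
  have E' : Emb (emb φ) T (normalizer ((emb φ).range : Set G)) := by rw [hj]; exact E
  have h1 := E'.fk hr hs hrs
  rw [hj, hXR] at h1
  exact ⟨_, _, _, _, _, _, _, h1⟩

end Cfsg.Agent.Omega.HOneEnd.FFour
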