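import Cfsg.Agent.Omega.HOneEnd.FFourCenY
import Cfsg.Agent.Omega.HOneEnd.FFourPerm
import Cfsg.Agent.Omega.HOneEnd.FFourEmb
import Cfsg.Agent.KFacts.F4Faith

/-!
# `FFourG` for `F₄(q)`, all even `q ≥ 2`, with a graph element (OMEGA #16413)

`EmbG.ffourG` : for an embedding `j : F₄(K) →* G` with `EmbG j S Y`, the two dominant roots `s ≠ r` in either order,
`N_G(X_s) ≤ Y`, `S ∩ N_G(X_s)` a Sylow 2-subgroup of `N_G(X_s)` and an element of `S` not normalising `X_s`: `FFourG`.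

`ffourG_of` : the same for `φ : G₀ ≃* F₄(K)`, `φ(R) = X_s`.
-/

set_option autoImplicit false
set_option Elab.async false
set_option linter.unusedSectionVars false

namespace Cfsg.Agent.Omega.HOneEnd.FFour

open CoxeterSystem Cfsg.Agent.ChevalleyStructure.CoxeterGeom Cfsg.Agent.Tits.Roots Cfsg.Agent.Tits.Core
open Cfsg Cfsg.Lie Cfsg.Agent.ChevalleyStructure Cfsg.Agent.ChevalleyStructure.Elts
  Cfsg.Agent.ChevalleyStructure.RootVec Cfsg.Agent.ChevalleyStructure.CoxeterGeomTypes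
open Cfsg.Agent.Nodes Cfsg.Agent.Nodes.Reps Cfsg.Agent.Nodes.BNOf Cfsg.Agent.Nodes.RGDChev Cfsg.Agent.Nodes.Coroot
  Cfsg.Agent.Nodes.KindF Cfsg.Agent.Nodes.Bruhat Cfsg.Agent.Nodes.OppDec Cfsg.Agent.KFacts.ChevTwo
  Cfsg.Agent.KFacts.ChevTwoTab Cfsg.Agent.KFacts.RgdAut Cfsg.Agent.KFacts.RgdOver
  Cfsg.Agent.KFacts.ChevTwoInst Cfsg.Agent.KFacts.RgdTI Cfsg.Agent.KFacts.RgdOdd
  Cfsg.Agent.KFacts.F4Star Cfsg.Agent.KFacts.F4Cent Cfsg.Agent.KFacts.F4Pair Cfsg.Agent.KFacts.F4Torus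
open Cfsg.Agent.KFacts.F4Rl
open Cfsg.Agent.KFacts.F4Side (mQQ mQl mQs mUl mUs mJs mJl mJ0 mPo)
open Subgroup Cfsg.Agent.ZN Cfsg.Agent.Omega.All.HOne
open Cfsg.Agent.Omega.FrameNOFF (CZ)
open Cfsg.Agent.MinSimple.VModule (o2_isPGroup le_normalizer_o2 le_centralizer_zc o2_le)
open scoped commutatorElement

universe u v

variable {K : Type v} [Field K] [Finite K] [CharP K 2] {G : Type u} [Group G] {j : ↥(chevF4.group K) →* G}

/-- the converse of `fix_act` -/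
theorem norm_of_fix (hj : Function.Injective j) {H : Subgroup ↥(chevF4.group K)} {y : G}
    (hy : y ∈ normalizer (j.range : Set G)) (h : Fix (act j hj ⟨y, hy⟩) H) : y ∈ normalizer (H.map j : Set G) := by
  have key : ∀ {x}, j x ∈ H.map j ↔ x ∈ H := fun {x} =>
    ⟨fun ⟨w, hw, e⟩ => hj e ▸ hw, fun hx => ⟨x, hx, rfl⟩⟩
  rw [mem_normalizer_iff]
  intro z
  constructor
  · rintro ⟨x, hx, rfl⟩
    rw [← f_act j hj ⟨y, hy⟩]
    exact key.2 ((h x).2 hx)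
  · rintro ⟨x, hx, e⟩
    have h1 : z ∈ j.range := (mem_normalizer_iff.1 hy z).2 ⟨x, e⟩
    obtain ⟨w, rfl⟩ := h1
    rw [← f_act j hj ⟨y, hy⟩] at e
    rw [key, ← h w, ← hj e]
    exact hx

/-- an element of `N_G(G₀)` centralising `1 ≠ z ∈ X_r` normalises `X_r` -/
theorem norm_XG (hj : Function.Injective j) {r : Fin 4 → ℤ} (hr : Dom r) {z y : G} (hz : z ∈ XG j r) (hz1 : z ≠ 1)
    (hy : y ∈ normalizer (j.range : Set G)) (h : y * z = z * y) : y ∈ normalizer (XG j r : Set G) := by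
  obtain ⟨x, hx, rfl⟩ := hz
  refine norm_of_fix hj hy (fix_X hr.root hx (fun h1 => hz1 (by rw [h1, map_one])) (hj ?_))
  rw [f_act j hj ⟨y, hy⟩]
  show y * j x * y⁻¹ = j x
  rw [h, mul_inv_cancel_right]

/-- **The field `cenY`**, `(44, 47)`. -/
theorem cenY_G (hj : Function.Injective j) {a b y : G} (ha : a ∈ XG j (v 44)) (hb : b ∈ XG j (v 47)) (ha1 : a ≠ 1)
    (hb1 : b ≠ 1) (hy : y ∈ normalizer (j.range : Set G)) (h : y * (a * b) * y⁻¹ = a * b) :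
    (y * a * y⁻¹ ∈ XG j (v 44) ∧ y * b * y⁻¹ ∈ XG j (v 47)) ∨
      (y * a * y⁻¹ ∈ XG j (v 47) ∧ y * b * y⁻¹ ∈ XG j (v 44)) := by
  obtain ⟨a, ha, rfl⟩ := ha
  obtain ⟨b, hb, rfl⟩ := hb
  have h1 : act j hj ⟨y, hy⟩ (a * b) = a * b := by
    apply hj
    rw [f_act j hj ⟨y, hy⟩, map_mul]
    exact h
  have ea := f_act j hj ⟨y, hy⟩ a
  have eb := f_act j hj ⟨y, hy⟩ b
  have h2 := aut_ab ha hb (fun h => ha1 (by rw [h, map_one])) (fun h => hb1 (by rw [h, map_one])) h1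
  change j _ = y * j a * y⁻¹ at ea
  change j _ = y * j b * y⁻¹ at eb
  rw [← ea, ← eb]
  rcases h2 with ⟨h3, h4⟩ | ⟨h3, h4⟩
  · exact Or.inl ⟨⟨_, h3, rfl⟩, ⟨_, h4, rfl⟩⟩
  · exact Or.inr ⟨⟨_, h3, rfl⟩, ⟨_, h4, rfl⟩⟩

/-- **The field `cenY`.** -/
theorem cenY_G' (hj : Function.Injective j) {r s : Fin 4 → ℤ} (hr : Dom r) (hs : Dom s) (hrs : r ≠ s) {a b y : G}
    (ha : a ∈ XG j s) (hb : b ∈ XG j r) (ha1 : a ≠ 1) (hb1 : b ≠ 1) (hy : y ∈ normalizer (j.range : Set G))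
    (h : y * (a * b) * y⁻¹ = a * b) :
    (y * a * y⁻¹ ∈ XG j s ∧ y * b * y⁻¹ ∈ XG j r) ∨ (y * a * y⁻¹ ∈ XG j r ∧ y * b * y⁻¹ ∈ XG j s) := by
  rcases hr with rfl | rfl <;> rcases hs with rfl | rfl
  · exact absurd rfl hrs
  · exact cenY_G hj ha hb ha1 hb1 hy h
  · have e : a * b = b * a := by
      obtain ⟨x, hx, rfl⟩ := ha
      obtain ⟨y, hy, rfl⟩ := hb
      rw [← map_mul, ← map_mul, pos_comm (Or.inr rfl)
        (RGD.le_Sup (Dom.rad_sub (Or.inl rfl) (self_mem_rad (Dom.root (Or.inl rfl)))) hx) hy]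
    rw [e] at h
    rcases cenY_G hj hb ha hb1 ha1 hy h with ⟨h1, h2⟩ | ⟨h1, h2⟩
    · exact Or.inl ⟨h2, h1⟩
    · exact Or.inr ⟨h2, h1⟩
  · exact absurd rfl hrs

section Fields

variable (hj : Function.Injective j) {r s : Fin 4 → ℤ} {e : ℕ → K → ↥(chevF4.group K)}
  {X : ℕ → Subgroup ↥(chevF4.group K)} (C : Cht (K := K) r s e X)

include hj C

/-- **The field `faith`.** -/
theorem faith_G : ∀ w ∈ QG j s ⊔ QG j r, (∀ q ∈ QG j r, w * q * w⁻¹ * q⁻¹ ∈ UG j r) → w ∈ QG j r := by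
  intro w hw h
  rw [QQ_eqC hj C] at hw
  obtain ⟨w, hw, rfl⟩ := hw
  have hQ : QG j r = (SP X mQl).map j := by unfold QG SG; rw [C.Ql]
  have hU : UG j r = (SP X mUl).map j := by unfold UG SG; rw [C.Ul]
  rw [hQ] at h ⊢
  rw [hU] at h
  refine ⟨w, Cfsg.Agent.KFacts.F4Faith.faith C.rl hw fun q hq => ?_, rfl⟩
  obtain ⟨x, hx, e⟩ := h (j q) ⟨q, hq, rfl⟩
  have h1 : x = ⁅w, q⁆ := by
    apply hj
    rw [commutatorElement_def, map_mul, map_mul, map_mul, map_inv, map_inv]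
    exact e
  rw [← h1]; exact hx

theorem UlJ_eqC : UG j r ⊔ (QG j s ⊓ QG j r) = (SP X mUl ⊔ SP X mJ0).map j := by
  rw [J0_eqC hj C, Subgroup.map_sup, C.Ul]
  rfl

theorem UsJ_eqC : UG j s ⊔ (QG j s ⊓ QG j r) = (SP X mUs ⊔ SP X mJ0).map j := by
  rw [J0_eqC hj C, Subgroup.map_sup, C.Us]
  rfl

theorem inf_UJ_G : (UG j r ⊔ (QG j s ⊓ QG j r)) ⊓ (UG j s ⊔ (QG j s ⊓ QG j r)) = QG j s ⊓ QG j r := by
  rw [UlJ_eqC hj C, UsJ_eqC hj C, ← Subgroup.map_inf _ _ j hj, Cfsg.Agent.KFacts.F4Faith.inf_UJ C.rl, J0_eqC hj C]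

theorem elJ_G {E : Subgroup G} (hE : E ≤ QG j s ⊔ QG j r) (h2 : ∀ x ∈ E, x * x = 1)
    (hc : ∀ x ∈ E, ∀ y ∈ QG j s ⊓ QG j r, x * y = y * x) :
    E ≤ UG j r ⊔ (QG j s ⊓ QG j r) ∨ E ≤ UG j s ⊔ (QG j s ⊓ QG j r) := by
  rw [J0_eqC hj C] at hc
  rw [UlJ_eqC hj C, UsJ_eqC hj C]
  have hr : E ≤ j.range := hE.trans (sup_le SG_le_range SG_le_range)
  have hm : (E.comap j).map j = E := map_comap_eq_self hr
  rcases Cfsg.Agent.KFacts.F4Faith.elJ C.rl (E := E.comap j)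
    (fun x hx => hj (by rw [map_mul, map_one]; exact h2 _ hx))
    (fun x hx y hy => hj (by rw [map_mul, map_mul]; exact hc _ hx _ ⟨y, hy, rfl⟩)) with h | h
  · left; rw [← hm]; exact map_mono h
  · right; rw [← hm]; exact map_mono h

end Fields

namespace EmbG

variable {S Y : Subgroup G} (E : EmbG j S Y)

include E

/-- `O₂(C_G(Ω₁Z(S₁))) ≤ S₁ = N_S(X_s)` -/
theorem oz_le [Finite G] {s : Fin 4 → ℤ} (hs : Dom s)
    (syl : ∀ T : Subgroup G, IsPGroup 2 T → T ≤ normalizer (XG j s : Set G) →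
      Nat.card T ≤ Nat.card ↥(S ⊓ normalizer (XG j s : Set G)))
    (hCZ : CZ (S ⊓ normalizer (XG j s : Set G)) ≤ Y) :
    o2 (CZ (S ⊓ normalizer (XG j s : Set G))) ≤ S ⊓ normalizer (XG j s : Set G) := by
  have hf : Fact (Nat.Prime 2) := ⟨Nat.prime_two⟩
  have E₁ := E.emb hs
  obtain ⟨S₁, hS₁⟩ : ∃ S₁, S₁ = S ⊓ normalizer (XG j s : Set G) := ⟨_, rfl⟩
  rw [← hS₁] at syl hCZ E₁ ⊢
  have h2 : ∀ x ∈ XG j s, x * x = 1 := by
    rintro _ ⟨x, hx, rfl⟩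
    rw [← map_mul, e_sq hs.root hx, map_one]
  have hXS : XG j s ≤ S₁ := (XG_le_SG (hs.rad_sub (self_mem_rad hs.root))).trans E₁.UG_le
  have hne : XG j s ≠ ⊥ := XG_ne E.inj hs
  obtain ⟨z, hz, hzX, hz1⟩ := Cfsg.Agent.Omega.All.exists_zc_mem E₁.two hXS (E₁.S_X hs) h2 hne
  have hN : CZ S₁ ≤ normalizer (XG j s : Set G) := by
    intro g hg
    exact norm_XG E.inj hs hzX hz1 (E.Y_G (hCZ hg)) ((mem_centralizer_iff.1 hg) z hz).symm
  have h1 : IsPGroup 2 ↥(o2 (CZ S₁) ⊔ S₁) :=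
    (o2_isPGroup _).to_sup_of_normal_left' E₁.two ((le_centralizer_zc S₁).trans (le_normalizer_o2 (CZ S₁)))
  have h3 := syl _ h1 (sup_le ((o2_le _).trans hN) ((le_centralizer_zc S₁).trans hN))
  have h4 : S₁ = o2 (CZ S₁) ⊔ S₁ := eq_of_le_of_card_ge le_sup_right h3
  exact le_sup_left.trans h4.ge

/-- an element of `S` not normalising `X_s` exchanges `Q_s` and `Q_r` -/
theorem swap_Q [Finite G] {r s : Fin 4 → ℤ} (hr : Dom r) (hs : Dom s) (hrs : r ≠ s) {t : G} (ht : t ∈ S)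
    (hn : t ∉ normalizer (XG j s : Set G)) :
    (QG j s).map (MulAut.conj t).toMonoidHom = QG j r ∧ (QG j r).map (MulAut.conj t).toMonoidHom = QG j s := by
  rcases E.perm_X ht with h | ⟨h1, h2⟩
  · exact absurd (mem_normalizer_of_map_eq (h s hs)) hn
  · have h3 := (E.map_of_map ht (Or.inl rfl) (Or.inr rfl) h1).2.1
    have h4 := (E.map_of_map ht (Or.inr rfl) (Or.inl rfl) h2).2.1
    rcases hr with rfl | rfl <;> rcases hs with rfl | rfl
    · exact absurd rfl hrs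
    · exact ⟨h4, h3⟩
    · exact ⟨h3, h4⟩
    · exact absurd rfl hrs

/-- **`FFourG` for `F₄(q)`, `q ≥ 2` even.** -/
theorem ffourG [Finite G] {r s : Fin 4 → ℤ} (hr : Dom r) (hs : Dom s) (hrs : r ≠ s)
    (hN : normalizer (XG j s : Set G) ≤ Y)
    (syl : ∀ T : Subgroup G, IsPGroup 2 T → T ≤ normalizer (XG j s : Set G) →
      Nat.card T ≤ Nat.card ↥(S ⊓ normalizer (XG j s : Set G)))
    (hsw : ∃ t ∈ S, t ∉ normalizer (XG j s : Set G)) :
    FFourG S (S ⊓ normalizer (XG j s : Set G)) (S ⊓ j.range) Y (CG j s) (CG j r) (XG j s) (XG j r) (QG j s) (QG j r)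
      (UG j s) (UG j r) := by
  obtain ⟨e, X, C⟩ := exists_cht (K := K) hr hs hrs
  have hj := E.inj
  have E₁ := E.emb hs
  have hS₀ : S ⊓ normalizer (XG j s : Set G) ⊓ j.range = S ⊓ j.range := by rw [E₁.S₀, E.S₀]
  exact
    { dat := by
        have h1 := E₁.ffourDat_sub hr hs hrs hN (E.oz_le hs syl)
        rwa [hS₀] at h1
      S_Y := E.S_Y
      S₁_eq := rfl
      syl := syl
      perm := E.perm hr hs hrs
      swap := by
        obtain ⟨t, ht, hn⟩ := hsw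
        exact ⟨t, ht, fun h => hn h.2⟩
      trans2 := trans2_G hj E.G_Y hr hs hrs
      mixQ_s := fun v hv h1 _ x hx => mixQ_G hj hs (Q' := QG j r) le_sup_left v hv h1 x hx
      mixQ_l := fun v hv _ h2 x hx => mixQ_G hj hr (Q' := QG j s) le_sup_right v ⟨hv.2, hv.1⟩ h2 x hx
      faith := faith_G hj C
      elJ := by
        intro E' hE' hel hSE hc
        obtain ⟨t, ht, hn⟩ := hsw
        obtain ⟨h1, h2⟩ := E.swap_Q hr hs hrs ht hn
        exact Cfsg.Agent.KFacts.F4Faith.elJ_of (UG_eq hj hs) (UG_eq hj hr)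
          (elJ_G hj C hE' (fun x hx => by rw [← pow_two]; exact hel.2 x hx) hc) (inf_UJ_G hj C) h1 h2 (hSE ht)
      cenY := fun a ha b hb ha1 hb1 y hy h => cenY_G' hj hr hs hrs ha hb ha1 hb1 (E.Y_G hy) h }

end EmbG

/-! ### `G₀ ≅ F₄(K)` -/

variable {G₀ : Subgroup G}

theorem embG_of (φ : ↥G₀ ≃* ↥(chevF4.group K)) {S : Subgroup G} (hS : IsPGroup 2 S)
    (hSG : S ≤ normalizer (G₀ : Set G)) (hc : centralizer (G₀ : Set G) = ⊥)
    (hU : ((S ⊓ G₀).subgroupOf G₀).map φ.toMonoidHom = RGD.Sup (XF K) (RGD.Pos cF isType.isCartan)) :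
    EmbG (emb φ) S (normalizer (G₀ : Set G)) where
  inj := emb_inj φ
  two := hS
  S_Y := hSG
  G_Y := by rw [emb_range]; exact le_normalizer
  Y_G := by rw [emb_range]
  S₀ := by rw [emb_range]; exact (map_emb φ inf_le_right hU).symm
  cent g hg := by
    have h1 : g ∈ centralizer (G₀ : Set G) := by
      rw [mem_centralizer_iff]
      intro x hx
      have h2 : x ∈ (emb φ).range := by rw [emb_range]; exact hx
      obtain ⟨y, rfl⟩ := h2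
      exact (hg y).symm
    rwa [hc, mem_bot] at h1

/-- **`FFourG` for `G₀ ≅ F₄(K)`, `R = X_s`.** -/
theorem ffourG_of [Finite G] (φ : ↥G₀ ≃* ↥(chevF4.group K)) {S R : Subgroup G} (hS : IsPGroup 2 S)
    (hSG : S ≤ normalizer (G₀ : Set G)) (hR : R ≤ G₀) (hc : centralizer (G₀ : Set G) = ⊥)
    (hU : ((S ⊓ G₀).subgroupOf G₀).map φ.toMonoidHom = RGD.Sup (XF K) (RGD.Pos cF isType.isCartan))
    {s : Fin 4 → ℤ} (hs : Dom s) (hX : (R.subgroupOf G₀).map φ.toMonoidHom = XF K s)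
    (hN : normalizer (R : Set G) ≤ normalizer (G₀ : Set G))
    (syl : ∀ T : Subgroup G, IsPGroup 2 T → T ≤ normalizer (R : Set G) →
      Nat.card T ≤ Nat.card ↥(S ⊓ normalizer (R : Set G)))
    (hsw : ∃ t ∈ S, t ∉ normalizer (R : Set G)) :
    ∃ Cs Cl Xl Qs Ql Us Ul : Subgroup G, FFourG S (S ⊓ normalizer (R : Set G)) (S ⊓ G₀) (normalizer (G₀ : Set G))
      Cs Cl R Xl Qs Ql Us Ul := by
  have E := embG_of φ hS hSG hc hU
  have hXR := XG_emb φ hR hX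
  obtain ⟨r, hr, hrs⟩ := exists_other hs
  have h1 := E.ffourG hr hs hrs (by rw [hXR]; exact hN) (by rw [hXR]; exact syl) (by rw [hXR]; exact hsw)
  rw [emb_range, hXR] at h1
  exact ⟨_, _, _, _, _, _, _, h1⟩

end Cfsg.Agent.Omega.HOneEnd.FFour
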