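import Cfsg.Agent.Omega.HOneEnd.FFourFK
import Cfsg.Agent.Omega.HOneEnd.FFourGEmb

/-!
# WrMain4, section 6: the K-facts `FK` for `F₄(q)`, with two facts about `X_r`

`fk_of'` : `fk_of` together with
* (cb) `C_{G₀}(y) ≤ N_G(X_r)` for `1 ≠ y ∈ X_r`,
* (card) `|X_r| = |X_s|`.
-/

set_option autoImplicit false
set_option Elab.async false
set_option linter.unusedSectionVars false

namespace Cfsg.Agent.Omega.HOneEnd.FFour

open CoxeterSystem Cfsg.Agent.ChevalleyStructure.CoxeterGeom Cfsg.Agent.Tits.Roots Cfsg.Agent.Tits.Core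
open Cfsg Cfsg.Lie Cfsg.Agent.ChevalleyStructure Cfsg.Agent.ChevalleyStructure.Elts
  Cfsg.Agent.ChevalleyStructure.RootVec Cfsg.Agent.ChevalleyStructure.CoxeterGeomTypes
open Cfsg.Agent.Nodes Cfsg.Agent.Nodes.Reps Cfsg.Agent.Nodes.BNOf Cfsg.Agent.Nodes.RGDChev Cfsg.Agent.Nodes.Coroot
  Cfsg.Agent.Nodes.KindF Cfsg.Agent.KFacts.ChevTwo Cfsg.Agent.KFacts.ChevTwoTab
  Cfsg.Agent.KFacts.ChevTwoInst Cfsg.Agent.KFacts.RgdTI Cfsg.Agent.KFacts.RgdOdd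
  Cfsg.Agent.KFacts.F4Star Cfsg.Agent.KFacts.F4Cent Cfsg.Agent.KFacts.F4Pair Cfsg.Agent.KFacts.F4Torus
open Subgroup Cfsg.Agent.Omega.All.HOne
open Cfsg.Agent.Omega.IId.M4 (FK)

universe u v

variable {K : Type v} [Field K] [Finite K] [CharP K 2] {G : Type u} [Group G] {j : ↥(chevF4.group K) →* G}

/-- `|X_r| = |K|` -/
theorem card_XF {r : Fin 4 → ℤ} (hr : IsRoot cF isType.isCartan r) : Nat.card (XF K r) = Nat.card K := by
  have hW : Finite CoxeterMatrix.F₄.Group := finite_W isType cF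
  have D := (sysF (K := K) cF).data
  refine (Nat.card_congr (Equiv.ofBijective
    (fun t : K => (⟨eF K r t, (mem_XF_iff cF hr).2 ⟨t, rfl⟩⟩ : ↥(XF K r))) ⟨fun t u h => ?_, ?_⟩)).symm
  · have h1 : eF K r t = eF K r u := Subtype.ext_iff.1 h
    have h2 := D.add r hr (t - u) u
    rw [sub_add_cancel, h1] at h2
    exact sub_eq_zero.1 (D.inj r hr _ (mul_eq_right.1 h2.symm))
  · rintro ⟨x, hx⟩
    obtain ⟨t, rfl⟩ := (mem_XF_iff cF hr).1 hx
    exact ⟨t, rfl⟩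

theorem card_XG (hj : Function.Injective j) {r : Fin 4 → ℤ} (hr : Dom r) : Nat.card (XG j r) = Nat.card K := by
  rw [XG, Nat.card_congr ((XF K r).equivMapOfInjective j hj).toEquiv.symm, card_XF hr.root]

variable {G₀ : Subgroup G}

/-- **`fk_of` with `C_{G₀}(y) ≤ N_G(X_r)` for `1 ≠ y ∈ X_r` and `|X_r| = |X_s|`.** -/
theorem fk_of' [Finite G] (φ : ↥G₀ ≃* ↥(chevF4.group K)) {T R : Subgroup G} (hT : IsPGroup 2 T)
    (hTG : T ≤ normalizer (G₀ : Set G)) (hTR : T ≤ normalizer (R : Set G)) (hR : R ≤ G₀)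
    (hc : centralizer (G₀ : Set G) = ⊥)
    (hU : ((T ⊓ G₀).subgroupOf G₀).map φ.toMonoidHom = RGD.Sup (XF K) (RGD.Pos cF isType.isCartan))
    {s : Fin 4 → ℤ} (hs : Dom s) (hX : (R.subgroupOf G₀).map φ.toMonoidHom = XF K s) :
    ∃ Xb Ca Cb Qa Qb Ua Ub : Subgroup G, FK T G₀ R Xb Ca Cb Qa Qb Ua Ub ∧
      (∀ y ∈ Xb, y ≠ 1 → G₀ ⊓ centralizer {y} ≤ normalizer (Xb : Set G)) ∧ Nat.card Xb = Nat.card R := by
  have E := emb_of φ hT hTG hTR hR hc hU hs hX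
  obtain ⟨r, hr, hrs⟩ := exists_other hs
  have hXR := XG_emb φ hR hX
  have hj : (emb φ).range = G₀ := emb_range φ
  have E' : Emb (emb φ) T (normalizer ((emb φ).range : Set G)) := by rw [hj]; exact E
  have h1 := E'.fk hr hs hrs
  rw [hj, hXR] at h1
  refine ⟨_, _, _, _, _, _, _, h1, fun y hy hy1 g hg => ?_, ?_⟩
  · refine norm_XG (emb_inj φ) hr hy hy1 ?_ (mem_centralizer_singleton_iff.1 hg.2)
    rw [hj]
    exact le_normalizer hg.1
  · rw [card_XG (emb_inj φ) hr, ← hXR, card_XG (emb_inj φ) hs]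

end Cfsg.Agent.Omega.HOneEnd.FFour
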