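import Cfsg.Agent.Omega.HOneEnd.FFourSide
import Cfsg.Agent.Omega.HOneEnd.FFourTyp
import Cfsg.Agent.KFacts.F4Off
import Cfsg.Agent.KFacts.F4RlInst

/-!
# `FFourDat` for `F₄(q)`, `q` even: the charts for both orders of the dominant roots

`Cht r s e X` : a chart `F4Rl.Rl e X` with `47 ↔ r`, `44 ↔ s`; `exists_cht`.  The `l`-side fields of `FFourDat` for
`(s, r)`: `comm0`, `commJ`, `lt_J`, `lt_J'`, `two`, `cenU`, and the fields of `Offer` except `card`, `off`.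
-/

set_option autoImplicit false
set_option Elab.async false
set_option linter.unusedSectionVars false

namespace Cfsg.Agent.Omega.HOneEnd.FFour

open CoxeterSystem Cfsg.Agent.ChevalleyStructure.CoxeterGeom Cfsg.Agent.Tits.Roots Cfsg.Agent.Tits.Core
open Cfsg Cfsg.Lie Cfsg.Agent.ChevalleyStructure Cfsg.Agent.ChevalleyStructure.Elts
  Cfsg.Agent.ChevalleyStructure.RootVec Cfsg.Agent.ChevalleyStructure.CoxeterGeomTypes
open Cfsg.Agent.Nodes Cfsg.Agent.Nodes.Reps Cfsg.Agent.Nodes.BNOf Cfsg.Agent.Nodes.RGDChev Cfsg.Agent.Nodes.Coroot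
  Cfsg.Agent.Nodes.KindF Cfsg.Agent.KFacts.ChevTwo Cfsg.Agent.KFacts.ChevTwoTab
  Cfsg.Agent.KFacts.ChevTwoInst Cfsg.Agent.KFacts.RgdTI Cfsg.Agent.KFacts.RgdOdd
  Cfsg.Agent.KFacts.F4Star Cfsg.Agent.KFacts.F4Cent Cfsg.Agent.KFacts.F4Pair Cfsg.Agent.KFacts.F4Torus
open Cfsg.Agent.KFacts.F4Rl Cfsg.Agent.KFacts.F4RlInst
open Cfsg.Agent.KFacts.F4Side (mQQ mQl mQs mUl mUs mJs mJl mJ0 mPo)
open Subgroup Cfsg.Agent.ZN Cfsg.Agent.Omega.All.HOne
open Cfsg.Agent.Omega.FrameNOFF (CZ)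
open scoped commutatorElement

universe u v

variable {K : Type v} [Field K] [Finite K] [CharP K 2] {G : Type u} [Group G] {j : ↥(chevF4.group K) →* G}

/-! ### The charts -/

/-- a chart with `47 ↔ r`, `44 ↔ s` -/
structure Cht (r s : Fin 4 → ℤ) (e : ℕ → K → ↥(chevF4.group K)) (X : ℕ → Subgroup ↥(chevF4.group K)) : Prop where
  rl : Rl e X
  X47 : X 47 = XF K r
  X44 : X 44 = XF K s
  Ql : SP X mQl = RGD.Sup (XF K) (Rad cF isType.isCartan r)
  Qs : SP X mQs = RGD.Sup (XF K) (Rad cF isType.isCartan s)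
  Ul : SP X mUl = RGD.Sup (XF K) (V7 cF r)
  Us : SP X mUs = RGD.Sup (XF K) (V7 cF s)
  Js : SP X mJs = RGD.Sup (XF K) (V7 cF r ∩ Rad cF isType.isCartan s)
  Jl : SP X mJl = RGD.Sup (XF K) (V7 cF s ∩ Rad cF isType.isCartan r)
  Po : SP X mPo = RGD.Sup (XF K) (RGD.Pos cF isType.isCartan)
  GG : SP X (nn 44 &&& nn 47) =
    RGD.Sup (XF K) (Ge cF isType.isCartan (v 47) ∩ Ge cF isType.isCartan (v 44))

theorem setOf_pp {a : ℕ} (ha : a < 48) : SetOf (pp a) = Rad cF isType.isCartan (v a) := by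
  ext x
  constructor
  · rintro ⟨c, hc, h, rfl⟩
    exact (mem_rad_v ha hc).2 h
  · intro hx
    obtain ⟨c, hc, rfl⟩ := exists_v cF hx.1
    exact ⟨c, hc, (mem_rad_v ha hc).1 hx, rfl⟩

theorem setOf_v7 {a : ℕ} (ha : a < 48) : SetOf (v7M a) = V7 cF (v a) := by
  ext x
  constructor
  · rintro ⟨c, hc, h, rfl⟩
    exact (mem_v7_v ha hc).2 h
  · intro hx
    obtain ⟨c, hc, rfl⟩ := exists_v cF hx.1
    exact ⟨c, hc, (mem_v7_v ha hc).1 hx, rfl⟩

theorem setOf_and {P Q : ℕ} : SetOf (P &&& Q) = SetOf P ∩ SetOf Q := by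
  ext x
  constructor
  · rintro ⟨c, hc, h, rfl⟩
    rw [Nat.testBit_and, Bool.and_eq_true] at h
    exact ⟨⟨c, hc, h.1, rfl⟩, ⟨c, hc, h.2, rfl⟩⟩
  · rintro ⟨⟨c, hc, h, rfl⟩, ⟨d, hd, h', e⟩⟩
    refine ⟨c, hc, ?_, rfl⟩
    rw [v_inj hd hc e] at h'
    rw [Nat.testBit_and, h, h']; rfl

theorem setOf_gg : SetOf (nn 44 &&& nn 47) = Ge cF isType.isCartan (v 47) ∩ Ge cF isType.isCartan (v 44) := by
  ext x
  constructor
  · rintro ⟨c, hc, h, rfl⟩
    rw [Nat.testBit_and, Bool.and_eq_true] at h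
    exact ⟨(Cfsg.Agent.KFacts.F4Perf.mem_Ge_v cF (by norm_num) hc).2 h.2, (Cfsg.Agent.KFacts.F4Perf.mem_Ge_v cF (by norm_num) hc).2 h.1⟩
  · intro hx
    obtain ⟨c, hc, rfl⟩ := exists_v cF hx.1.1
    refine ⟨c, hc, ?_, rfl⟩
    rw [Nat.testBit_and, Bool.and_eq_true]
    exact ⟨(Cfsg.Agent.KFacts.F4Perf.mem_Ge_v cF (by norm_num) hc).1 hx.2, (Cfsg.Agent.KFacts.F4Perf.mem_Ge_v cF (by norm_num) hc).1 hx.1⟩

theorem cht_std : Cht (K := K) (v 47) (v 44) (eI K) (XI K) where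
  rl := rl
  X47 := rfl
  X44 := rfl
  Ql := by rw [SP_XI, show mQl = pp 47 by decide +kernel, setOf_pp (by norm_num)]
  Qs := by rw [SP_XI, show mQs = pp 44 by decide +kernel, setOf_pp (by norm_num)]
  Ul := by rw [SP_XI, show mUl = v7M 47 by decide +kernel, setOf_v7 (by norm_num)]
  Us := by rw [SP_XI, show mUs = v7M 44 by decide +kernel, setOf_v7 (by norm_num)]
  Js := by
    rw [SP_XI, show mJs = v7M 47 &&& pp 44 by decide +kernel, setOf_and, setOf_v7 (by norm_num), setOf_pp (by norm_num)]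
  Jl := by
    rw [SP_XI, show mJl = v7M 44 &&& pp 47 by decide +kernel, setOf_and, setOf_v7 (by norm_num), setOf_pp (by norm_num)]
  Po := by rw [SP_XI, show mPo = 2 ^ 48 - 2 ^ 24 by decide +kernel, Cfsg.Agent.KFacts.F4Perf.SetOf_pos cF]
  GG := by rw [SP_XI, setOf_gg]

theorem cht_dual {rt : K ≃+* K} (hrt : ∀ t, rt t ^ 2 = t) : Cht (K := K) (v 44) (v 47) (eD rt) (XD K) where
  rl := rlD hrt
  X47 := by
    show XI K (du 47) = _
    rw [show du 47 = 44 by decide +kernel]; rfl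
  X44 := by
    show XI K (du 44) = _
    rw [show du 44 = 47 by decide +kernel]; rfl
  Ql := by rw [SP_XD, show dm mQl = mQs by decide +kernel, cht_std.Qs]
  Qs := by rw [SP_XD, show dm mQs = mQl by decide +kernel, cht_std.Ql]
  Ul := by rw [SP_XD, show dm mUl = mUs by decide +kernel, cht_std.Us]
  Us := by rw [SP_XD, show dm mUs = mUl by decide +kernel, cht_std.Ul]
  Js := by rw [SP_XD, show dm mJs = mJl by decide +kernel, cht_std.Jl]
  Jl := by rw [SP_XD, show dm mJl = mJs by decide +kernel, cht_std.Js]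
  Po := by rw [SP_XD, show dm mPo = mPo by decide +kernel, cht_std.Po]
  GG := by rw [SP_XD, show dm (nn 44 &&& nn 47) = nn 44 &&& nn 47 by decide +kernel, cht_std.GG]

theorem exists_cht {r s : Fin 4 → ℤ} (hr : Dom r) (hs : Dom s) (hrs : r ≠ s) :
    ∃ e X, Cht (K := K) r s e X := by
  rcases hr with rfl | rfl <;> rcases hs with rfl | rfl
  · exact absurd rfl hrs
  · exact ⟨_, _, cht_std⟩
  · obtain ⟨rt, hrt⟩ := Cfsg.Agent.KFacts.F4RlInst.exists_rt (F := K)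
    exact ⟨_, _, cht_dual hrt⟩
  · exact absurd rfl hrs

/-! ### The fields -/

section Fields

variable (hj : Function.Injective j) {r s : Fin 4 → ℤ} {e : ℕ → K → ↥(chevF4.group K)}
  {X : ℕ → Subgroup ↥(chevF4.group K)} (C : Cht (K := K) r s e X)

include hj C

theorem QQ_eqC : QG j s ⊔ QG j r = (SP X mQQ).map j := by
  unfold QG SG
  rw [← C.Ql, ← C.Qs, ← Subgroup.map_sup, Cfsg.Agent.KFacts.F4Two.sup_QQ]

theorem J_eqC : UG j r ⊓ QG j s = (SP X mJs).map j := by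
  unfold UG QG SG
  rw [← C.Ul, ← C.Qs, ← Subgroup.map_inf _ _ j hj, Cfsg.Agent.KFacts.F4Two.inf_Js C.rl]

theorem J0_eqC : QG j s ⊓ QG j r = (SP X mJ0).map j := by
  unfold QG SG
  rw [← C.Ql, ← C.Qs, ← Subgroup.map_inf _ _ j hj, Cfsg.Agent.KFacts.F4Two.inf_J0 C.rl]

theorem Z_eqC : XG j s ⊔ XG j r = (SP X (2 ^ 44 + 2 ^ 47)).map j := by
  unfold XG
  rw [← C.X47, ← C.X44, ← Subgroup.map_sup, Cfsg.Agent.KFacts.F4Two.sup_Z]

theorem X_le_U : XG j s ≤ UG j r := by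
  unfold XG UG SG
  rw [← C.X44, ← C.Ul]
  exact map_mono (le_SP (by norm_num) (by decide +kernel))

theorem comm0 : ⁅QG j s ⊔ QG j r, QG j s ⊔ QG j r⁆ = QG j s ⊓ QG j r := by
  rw [QQ_eqC hj C, J0_eqC hj C, ← map_commutator, Cfsg.Agent.KFacts.F4Two.comm0 C.rl]

theorem commJ : ⁅UG j r ⊓ QG j s, QG j s ⊔ QG j r⁆ = XG j s := by
  rw [QQ_eqC hj C, J_eqC hj C, ← map_commutator, Cfsg.Agent.KFacts.F4Two.commJs C.rl, C.X44]
  rfl

theorem map_lt {A B : Subgroup ↥(chevF4.group K)} (h : A < B) : A.map j < B.map j := by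
  refine lt_of_le_of_ne (map_mono h.le) fun h1 => h.ne (map_injective hj h1)

theorem lt_J : XG j s ⊔ XG j r < UG j r ⊓ QG j s := by
  rw [Z_eqC hj C, J_eqC hj C]
  exact map_lt hj C (Cfsg.Agent.KFacts.F4Two.lt_Js C.rl)

theorem lt_J' : UG j r ⊓ QG j s < QG j s ⊓ QG j r := by
  rw [J_eqC hj C, J0_eqC hj C]
  exact map_lt hj C (Cfsg.Agent.KFacts.F4Two.Js_lt C.rl)

theorem cenU : (QG j s ⊔ QG j r) ⊓ centralizer (UG j r : Set G) ≤ QG j r := by
  rw [QQ_eqC hj C]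
  unfold UG QG SG
  rw [← C.Ul, ← C.Ql]
  rintro _ ⟨⟨x, hx, rfl⟩, hc⟩
  refine ⟨x, Cfsg.Agent.KFacts.F4Side.mem_Ql C.rl fun y hy => hj ?_, rfl⟩
  rw [map_mul, map_mul]
  exact ((mem_centralizer_iff.1 hc) _ ⟨y, hy, rfl⟩).symm

/-- `Q_r ≤ C(U_r)` -/
theorem Q_le_C : QG j r ≤ centralizer (UG j r : Set G) := by
  unfold UG QG SG
  rw [← C.Ul, ← C.Ql]
  rintro _ ⟨x, hx, rfl⟩
  rw [mem_centralizer_iff]
  rintro _ ⟨y, hy, rfl⟩
  rw [← map_mul, ← map_mul, Cfsg.Agent.KFacts.F4Side.comm_Ul_Ql C.rl hy hx]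

theorem two' {e' : ℕ → K → ↥(chevF4.group K)} {X' : ℕ → Subgroup ↥(chevF4.group K)} (C' : Cht (K := K) s r e' X')
    {T : Subgroup G} (h1 : XG j s ⊔ XG j r < T) (h2 : T < QG j s ⊓ QG j r)
    (hn : SG j (Ge cF isType.isCartan (v 47) ∩ Ge cF isType.isCartan (v 44)) ≤ normalizer (T : Set G)) :
    T = UG j r ⊓ QG j s ∨ T = UG j s ⊓ QG j r := by
  have hJl : UG j s ⊓ QG j r = (SP X mJl).map j := by
    rw [J_eqC hj C', C'.Js, C.Jl]
  rw [Z_eqC hj C] at h1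
  rw [J0_eqC hj C] at h2
  rw [J_eqC hj C, hJl]
  have hTr : T ≤ j.range := h2.le.trans (map_le_range j _)
  have hTm : (T.comap j).map j = T := map_comap_eq_self hTr
  have hp : IsPGroup 2 (SP X mPo) := by
    rw [C.Po]
    exact (rgd (K := K) isType cF 2).isPGroup_Upos
  have h3 := Cfsg.Agent.KFacts.F4Two.two C.rl hp (T := T.comap j) (fun h => ?_) ?_ ?_ ?_
  · rcases h3 with h3 | h3 | h3
    · left; rw [← hTm, h3]
    · right; rw [← hTm, h3]
    · exfalso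
      rw [← hTm, h3] at h2
      exact lt_irrefl _ h2
  · have h4 := map_mono (f := j) h
    rw [hTm] at h4
    exact absurd h1 (not_lt_of_ge h4)
  · intro x hx
    exact h1.le ⟨x, hx, rfl⟩
  · intro x hx
    obtain ⟨y, hy, e⟩ := h2.le hx
    rw [← hj e]
    exact hy
  · intro g hg t ht
    rw [C.GG] at hg
    rw [mem_comap, map_mul, map_mul, map_inv]
    exact (mem_normalizer_iff.1 (hn ⟨g, hg, rfl⟩) (j t)).1 ht

theorem card_map (A : Subgroup ↥(chevF4.group K)) : Nat.card (A.map j) = Nat.card A :=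
  card_map_of_injective hj

/-- **The field `offer`.** -/
theorem offer [Finite G] (hr : Dom r) (hs : Dom s) :
    Offer (SG j (RGD.Pos cF isType.isCartan)) (QG j s ⊔ QG j r) (UG j r) (UG j r ⊓ QG j s) (XG j s) (UG j s) := by
  have hQ : QG j s ⊔ QG j r ≤ SG j (RGD.Pos cF isType.isCartan) := sup_le (SG_mono hs.rad_sub) (SG_mono hr.rad_sub)
  have hJC : ∀ v : ↥(chevF4.group K), j v ∈ centralizer ((UG j r ⊓ QG j s : Subgroup G) : Set G) →
      ∀ y ∈ SP X mJs, v * y = y * v := by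
    intro v hv y hy
    apply hj
    rw [map_mul, map_mul]
    refine ((mem_centralizer_iff.1 hv) _ ?_).symm
    rw [SetLike.mem_coe, J_eqC hj C]
    exact ⟨y, hy, rfl⟩
  refine
    { U_el := SG_el (fun x hx => hx.1) fun x hx y hy => hr.v7_comm hx (v7_sub_rad hr.root hy)
      U_S₀ := SG_mono ((v7_sub_rad hr.root).trans hr.rad_sub)
      QQ_S₀ := hQ
      QQ_U := ?_
      J_U := inf_le_left
      comm := ?_
      fix := ?_
      card := ?_
      off := ?_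
      triv := ?_
      fin := ?_ }
  · rw [QQ_eqC hj C]
    unfold UG SG
    rw [← C.Ul]
    rintro _ ⟨x, hx, rfl⟩
    exact map_mem_normalizer (C.rl.norm_SP (P := mQQ) (N := mUl) (by decide +kernel) hx)
  · intro y hy v hv
    rw [J_eqC hj C] at hy
    rw [QQ_eqC hj C] at hv
    obtain ⟨y, hy, rfl⟩ := hy
    obtain ⟨v, hv, rfl⟩ := hv
    have h1 := Cfsg.Agent.KFacts.F4Form.comm_Js C.rl hy hv
    rw [C.X44] at h1
    exact ⟨_, h1, by rw [commutatorElement_def, map_mul, map_mul, map_mul, map_inv, map_inv]⟩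
  · intro v hv hvc u hu huv
    rw [QQ_eqC hj C] at hv
    obtain ⟨v, hv, rfl⟩ := hv
    have hu' := hu
    unfold UG SG at hu'
    rw [← C.Ul] at hu'
    obtain ⟨u, hu', rfl⟩ := hu'
    rw [J_eqC hj C]
    by_contra hJ
    apply hvc
    have h1 : v ∈ SP X mQl := Cfsg.Agent.KFacts.F4Form.fix C.rl hv hu'
      (hj (by rw [map_mul, map_mul]; exact huv.symm)) fun h => hJ ⟨u, h, rfl⟩
    refine Q_le_C hj C ?_
    unfold QG SG
    rw [← C.Ql]
    exact ⟨v, h1, rfl⟩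
  · rw [J_eqC hj C]
    unfold UG XG SG
    rw [← C.Ul, ← C.X44, card_map hj C, card_map hj C, card_map hj C]
    exact Cfsg.Agent.KFacts.F4Off.card C.rl
  · intro V hV
    rw [QQ_eqC hj C] at hV
    have hVr : V ≤ j.range := hV.trans (map_le_range j _)
    have hVm : (V.comap j).map j = V := map_comap_eq_self hVr
    have hV' : V.comap j ≤ SP X mQQ := by
      intro x hx
      obtain ⟨y, hy, e⟩ := hV hx
      rw [← hj e]
      exact hy
    have h1 := Cfsg.Agent.KFacts.F4Off.off C.rl hV'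
    have e1 : UG j r ⊓ centralizer (V : Set G) =
        (SP X mUl ⊓ centralizer ((V.comap j : Subgroup _) : Set ↥(chevF4.group K))).map j := by
      unfold UG SG
      rw [← C.Ul]
      ext g
      constructor
      · rintro ⟨⟨x, hx, rfl⟩, hc⟩
        refine ⟨x, ⟨hx, mem_centralizer_iff.2 fun y hy => hj ?_⟩, rfl⟩
        rw [map_mul, map_mul]
        exact mem_centralizer_iff.1 hc _ hy
      · rintro ⟨x, ⟨hx, hc⟩, rfl⟩
        refine ⟨⟨x, hx, rfl⟩, mem_centralizer_iff.2 fun y hy => ?_⟩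
        obtain ⟨z, rfl⟩ := hVr hy
        rw [← map_mul, ← map_mul, mem_centralizer_iff.1 hc z hy]
    have e2 : V ⊓ centralizer (UG j r : Set G) =
        (V.comap j ⊓ centralizer (SP X mUl : Set ↥(chevF4.group K))).map j := by
      unfold UG SG
      rw [← C.Ul]
      ext g
      constructor
      · rintro ⟨hg, hc⟩
        obtain ⟨x, rfl⟩ := hVr hg
        refine ⟨x, ⟨hg, mem_centralizer_iff.2 fun y hy => hj ?_⟩, rfl⟩
        rw [map_mul, map_mul]
        exact mem_centralizer_iff.1 hc _ ⟨y, hy, rfl⟩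
      · rintro ⟨x, ⟨hx, hc⟩, rfl⟩
        refine ⟨hx, mem_centralizer_iff.2 ?_⟩
        rintro _ ⟨y, hy, rfl⟩
        rw [← map_mul, ← map_mul, mem_centralizer_iff.1 hc y hy]
    have e3 : Nat.card V = Nat.card (V.comap j) := by
      rw [← card_map hj C, hVm]
    rw [e1, e2, card_map hj C, card_map hj C, e3]
    unfold UG SG
    rw [← C.Ul, card_map hj C]
    exact h1
  · rintro _ ⟨x, hx, rfl⟩ v ⟨hv, hvJ⟩
    rw [QQ_eqC hj C] at hv
    obtain ⟨v, hv, rfl⟩ := hv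
    rw [← C.Po] at hx
    have h1 := Cfsg.Agent.KFacts.F4Form.triv C.rl hx (hJC v hvJ)
    refine Q_le_C hj C ?_
    unfold QG SG
    rw [← C.Ql]
    exact ⟨_, h1, by rw [commutatorElement_def, map_mul, map_mul, map_mul, map_inv, map_inv]⟩
  · intro V hV _ hVU h
    exfalso
    apply hVU
    intro w hw
    obtain ⟨hv, hvJ⟩ := hV hw
    rw [QQ_eqC hj C] at hv
    obtain ⟨v, hv, rfl⟩ := hv
    refine Q_le_C hj C ?_
    unfold QG SG
    rw [← C.Ql]
    refine ⟨v, Cfsg.Agent.KFacts.F4Form.fin C.rl (hJC v hvJ) fun x hx => ?_, rfl⟩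
    rw [C.Po] at hx
    obtain ⟨u, hu, h1⟩ := h (j x) ⟨x, hx, rfl⟩
    unfold UG SG at hu
    rw [← C.Ul] at hu
    obtain ⟨u, hu, rfl⟩ := hu
    refine ⟨u, hu, hj ?_⟩
    rw [map_mul, map_mul, map_mul, map_mul, map_inv]
    exact ((mem_centralizer_iff.1 h1) _ hw).symm

end Fields

end Cfsg.Agent.Omega.HOneEnd.FFour
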