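import Cfsg.Agent.Omega.HOneEnd.FFourDefs
import Cfsg.Agent.KFacts.RgdAutN

/-!
# `FFourDat` for `F₄(q)`, `q` even: facts inside `F₄(K)`

* `sup_comm` : `⟨X_x : x ∈ A⟩`, `⟨X_y : y ∈ B⟩` commute if `⟨y,x⟩ ≥ 0`; `sup_sq`;
* `core_JJ` : a 2-subgroup normalised by `U` and by the middle Levi factor lies in `Q_{47} Q_{44}`;
* `cent_rad`, `cent_rad2` : centralisers of `Q_r`, `Q_{47} Q_{44}`;
* `exists_tor` : the torus is transitive on `X_r#`.
-/

set_option autoImplicit false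
set_option Elab.async false

namespace Cfsg.Agent.Omega.HOneEnd.FFour

open CoxeterSystem Cfsg.Agent.ChevalleyStructure.CoxeterGeom Cfsg.Agent.Tits.Roots Cfsg.Agent.Tits.Core
  Cfsg.Agent.Tits.Exchange
open Cfsg.Lie Cfsg.Agent.ChevalleyStructure Cfsg.Agent.ChevalleyStructure.Elts
  Cfsg.Agent.ChevalleyStructure.RootVec Cfsg.Agent.ChevalleyStructure.CoxeterGeomTypes
open Cfsg.Agent.Nodes Cfsg.Agent.Nodes.Reps Cfsg.Agent.Nodes.BNOf Cfsg.Agent.Nodes.RGDChev Cfsg.Agent.Nodes.Coroot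
  Cfsg.Agent.Nodes.KindF Cfsg.Agent.Nodes.Bruhat Cfsg.Agent.Nodes.OppDec Cfsg.Agent.Nodes.LeviDec
  Cfsg.Agent.Nodes.StabComb
  Cfsg.Agent.KFacts.ChevTwo Cfsg.Agent.KFacts.ChevTwoTab
  Cfsg.Agent.KFacts.ChevTwoInst Cfsg.Agent.KFacts.RgdTI Cfsg.Agent.KFacts.RgdOdd Cfsg.Agent.KFacts.RgdEx
  Cfsg.Agent.KFacts.F4Star Cfsg.Agent.KFacts.F4Cent Cfsg.Agent.KFacts.F4Pair Cfsg.Agent.KFacts.F4Torus
  Cfsg.Agent.KFacts.F4Perf Cfsg.Agent.KFacts.F4Aut Cfsg.Agent.KFacts.F4AutPair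

universe u

variable {K : Type u} [Field K] [Finite K] [CharP K 2]

instance : Finite CoxeterMatrix.F₄.Group := finW

theorem sup_comm {A B : Set (Fin 4 → ℤ)} (hA : ∀ x ∈ A, IsRoot cF isType.isCartan x)
    (hB : ∀ y ∈ B, IsRoot cF isType.isCartan y) (h : ∀ x ∈ A, ∀ y ∈ B, 0 ≤ cpr cF isType.isCartan y x)
    {a b : ↥(chevF4.group K)} (ha : a ∈ RGD.Sup (XF K) A) (hb : b ∈ RGD.Sup (XF K) B) : a * b = b * a := by
  have h1 : RGD.Sup (XF K) A ≤ Subgroup.centralizer (RGD.Sup (XF K) B : Set ↥(chevF4.group K)) := by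
    refine RGD.Sup_le fun x hx z hz => ?_
    rw [Subgroup.mem_centralizer_iff]
    intro g hg
    have hle : RGD.Sup (XF K) B ≤ RGD.Sup (XF K) (Ge cF isType.isCartan x) :=
      RGD.Sup_mono fun y hy => ⟨hB y hy, h x hx y hy⟩
    exact ((sysF (K := K) cF).lr (hA x hx)).comm' (hle hg) hz
  exact ((Subgroup.mem_centralizer_iff.1 (h1 ha)) b hb).symm

theorem e_sq {x : Fin 4 → ℤ} (hx : IsRoot cF isType.isCartan x) {z : ↥(chevF4.group K)} (hz : z ∈ XF K x) :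
    z * z = 1 := by
  obtain ⟨t, rfl⟩ := (mem_XF_iff cF hx).1 hz
  rw [← (sysF (K := K) cF).data.add x hx, CharTwo.add_self_eq_zero, (sysF (K := K) cF).data.zero hx]

/-- an abelian join of root groups has exponent 2 -/
theorem sup_sq {A : Set (Fin 4 → ℤ)} (hA : ∀ x ∈ A, IsRoot cF isType.isCartan x)
    (h : ∀ x ∈ A, ∀ y ∈ A, 0 ≤ cpr cF isType.isCartan y x) {a : ↥(chevF4.group K)}
    (ha : a ∈ RGD.Sup (XF K) A) : a * a = 1 := by
  unfold RGD.Sup at ha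
  induction ha using Subgroup.iSup_induction' with
  | hp z x hx => exact e_sq (hA _ z.2) hx
  | h1 => rw [mul_one]
  | hmul x y hx hy ih1 ih2 =>
    have h1 : y * x = x * y := sup_comm hA hA h hy hx
    calc x * y * (x * y) = x * (y * x) * y := by group
      _ = (x * x) * (y * y) := by rw [h1]; group
      _ = 1 := by rw [ih1, ih2, one_mul]

theorem X_ne {x : Fin 4 → ℤ} (hx : IsRoot cF isType.isCartan x) : ∃ z ∈ XF K x, z ≠ 1 := by
  have h1 := X_ne_bot (rgd (K := K) isType cF 2) hx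
  rw [ne_eq, Subgroup.eq_bot_iff_forall] at h1
  push Not at h1
  exact h1

/-- commuting with the root groups of `A` -/
theorem cm_of_comm {A : Set (Fin 4 → ℤ)} (hA : ∀ x ∈ A, IsRoot cF isType.isCartan x) {g : ↥(chevF4.group K)}
    (hg : ∀ z ∈ RGD.Sup (XF K) A, g * z = z * g) : Cm g A := by
  intro c hc
  obtain ⟨z, hz, hz1⟩ := X_ne (K := K) (hA c hc)
  exact ⟨z, hz, hz1, hg z (RGD.le_Sup hc hz)⟩

/-- **`C(Q_r) ≤ U_r`** -/
theorem cent_rad {r : Fin 4 → ℤ} (hr : IsRoot cF isType.isCartan r) {g : ↥(chevF4.group K)}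
    (hg : ∀ z ∈ RGD.Sup (XF K) (Rad cF isType.isCartan r), g * z = z * g) : g ∈ RGD.Sup (XF K) (V7 cF r) :=
  cent_Q cF hr (cm_of_comm (fun _ hx => hx.1) hg)

theorem spanQQ : spanM (pp 47 ||| pp 44) = true := by decide +kernel

theorem starQQ : starM (pp 47 ||| pp 44) = 2 ^ 47 + 2 ^ 44 := by decide +kernel

theorem setOf_QQ : SetOf (pp 47 ||| pp 44) = Rad cF isType.isCartan (v 47) ∪ Rad cF isType.isCartan (v 44) := by
  ext x
  constructor
  · rintro ⟨c, hc, h, rfl⟩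
    rw [Nat.testBit_lor, Bool.or_eq_true] at h
    rcases h with h | h
    · exact Or.inl ((mem_rad_v (by norm_num) hc).2 h)
    · exact Or.inr ((mem_rad_v (by norm_num) hc).2 h)
  · intro hx
    have hxr : IsRoot cF isType.isCartan x := by
      rcases hx with h | h
      · exact h.1
      · exact h.1
    obtain ⟨c, hc, rfl⟩ := exists_v cF hxr
    refine ⟨c, hc, ?_, rfl⟩
    rw [Nat.testBit_lor, Bool.or_eq_true]
    rcases hx with h | h
    · exact Or.inl ((mem_rad_v (by norm_num) hc).1 h)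
    · exact Or.inr ((mem_rad_v (by norm_num) hc).1 h)

/-- **`C(Q_{47} Q_{44}) ≤ X_{47} X_{44}`** -/
theorem cent_rad2 {g : ↥(chevF4.group K)}
    (hg : ∀ z ∈ RGD.Sup (XF K) (Rad cF isType.isCartan (v 47) ∪ Rad cF isType.isCartan (v 44)), g * z = z * g) :
    g ∈ RGD.Sup (XF K) {v 47, v 44} := by
  have h1 : Cm g (SetOf (pp 47 ||| pp 44)) := by
    rw [setOf_QQ]
    refine cm_of_comm (fun x hx => ?_) hg
    rcases hx with h | h
    · exact h.1
    · exact h.1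
  refine RGD.Sup_mono ?_ (cent_mask spanQQ h1)
  rw [starQQ]
  rintro _ ⟨r, hr, h2, rfl⟩
  have h3 : r = 47 ∨ r = 44 := by
    revert r
    decide +kernel
  rcases h3 with rfl | rfl
  · exact Or.inl rfl
  · exact Or.inr rfl

/-! ### The 2-core of parabolic subgroups -/

theorem isPGroup_sup {D : Subgroup ↥(chevF4.group K)} (hD : IsPGroup 2 D)
    (hn : RGD.Sup (XF K) (RGD.Pos cF isType.isCartan) ≤ Subgroup.normalizer (D : Set ↥(chevF4.group K))) :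
    D ≤ RGD.Sup (XF K) (RGD.Pos cF isType.isCartan) := by
  have : Fact (Nat.Prime 2) := ⟨Nat.prime_two⟩
  obtain ⟨R, -⟩ : ∃ R, R = rgd (K := K) isType cF 2 := ⟨_, rfl⟩
  have h3 : IsPGroup 2 ↥(D ⊔ RGD.Sup (XF K) (RGD.Pos cF isType.isCartan)) :=
    hD.to_sup_of_normal_left' R.isPGroup_Upos hn
  have h4 := eq_U R (P := D ⊔ RGD.Sup (XF K) (RGD.Pos cF isType.isCartan)) le_sup_right
    (by rw [GG_top cF]; exact le_top) h3
  rw [← h4]
  exact le_sup_left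

/-- **`O₂(P_J) = V_J`**, `J` the middle nodes. -/
theorem core_JJ {D : Subgroup ↥(chevF4.group K)} (hD : IsPGroup 2 D)
    (hn : RGD.Sup (XF K) (Ge cF isType.isCartan (v 47) ∩ Ge cF isType.isCartan (v 44)) ≤
      Subgroup.normalizer (D : Set ↥(chevF4.group K))) :
    D ≤ RGD.Sup (XF K) (Rad cF isType.isCartan (v 47) ∪ Rad cF isType.isCartan (v 44)) := by
  obtain ⟨R, -⟩ : ∃ R, R = rgd (K := K) isType cF 2 := ⟨_, rfl⟩
  have hU : RGD.Sup (XF K) (RGD.Pos cF isType.isCartan) ≤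
      RGD.Sup (XF K) (Ge cF isType.isCartan (v 47) ∩ Ge cF isType.isCartan (v 44)) :=
    RGD.Sup_mono fun x hx => ⟨Dom.pos_sub (Or.inl rfl) hx, Dom.pos_sub (Or.inr rfl) hx⟩
  have h1 := isPGroup_sup hD (hU.trans hn)
  have hlong : IsLongest cF JJ (wJ cF JJ) := isLongest_wJ cF JJ
  obtain ⟨k, hk, hkr⟩ := exists_rp_in R hlong.mem
  have hk' := hn (RGD.Sup_mono rootsJ_sub hk)
  intro d hd'
  have h5 : k⁻¹ * d * k ∈ D := by
    have := (Subgroup.mem_normalizer_iff.1 (inv_mem hk') d).1 hd'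
    rwa [inv_inv] at this
  have h6 := mem_PW_of_conj R hkr (h1 hd') (RGD.U_le_B (h1 h5))
  rw [← notJ_eq]
  refine (RGD.Sup_mono ?_ : RGD.Sup (XF K) (PW cF isType.isCartan (wJ cF JJ)⁻¹) ≤
    RGD.Sup (XF K) (NotJ cF isType.isCartan JJ)) h6
  intro x hx
  refine ⟨hx.1, hx.2.1, ?_⟩
  by_contra h8
  push Not at h8
  have h10 : x ∈ PosJ cF isType.isCartan JJ := ⟨hx.1, hx.2.1, fun k hk => le_antisymm (h8 k hk) (hx.2.1 k)⟩
  have h11 := rep_longest_nonpos hlong h10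
  have h12 := hx.2.2
  rw [hlong.inv_eq] at h12
  exact (hx.1.act _).not_pos_neg h12 h11

/-- `P_r` normalises `Q_r`. -/
theorem ge_le_normalizer {r : Fin 4 → ℤ} (hr : IsRoot cF isType.isCartan r) :
    RGD.Sup (XF K) (Ge cF isType.isCartan r) ≤
      Subgroup.normalizer (RGD.Sup (XF K) (Rad cF isType.isCartan r) : Set ↥(chevF4.group K)) := by
  obtain ⟨R, -⟩ : ∃ R, R = rgd (K := K) isType cF 2 := ⟨_, rfl⟩
  refine RGD.Sup_le fun y hy => ?_
  exact Cfsg.Agent.KFacts.RgdAutN.X_le_normalizer R (ell cF isType.isCartan hr) hy.1 hy.2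

/-! ### The torus -/

omit [Finite K] [CharP K 2] in
theorem exists_char {r : Fin 4 → ℤ} (hr : Dom r) (c : Kˣ) :
    ∃ χ : (Fin 4 → ℤ) →+ Additive Kˣ, χ r = Additive.ofMul c := by
  have h47 : (v 47 : Fin 4 → ℤ) 2 = 3 ∧ (v 47 : Fin 4 → ℤ) 3 = 2 := by rw [v47_eq]; exact ⟨rfl, rfl⟩
  have h44 : (v 44 : Fin 4 → ℤ) 3 = 1 := by rw [v44_eq]; rfl
  rcases hr with rfl | rfl
  · refine ⟨(zmultiplesHom _ (Additive.ofMul c)).comp
      (Pi.evalAddMonoidHom (fun _ => ℤ) 2 - Pi.evalAddMonoidHom (fun _ => ℤ) 3), ?_⟩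
    rw [AddMonoidHom.comp_apply, AddMonoidHom.sub_apply, Pi.evalAddMonoidHom_apply, Pi.evalAddMonoidHom_apply,
      h47.1, h47.2]
    show ((3 : ℤ) - 2) • Additive.ofMul c = _
    norm_num
  · refine ⟨(zmultiplesHom _ (Additive.ofMul c)).comp (Pi.evalAddMonoidHom (fun _ => ℤ) 3), ?_⟩
    rw [AddMonoidHom.comp_apply, Pi.evalAddMonoidHom_apply, h44]
    show (1 : ℤ) • Additive.ofMul c = _
    rw [one_smul]

/-- **The torus is transitive on `X_r#`.** -/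
theorem exists_tor {r : Fin 4 → ℤ} (hr : Dom r) {x x' : ↥(chevF4.group K)} (hx : x ∈ XF K r) (hx' : x' ∈ XF K r)
    (h1 : x ≠ 1) (h1' : x' ≠ 1) : ∃ t ∈ TF K, t * x * t⁻¹ = x' := by
  have S := sysF (K := K) cF
  obtain ⟨a, ha, rfl⟩ := S.exists_e hr.root hx h1
  obtain ⟨b, hb, rfl⟩ := S.exists_e hr.root hx' h1'
  obtain ⟨χ, hχ⟩ := exists_char hr (Units.mk0 b hb * (Units.mk0 a ha)⁻¹)
  obtain ⟨t, ht, e⟩ := exists_torus (K := K) cF χ
  refine ⟨t, ht, ?_⟩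
  rw [e r hr.root a, hχ]
  congr 1
  show ((Units.mk0 b hb * (Units.mk0 a ha)⁻¹ : Kˣ) : K) * a = b
  rw [Units.val_mul, Units.val_inv_eq_inv_val, Units.val_mk0, Units.val_mk0, mul_assoc, inv_mul_cancel₀ ha, mul_one]

/-- the torus normalises the joins of root groups -/
theorem tor_normalizer {A : Set (Fin 4 → ℤ)} (hA : ∀ x ∈ A, IsRoot cF isType.isCartan x) :
    TF K ≤ Subgroup.normalizer (RGD.Sup (XF K) A : Set ↥(chevF4.group K)) :=
  RGD.T_le_normalizer (rgd (K := K) isType cF 2) hA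

end Cfsg.Agent.Omega.HOneEnd.FFour
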