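import Cfsg.Agent.Omega.HOneEnd.FFourAct
import Cfsg.Agent.Omega.All.HOneBase

/-!
# `FFourDat` for `F₄(q)`, `q` even: `Side`, `O₂(C_G(Z))`

* `Emb.CG_eq` : `CG j r = C_{G₀}(X_r)`;
* `Emb.side` : `Side S Y (CG j r) (XG j r) (QG j r) (UG j r)`, given the fields `irr`, `comm`, `typ`;
* `Emb.oZ` : `O₂(C_G(Z)) = Q_{47} Q_{44}`; `Emb.cen0` : `Z(Q_{47} Q_{44}) = X_{47} X_{44}`.
-/

set_option autoImplicit false
set_option Elab.async false
set_option linter.unusedSectionVars false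

namespace Cfsg.Agent.Omega.HOneEnd.FFour

open CoxeterSystem Cfsg.Agent.ChevalleyStructure.CoxeterGeom Cfsg.Agent.Tits.Roots Cfsg.Agent.Tits.Core
open Cfsg Cfsg.Lie Cfsg.Agent.ChevalleyStructure Cfsg.Agent.ChevalleyStructure.Elts
  Cfsg.Agent.ChevalleyStructure.RootVec Cfsg.Agent.ChevalleyStructure.CoxeterGeomTypes
open Cfsg.Agent.Nodes Cfsg.Agent.Nodes.Reps Cfsg.Agent.Nodes.BNOf Cfsg.Agent.Nodes.RGDChev Cfsg.Agent.Nodes.Coroot
  Cfsg.Agent.Nodes.KindF Cfsg.Agent.Nodes.Bruhat Cfsg.Agent.Nodes.OppDec Cfsg.Agent.Nodes.LeviDec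
  Cfsg.Agent.KFacts.ChevTwo Cfsg.Agent.KFacts.ChevTwoTab
  Cfsg.Agent.KFacts.ChevTwoInst Cfsg.Agent.KFacts.RgdTI Cfsg.Agent.KFacts.RgdOdd Cfsg.Agent.KFacts.RgdEx
  Cfsg.Agent.KFacts.F4Star Cfsg.Agent.KFacts.F4Cent Cfsg.Agent.KFacts.F4Pair Cfsg.Agent.KFacts.F4Torus
  Cfsg.Agent.KFacts.F4Perf Cfsg.Agent.KFacts.F4Aut Cfsg.Agent.KFacts.F4AutPair
open Subgroup Cfsg.Agent.ZN Cfsg.Agent.Omega.MinPar Cfsg.Agent.Omega.Frame Cfsg.Agent.Omega.All.HOne
open Cfsg.Agent.Omega.FrameNOFF (CZ)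
open Cfsg.Agent.MinSimple.VModule (le_o2 mem_zc zc_le zc_comm o2_le o2_isPGroup le_normalizer_o2 le_centralizer_zc
  zc_le_centralizer zc_sq normalizer_le_normalizer_zc)

universe u v

variable {K : Type v} [Field K] [Finite K] [CharP K 2] {G : Type u} [Group G] {j : ↥(chevF4.group K) →* G}

theorem mem_SG {A : Set (Fin 4 → ℤ)} {g : G} : g ∈ SG j A ↔ ∃ x ∈ RGD.Sup (XF K) A, j x = g := Iff.rfl

theorem mem_XG {r : Fin 4 → ℤ} {g : G} : g ∈ XG j r ↔ ∃ x ∈ XF K r, j x = g := Iff.rfl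

theorem SG_mono {A B : Set (Fin 4 → ℤ)} (h : A ⊆ B) : SG j A ≤ SG j B := map_mono (RGD.Sup_mono h)

theorem SG_le_range {A : Set (Fin 4 → ℤ)} : SG j A ≤ j.range := by
  rintro _ ⟨x, -, rfl⟩
  exact ⟨x, rfl⟩

theorem XG_le_SG {r : Fin 4 → ℤ} {A : Set (Fin 4 → ℤ)} (h : r ∈ A) : XG j r ≤ SG j A := map_mono (RGD.le_Sup h)

theorem SG_union {A B : Set (Fin 4 → ℤ)} : SG j (A ∪ B) = SG j A ⊔ SG j B := by
  unfold SG
  rw [← Subgroup.map_sup]
  congr 1
  apply le_antisymm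
  · refine RGD.Sup_le fun z hz => ?_
    rcases hz with h | h
    · exact (RGD.le_Sup h).trans le_sup_left
    · exact (RGD.le_Sup h).trans le_sup_right
  · exact sup_le (RGD.Sup_mono Set.subset_union_left) (RGD.Sup_mono Set.subset_union_right)

theorem el_of {A : Subgroup G} (h1 : ∀ a ∈ A, ∀ b ∈ A, a * b = b * a) (h2 : ∀ a ∈ A, a * a = 1) :
    IsElementaryAbelian 2 A :=
  ⟨⟨⟨fun a b => Subtype.ext (h1 a a.2 b b.2)⟩⟩, fun a ha => by rw [pow_two]; exact h2 a ha⟩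

theorem SG_el {A : Set (Fin 4 → ℤ)} (hA : ∀ x ∈ A, IsRoot cF isType.isCartan x)
    (h : ∀ x ∈ A, ∀ y ∈ A, 0 ≤ cpr cF isType.isCartan y x) : IsElementaryAbelian 2 (SG j A) := by
  refine el_of ?_ ?_
  · rintro _ ⟨a, ha, rfl⟩ _ ⟨b, hb, rfl⟩
    rw [← map_mul, ← map_mul, sup_comm hA hA h ha hb]
  · rintro _ ⟨a, ha, rfl⟩
    rw [← map_mul, sup_sq hA h ha, map_one]

theorem map_mem_normalizer {H : Subgroup ↥(chevF4.group K)} {t : ↥(chevF4.group K)}
    (ht : t ∈ normalizer (H : Set ↥(chevF4.group K))) : j t ∈ normalizer (H.map j : Set G) := by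
  have key : ∀ t ∈ normalizer (H : Set ↥(chevF4.group K)), ∀ z ∈ H.map j, j t * z * (j t)⁻¹ ∈ H.map j := by
    rintro t ht _ ⟨y, hy, rfl⟩
    refine ⟨t * y * t⁻¹, (mem_normalizer_iff.1 ht y).1 hy, ?_⟩
    rw [map_mul, map_mul, map_inv]
  rw [mem_normalizer_iff]
  intro z
  refine ⟨key t ht z, fun hz => ?_⟩
  have h1 := key t⁻¹ (inv_mem ht) _ hz
  rw [map_inv] at h1
  have e : (j t)⁻¹ * (j t * z * (j t)⁻¹) * (j t)⁻¹⁻¹ = z := by group
  rwa [e] at h1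

namespace Emb

variable {S Y : Subgroup G} (E : Emb j S Y)

include E

theorem CG_eq {r : Fin 4 → ℤ} (hr : Dom r) : CG j r = j.range ⊓ centralizer (XG j r : Set G) := by
  apply le_antisymm
  · refine le_inf SG_le_range ?_
    rintro _ ⟨x, hx, rfl⟩
    rw [mem_centralizer_iff]
    rintro _ ⟨z, hz, rfl⟩
    rw [← map_mul, ← map_mul, ((sysF (K := K) cF).lr hr.root).comm' hx hz]
  · rintro _ ⟨⟨x, rfl⟩, hx⟩
    obtain ⟨z, hz, hz1⟩ := X_ne (K := K) hr.root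
    refine ⟨x, cent_X cF hr.root hz hz1 (E.inj ?_), rfl⟩
    rw [map_mul, map_mul]
    exact ((mem_centralizer_iff.1 hx) _ ⟨z, hz, rfl⟩).symm

theorem UG_le : SG j (RGD.Pos cF isType.isCartan) ≤ S := by
  rw [← E.S₀]; exact inf_le_left

theorem S_CG {r : Fin 4 → ℤ} (hr : Dom r) : S ≤ normalizer (CG j r : Set G) := by
  rw [E.CG_eq hr]
  exact normalizer_inf_le E.S_G (normalizer_centralizer_le (E.S_X hr))

/-- `O₂(C) ≤ Q` -/
theorem Q_max [Finite G] {r : Fin 4 → ℤ} (hr : IsRoot cF isType.isCartan r) {T : Subgroup G} (hT : IsPGroup 2 T)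
    (hTG : T ≤ j.range) (hn : CG j r ≤ normalizer (T : Set G)) : T ≤ QG j r := by
  have : Fact (Nat.Prime 2) := ⟨Nat.prime_two⟩
  have h1 : T.comap j ≤ RGD.Sup (XF K) (Rad cF isType.isCartan r) := by
    refine core_le (rgd (K := K) isType cF 2) hr (D := T.comap j) ?_ (hT.comap_of_injective j E.inj) fun u hu => ?_
    · rw [GG_top cF]; exact le_top
    · rw [← mem_normalizer_iff_cj, mem_normalizer_iff]
      intro y
      rw [mem_comap, mem_comap, map_mul, map_mul, map_inv]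
      exact mem_normalizer_iff.1 (hn ⟨u, hu, rfl⟩) (j y)
  intro t ht
  obtain ⟨x, rfl⟩ := hTG ht
  exact ⟨x, h1 ht, rfl⟩

theorem rad_sub_posNe {r : Fin 4 → ℤ} (hr : Dom r) {i : Fin 4}
    (hi : cpr cF isType.isCartan (sr i) r = 0) : Rad cF isType.isCartan r ⊆ RGD.PosNe cF isType.isCartan i := by
  intro x hx
  have h1 := hr.rad_sub hx
  refine ⟨h1.1, h1.2, ?_⟩
  rintro rfl
  have := hx.2
  omega

/-- both middle nodes are orthogonal to the dominant roots -/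
theorem orth_one {r : Fin 4 → ℤ} (hr : Dom r) : cpr cF isType.isCartan (sr 1) r = 0 := by
  have h1 : (sr 1 : Fin 4 → ℤ) ∈ StabComb.RootsJ cF isType.isCartan JJ := by
    refine ⟨isRoot_sr cF _ 1, fun k hk => sr_ne ?_⟩
    rintro rfl
    exact hk (Or.inl rfl)
  have h2 := h1
  have h3 : (-(sr 1) : Fin 4 → ℤ) ∈ StabComb.RootsJ cF isType.isCartan JJ :=
    ⟨h1.1.neg, fun k hk => by rw [Pi.neg_apply, h1.2 k hk, neg_zero]⟩
  have h4 := rootsJ_sub h2
  have h5 := rootsJ_sub h3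
  have key : ∀ r, IsRoot cF isType.isCartan r → (sr 1 : Fin 4 → ℤ) ∈ Ge cF isType.isCartan r →
      (-(sr 1) : Fin 4 → ℤ) ∈ Ge cF isType.isCartan r → cpr cF isType.isCartan (sr 1) r = 0 := by
    intro r hr h1 h2
    have h3 := h1.2
    have h4 := h2.2
    rw [cpr_neg cF _ _ hr] at h4
    omega
  rcases hr with rfl | rfl
  · exact key _ (isRoot_v cF (by norm_num)) h4.1 h5.1
  · exact key _ (isRoot_v cF (by norm_num)) h4.2 h5.2

/-- no field automorphisms, `Z(C/Q) = 1` -/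
theorem fld [Finite G] {r : Fin 4 → ℤ} (hr : Dom r) {t : G} (ht : t ∈ S)
    (h : ∀ c ∈ CG j r, t * c * t⁻¹ * c⁻¹ ∈ QG j r) : t ∈ QG j r := by
  have hsr := isRoot_sr cF isType.isCartan 1
  have h0 : (sr 1 : Fin 4 → ℤ) ∈ Ge cF isType.isCartan r := ⟨hsr, (orth_one E hr).ge⟩
  have h1 : t ∈ SG j (RGD.Pos cF isType.isCartan) := by
    refine E.mem_range ht 1 fun x hx => ?_
    exact SG_mono (rad_sub_posNe E hr (orth_one E hr)) (h _ ⟨x, RGD.le_Sup h0 hx, rfl⟩)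
  have htC : t ∈ CG j r := SG_mono hr.pos_sub h1
  have hQS : QG j r ≤ S := (SG_mono hr.rad_sub).trans E.UG_le
  have hCQ : CG j r ≤ normalizer (QG j r : Set G) := by
    rintro _ ⟨c, hc, rfl⟩
    exact map_mem_normalizer (ge_le_normalizer hr.root hc)
  have hT : zpowers t ⊔ QG j r ≤ S := sup_le (zpowers_le.2 ht) hQS
  have hTC : zpowers t ⊔ QG j r ≤ CG j r := sup_le (zpowers_le.2 htC) (SG_mono rad_sub_ge)
  have h2 : zpowers t ⊔ QG j r ≤ QG j r := by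
    refine E.Q_max hr.root (E.two.to_le hT) (hTC.trans SG_le_range) ?_
    refine le_normalizer_of fun c hc x hx => ?_
    have h3 : zpowers t ⊔ QG j r ≤ (zpowers t ⊔ QG j r).comap (MulAut.conj c).toMonoidHom := by
      rw [sup_le_iff, zpowers_le]
      constructor
      · rw [mem_comap]
        show c * t * c⁻¹ ∈ _
        have h4 : c * t * c⁻¹ = (t * c * t⁻¹ * c⁻¹)⁻¹ * t := by group
        rw [h4]
        exact mul_mem (inv_mem (mem_sup_right (h _ hc))) (mem_sup_left (mem_zpowers t))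
      · intro y hy
        exact mem_comap.2 (mem_sup_right (conj_mem_of_normalizer (hCQ hc) hy))
    exact h3 hx
  exact h2 (mem_sup_left (mem_zpowers t))

theorem trans {r : Fin 4 → ℤ} (hr : Dom r) {x x' : G} (hx : x ∈ XG j r) (hx' : x' ∈ XG j r) (h1 : x ≠ 1)
    (h1' : x' ≠ 1) : ∃ y ∈ Y, y ∈ normalizer (XG j r : Set G) ∧ y ∈ normalizer (QG j r : Set G) ∧
      y * x * y⁻¹ = x' := by
  obtain ⟨a, ha, rfl⟩ := hx
  obtain ⟨b, hb, rfl⟩ := hx'
  obtain ⟨t, ht, e⟩ := exists_tor hr ha hb (fun h => h1 (by rw [h, map_one])) (fun h => h1' (by rw [h, map_one]))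
  refine ⟨j t, E.G_Y ⟨t, rfl⟩, map_mem_normalizer ?_, map_mem_normalizer ?_, ?_⟩
  · rw [mem_normalizer_iff_cj]
    exact (rgd (K := K) isType cF 2).tor r hr.root t ht
  · exact tor_normalizer (fun x hx => hx.1) ht
  · rw [← map_mul, ← map_inv, ← map_mul, e]

theorem side [Finite G] {r : Fin 4 → ℤ} (hr : Dom r)
    (irr : ∀ T : Subgroup G, T ≤ QG j r → CG j r ≤ normalizer (T : Set G) →
      QG j r ⊓ centralizer (T : Set G) ≤ T → T = QG j r) (comm : ⁅QG j r, QG j r⁆ = XG j r)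
    (typ : ∀ u ∈ UG j r, ∃ y ∈ Y, y * u * y⁻¹ ∈ zc S) :
    Side S Y (CG j r) (XG j r) (QG j r) (UG j r) where
  X_el := by
    have h1 : XG j r = SG j {r} := by
      unfold XG SG
      congr 1
      exact le_antisymm (RGD.le_Sup rfl) (RGD.Sup_le fun z hz => by rw [Set.mem_singleton_iff.1 hz])
    rw [h1]
    refine SG_el (fun x hx => ?_) fun x hx y hy => ?_
    · rw [Set.mem_singleton_iff.1 hx]; exact hr.root
    · rw [Set.mem_singleton_iff.1 hx, Set.mem_singleton_iff.1 hy, cpr_self cF _ hr.root]; norm_num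
  X_ne := by
    obtain ⟨z, hz, hz1⟩ := X_ne (K := K) hr.root
    intro h
    have h1 : j z ∈ XG j r := ⟨z, hz, rfl⟩
    rw [h, mem_bot] at h1
    exact hz1 (E.inj (by rw [h1, map_one]))
  X_S := (XG_le_SG (hr.rad_sub (self_mem_rad hr.root))).trans E.UG_le
  S_X := E.S_X hr
  X_U := XG_le_SG ⟨hr.root, Or.inl rfl⟩
  U_eq := by
    apply le_antisymm
    · refine le_inf (SG_mono (v7_sub_rad hr.root)) ?_
      rintro _ ⟨x, hx, rfl⟩
      rw [mem_centralizer_iff]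
      rintro _ ⟨z, hz, rfl⟩
      rw [← map_mul, ← map_mul, sup_comm (fun x hx => hx.1) (fun x hx => hx.1)
        (fun x hx y hy => hr.v7_comm hx hy) hx hz]
    · rintro _ ⟨⟨x, hx, rfl⟩, hc⟩
      refine ⟨x, cent_rad hr.root fun z hz => E.inj ?_, rfl⟩
      rw [map_mul, map_mul]
      exact ((mem_centralizer_iff.1 hc) _ ⟨z, hz, rfl⟩).symm
  U_el := SG_el (fun x hx => hx.1) fun x hx y hy => hr.v7_comm hx (v7_sub_rad hr.root hy)
  Q_S := (SG_mono hr.rad_sub).trans E.UG_le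
  Q_C := SG_mono rad_sub_ge
  C_X := by rw [E.CG_eq hr]; exact inf_le_right
  S_C := E.S_CG hr
  Q_max T hT hTC hn := E.Q_max hr.root hT (hTC.trans SG_le_range) hn
  fld t ht h := E.fld hr ht h
  irr := irr
  comm := comm
  trans x hx x' hx' h1 h1' := E.trans hr hx hx' h1 h1'
  typ := typ

/-! ### `O₂(C_G(Z))` -/

/-- `Ω₁(Z(S)) ≤ X_{47} X_{44}` -/
theorem zc_le_XX : zc S ≤ SG j {v 47, v 44} := by
  intro z hz
  obtain ⟨hzS, hzc, -⟩ := mem_zc.1 hz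
  have h1 : ∀ c ∈ RGD.Pos cF isType.isCartan, ∀ x ∈ XF K c, Cfsg.Agent.KFacts.RgdOver.act j E.inj ⟨z, E.S_G hzS⟩ x = x := by
    intro c hc x hx
    apply E.inj
    rw [Cfsg.Agent.KFacts.RgdOver.f_act j E.inj ⟨z, E.S_G hzS⟩]
    have h2 := hzc _ (E.UG_le ⟨x, RGD.le_Sup hc hx, rfl⟩)
    show z * j x * z⁻¹ = j x
    rw [← h2, mul_inv_cancel_right]
  obtain ⟨y, hy, e⟩ := aut_pos cF h1
  rw [E.mem_range_of_inner hzS e]
  exact ⟨y, hy, rfl⟩

theorem XX_comm {x y : ↥(chevF4.group K)} (hx : x ∈ RGD.Sup (XF K) {v 47, v 44})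
    (hy : y ∈ RGD.Sup (XF K) (Ge cF isType.isCartan (v 47) ∩ Ge cF isType.isCartan (v 44))) : x * y = y * x := by
  refine sup_comm ?_ (fun z hz => hz.1.1) ?_ hx hy
  · rintro x (rfl | rfl)
    · exact isRoot_v cF (by norm_num)
    · exact isRoot_v cF (by norm_num)
  · rintro x (rfl | rfl) y hy
    · exact hy.1.2
    · exact hy.2.2

theorem GeGe_le_CZ : SG j (Ge cF isType.isCartan (v 47) ∩ Ge cF isType.isCartan (v 44)) ≤ CZ S := by
  rintro _ ⟨y, hy, rfl⟩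
  rw [mem_centralizer_iff]
  intro z hz
  obtain ⟨x, hx, rfl⟩ := E.zc_le_XX hz
  rw [← map_mul, ← map_mul, XX_comm E hx hy]

theorem QQ_eq : QG j (v 47) ⊔ QG j (v 44) =
    SG j (Rad cF isType.isCartan (v 47) ∪ Rad cF isType.isCartan (v 44)) := SG_union.symm

theorem pos_sub_GG : RGD.Pos cF isType.isCartan ⊆
    Ge cF isType.isCartan (v 47) ∩ Ge cF isType.isCartan (v 44) :=
  fun _ hx => ⟨Dom.pos_sub (Or.inl rfl) hx, Dom.pos_sub (Or.inr rfl) hx⟩

/-- a 2-subgroup of `G₀` normalised by `⟨X_c : ⟨c,47⟩, ⟨c,44⟩ ≥ 0⟩` lies in `Q_{47} Q_{44}` -/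
theorem core_QQ {T : Subgroup G} (hT : IsPGroup 2 T) (hTG : T ≤ j.range)
    (hn : SG j (Ge cF isType.isCartan (v 47) ∩ Ge cF isType.isCartan (v 44)) ≤ normalizer (T : Set G)) :
    T ≤ QG j (v 47) ⊔ QG j (v 44) := by
  have h1 : T.comap j ≤ RGD.Sup (XF K) (Rad cF isType.isCartan (v 47) ∪ Rad cF isType.isCartan (v 44)) := by
    refine core_JJ (hT.comap_of_injective j E.inj) fun u hu => ?_
    rw [mem_normalizer_iff]
    intro y
    rw [mem_comap, mem_comap, map_mul, map_mul, map_inv]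
    exact mem_normalizer_iff.1 (hn ⟨u, hu, rfl⟩) (j y)
  rw [QQ_eq E]
  intro t ht
  obtain ⟨x, rfl⟩ := hTG ht
  exact ⟨x, h1 ht, rfl⟩

theorem QQ_le_S : QG j (v 47) ⊔ QG j (v 44) ≤ S :=
  sup_le ((SG_mono (Dom.rad_sub (Or.inl rfl))).trans E.UG_le) ((SG_mono (Dom.rad_sub (Or.inr rfl))).trans E.UG_le)

/-- `C_{G₀}(Z)` lies in `P_{47} ∩ P_{44}`. -/
theorem CZ_le_CG [Finite G] {r : Fin 4 → ℤ} (hr : Dom r) : CZ S ⊓ j.range ≤ CG j r := by
  have hf : Fact (Nat.Prime 2) := ⟨Nat.prime_two⟩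
  have hXS : XG j r ≤ S := (XG_le_SG (hr.rad_sub (self_mem_rad hr.root))).trans E.UG_le
  have h2 : ∀ x ∈ XG j r, x * x = 1 := by
    rintro _ ⟨x, hx, rfl⟩
    rw [← map_mul, e_sq hr.root hx, map_one]
  have hne : XG j r ≠ ⊥ := by
    obtain ⟨z, hz, hz1⟩ := X_ne (K := K) hr.root
    intro h
    have h1 : j z ∈ XG j r := ⟨z, hz, rfl⟩
    rw [h, mem_bot] at h1
    exact hz1 (E.inj (by rw [h1, map_one]))
  obtain ⟨z, hz, hzX, hz1⟩ := Cfsg.Agent.Omega.All.exists_zc_mem E.two hXS (E.S_X hr) h2 hne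
  obtain ⟨x, hx, rfl⟩ := hzX
  rintro _ ⟨hg, y, rfl⟩
  refine ⟨y, cent_X cF hr.root hx (fun h => hz1 (by rw [h, map_one])) (E.inj ?_), rfl⟩
  rw [map_mul, map_mul]
  exact ((mem_centralizer_iff.1 hg) _ hz).symm

/-- **`O₂(C_G(Z)) = Q_{47} Q_{44}`**, for a 2-group `S` containing `O₂(C_G(Z))`. -/
theorem oZ_of [Finite G] (hOS : o2 (CZ S) ≤ S) (hCZ : CZ S ≤ Y) :
    o2 (CZ S) = QG j (v 47) ⊔ QG j (v 44) := by
  have hf : Fact (Nat.Prime 2) := ⟨Nat.prime_two⟩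
  have hN := le_normalizer_o2 (CZ S)
  have hS : S ≤ CZ S := le_centralizer_zc S
  have hE0 := E.GeGe_le_CZ
  have hNG : CZ S ≤ normalizer (j.range : Set G) := hCZ.trans E.Y_G
  -- `O ∩ G₀ ≤ Q_{47} Q_{44}`
  have h1 : o2 (CZ S) ⊓ j.range ≤ QG j (v 47) ⊔ QG j (v 44) :=
    E.core_QQ ((o2_isPGroup _).to_le inf_le_left) inf_le_right
      (hE0.trans (normalizer_inf_le hN hNG))
  have hsr := isRoot_sr cF isType.isCartan 1
  have h0 : (sr 1 : Fin 4 → ℤ) ∈ Ge cF isType.isCartan (v 47) ∩ Ge cF isType.isCartan (v 44) :=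
    ⟨⟨hsr, (orth_one E (Or.inl rfl)).ge⟩, ⟨hsr, (orth_one E (Or.inr rfl)).ge⟩⟩
  have h2 : Rad cF isType.isCartan (v 47) ∪ Rad cF isType.isCartan (v 44) ⊆ RGD.PosNe cF isType.isCartan 1 :=
    Set.union_subset (rad_sub_posNe E (Or.inl rfl) (orth_one E (Or.inl rfl)))
      (rad_sub_posNe E (Or.inr rfl) (orth_one E (Or.inr rfl)))
  apply le_antisymm
  · intro t ht
    have h3 : t ∈ SG j (RGD.Pos cF isType.isCartan) := by
      refine E.mem_range (hOS ht) 1 fun x hx => ?_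
      have hxE : j x ∈ CZ S := hE0 ⟨x, RGD.le_Sup h0 hx, rfl⟩
      have h4 : t * j x * t⁻¹ * (j x)⁻¹ ∈ o2 (CZ S) ⊓ j.range := by
        refine mem_inf.2 ⟨?_, ?_⟩
        · have e : t * j x * t⁻¹ * (j x)⁻¹ = t * (j x * t⁻¹ * (j x)⁻¹) := by group
          rw [e]
          exact mul_mem ht (conj_mem_of_normalizer (hN hxE) (inv_mem ht))
        · exact mul_mem (conj_mem_of_normalizer (hNG (hS (hOS ht))) ⟨x, rfl⟩) (inv_mem ⟨x, rfl⟩)
      have h5 := h1 h4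
      rw [QQ_eq E] at h5
      exact SG_mono h2 h5
    exact h1 ⟨ht, SG_le_range h3⟩
  · refine le_o2 ?_ (E.two.to_le E.QQ_le_S) ?_
    · rw [QQ_eq E]
      exact (SG_mono fun x hx => pos_sub_GG E (by
        rcases hx with h | h
        · exact Dom.rad_sub (Or.inl rfl) h
        · exact Dom.rad_sub (Or.inr rfl) h)).trans hE0
    · -- `C_G(Z)` normalises `Q_{47} Q_{44}`
      have hEn : CZ S ⊓ j.range ≤ normalizer ((QG j (v 47) ⊔ QG j (v 44) : Subgroup G) : Set G) := by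
        refine normalizer_sup_le ?_ ?_
        · intro g hg
          obtain ⟨c, hc, rfl⟩ := E.CZ_le_CG (Or.inl rfl) hg
          exact map_mem_normalizer (ge_le_normalizer (Dom.root (Or.inl rfl)) hc)
        · intro g hg
          obtain ⟨c, hc, rfl⟩ := E.CZ_le_CG (Or.inr rfl) hg
          exact map_mem_normalizer (ge_le_normalizer (Dom.root (Or.inr rfl)) hc)
      have hCE : CZ S ≤ normalizer ((CZ S ⊓ j.range : Subgroup G) : Set G) := normalizer_inf_le le_normalizer hNG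
      refine le_normalizer_of fun g hg x hx => ?_
      have h3 : (QG j (v 47) ⊔ QG j (v 44)).map (MulAut.conj g).toMonoidHom ≤ QG j (v 47) ⊔ QG j (v 44) := by
        have h4 : QG j (v 47) ⊔ QG j (v 44) ≤ j.range := sup_le SG_le_range SG_le_range
        refine E.core_QQ ((E.two.to_le E.QQ_le_S).map _) ?_ ?_
        · rintro _ ⟨y, hy, rfl⟩
          exact conj_mem_of_normalizer (hNG hg) (h4 hy)
        · refine le_normalizer_of ?_
          rintro c hc _ ⟨y, hy, rfl⟩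
          have hc' : g⁻¹ * c * g ∈ CZ S ⊓ j.range :=
            conj_mem_of_normalizer' (hCE hg) ⟨hE0 hc, SG_le_range hc⟩
          refine ⟨g⁻¹ * c * g * y * (g⁻¹ * c * g)⁻¹, conj_mem_of_normalizer (hEn hc') hy, ?_⟩
          show g * (g⁻¹ * c * g * y * (g⁻¹ * c * g)⁻¹) * g⁻¹ = c * (g * y * g⁻¹) * c⁻¹
          group
      exact h3 ⟨x, hx, rfl⟩

/-- **`O₂(C_G(Z)) = Q_{47} Q_{44}`.** -/
theorem oZ [Finite G] (hmax : ∀ T : Subgroup G, IsPGroup 2 T → S ≤ T → T ≤ S) (hCZ : CZ S ≤ Y) :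
    o2 (CZ S) = QG j (v 47) ⊔ QG j (v 44) := by
  have hf : Fact (Nat.Prime 2) := ⟨Nat.prime_two⟩
  refine E.oZ_of ?_ hCZ
  have h1 : IsPGroup 2 ↥(o2 (CZ S) ⊔ S) :=
    (o2_isPGroup _).to_sup_of_normal_left' E.two ((le_centralizer_zc S).trans (le_normalizer_o2 (CZ S)))
  exact le_sup_left.trans (hmax _ h1 le_sup_right)

/-- **`Z(Q_{47} Q_{44}) = X_{47} X_{44}`.** -/
theorem cen0 : (QG j (v 47) ⊔ QG j (v 44)) ⊓ centralizer ((QG j (v 47) ⊔ QG j (v 44) : Subgroup G) : Set G) =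
    XG j (v 47) ⊔ XG j (v 44) := by
  have hXX : XG j (v 47) ⊔ XG j (v 44) = SG j {v 47, v 44} := by
    unfold XG SG
    rw [← Subgroup.map_sup]
    congr 1
    apply le_antisymm
    · exact sup_le (RGD.le_Sup (Or.inl rfl)) (RGD.le_Sup (Or.inr rfl))
    · refine RGD.Sup_le fun z hz => ?_
      rcases hz with rfl | rfl
      · exact le_sup_left
      · exact le_sup_right
  rw [hXX, QQ_eq E]
  apply le_antisymm
  · rintro _ ⟨⟨x, hx, rfl⟩, hc⟩
    refine ⟨x, cent_rad2 fun z hz => E.inj ?_, rfl⟩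
    rw [map_mul, map_mul]
    exact ((mem_centralizer_iff.1 hc) _ ⟨z, hz, rfl⟩).symm
  · refine le_inf (SG_mono ?_) ?_
    · rintro x (rfl | rfl)
      · exact Or.inl (self_mem_rad (Dom.root (Or.inl rfl)))
      · exact Or.inr (self_mem_rad (Dom.root (Or.inr rfl)))
    · rintro _ ⟨x, hx, rfl⟩
      rw [mem_centralizer_iff]
      rintro _ ⟨z, hz, rfl⟩
      rw [← map_mul, ← map_mul, XX_comm E hx (RGD.Sup_mono (fun x hx => pos_sub_GG E (by
        rcases hx with h | h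
        · exact Dom.rad_sub (Or.inl rfl) h
        · exact Dom.rad_sub (Or.inr rfl) h)) hz)]

end Emb

end Cfsg.Agent.Omega.HOneEnd.FFour
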