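import Mathlib
import Cfsg.Agent.KFacts.SysFree
import Cfsg.Agent.KFacts.RgdInd
import Cfsg.Agent.Omega.HOneEnd.EndIn

/-!
# LeafH1, END: root systems with two dominant roots (`C_n`, `F₄`), characteristic two

`Sys R e` (characteristic two), `Two cs h ρ σ i j` : the dominant roots are `ρ`, `σ`; `ρ` is moved by `s_i` only, `σ` by
`s_j` only, `i ≠ j`.

* `eq_X` : `1 ≠ R ≤ Z(U)`, `N(U) ≤ N(R)`, `N(R)` maximal ⟹ `R = X ρ` or `R = X σ`;
* `ne_of_abel` : `O₂(N(X σ))` is abelian if `⟨a, b^∨⟩ ≥ 0` for all `a`, `b` with `⟨a, σ^∨⟩, ⟨b, σ^∨⟩ ≥ 1`.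
-/

set_option autoImplicit false
set_option linter.unusedSectionVars false

namespace Cfsg.Agent.Omega.HOneEnd.SysID

open CoxeterSystem Cfsg.Agent.ChevalleyStructure.CoxeterGeom Cfsg.Agent.Tits.Roots Cfsg.Agent.Tits.Core
  Cfsg.Agent.Tits.Exchange Cfsg.Agent.Nodes.Reps Cfsg.Agent.Nodes.BNOf Cfsg.Agent.Nodes.StabComb
  Cfsg.Agent.Nodes.Bruhat Cfsg.Agent.Nodes.OppDec Cfsg.Agent.Nodes.LeviDec Cfsg.Agent.Nodes.NormalForm
  Cfsg.Agent.Nodes.Coroot Cfsg.Agent.Nodes.PosPair Cfsg.Agent.KFacts.RgdPar Cfsg.Agent.KFacts.RgdTI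
  Cfsg.Agent.KFacts.RgdCent Cfsg.Agent.KFacts.RgdKap Cfsg.Agent.KFacts.RgdField Cfsg.Agent.KFacts.RgdOdd
  Cfsg.Agent.KFacts.RgdSys Cfsg.Agent.KFacts.ChevTwo Cfsg.Agent.KFacts.SysFree
open scoped commutatorElement

variable {I W Y K : Type*} [Fintype I] [DecidableEq I] [Group W] [Group Y] [Field K] {M : CoxeterMatrix I}
variable {cs : CoxeterSystem M W} {A : I → I → ℤ} {h : IsCartan M A} {e : (I → ℤ) → K → Y}
  {T : Subgroup Y} {n : I → Y} {X : (I → ℤ) → Subgroup Y}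

/-- Two dominant roots, moved by different nodes. -/
structure Two (cs : CoxeterSystem M W) (h : IsCartan M A) (ρ σ : I → ℤ) (i j : I) : Prop where
  rρ : ρ ∈ Star cs h (RGD.Pos cs h)
  rσ : σ ∈ Star cs h (RGD.Pos cs h)
  dom : Star cs h (RGD.Pos cs h) ⊆ {ρ, σ}
  ne : ρ ≠ σ
  ij : i ≠ j
  fixρ : ∀ k, k ≠ i → pairing A k ρ = 0
  fixσ : ∀ k, k ≠ j → pairing A k σ = 0
  posρ : rep cs h (cs.simple i) ρ ∈ RGD.Pos cs h
  posσ : rep cs h (cs.simple j) σ ∈ RGD.Pos cs h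
  movρ : rep cs h (cs.simple i) ρ ≠ ρ
  movσ : rep cs h (cs.simple j) σ ≠ σ
  movρσ : rep cs h (cs.simple i) ρ ≠ σ
  movσρ : rep cs h (cs.simple j) σ ≠ ρ

theorem Two.symm {ρ σ : I → ℤ} {i j : I} (D : Two cs h ρ σ i j) : Two cs h σ ρ j i where
  rρ := D.rσ
  rσ := D.rρ
  dom := by rw [Set.pair_comm]; exact D.dom
  ne := D.ne.symm
  ij := D.ij.symm
  fixρ := D.fixσ
  fixσ := D.fixρ
  posρ := D.posσ
  posσ := D.posρ
  movρ := D.movσ
  movσ := D.movρ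
  movρσ := D.movσρ
  movσρ := D.movρσ

section comb

variable [Finite W] {ρ σ : I → ℤ} {i j : I} (D : Two cs h ρ σ i j)

include D

theorem Two.closed : Cfsg.Agent.Nodes.Unique.Closed cs h ({ρ, σ} : Set (I → ℤ)) := by
  intro x hx y hy z hz
  apply D.dom
  have hx' : x ∈ Star cs h (RGD.Pos cs h) := by
    rcases hx with rfl | hx
    · exact D.rρ
    · rw [Set.mem_singleton_iff] at hx; subst hx; exact D.rσ
  have hy' : y ∈ Star cs h (RGD.Pos cs h) := by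
    rcases hy with rfl | hy
    · exact D.rρ
    · rw [Set.mem_singleton_iff] at hy; subst hy; exact D.rσ
  obtain ⟨hzr, m, a, b, hm, ha, hb, he⟩ := hz
  refine ⟨hzr, fun c hc => ?_⟩
  have h1 : cpr cs h (m • z) c = cpr cs h (a • x + b • y) c := by rw [he]
  rw [cpr_smul cs h m z hc.1, cpr_add cs h _ _ hc.1, cpr_smul cs h a x hc.1, cpr_smul cs h b y hc.1] at h1
  have h2 := hx'.2 c hc
  have h3 := hy'.2 c hc
  have h4 : 0 ≤ m * cpr cs h z c := by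
    rw [h1]
    exact add_nonneg (mul_nonneg ha.le h2) (mul_nonneg hb.le h3)
  by_contra h5
  push Not at h5
  nlinarith

theorem Two.rep_eq {k : I} (hk : k ≠ i) : rep cs h (cs.simple k) ρ = ρ := by
  rw [rep_simple_eq, D.fixρ k hk, zero_smul, sub_zero]

end comb

section main

variable [Finite W] [Finite Y] {R : RGD cs h 2 T n X} (S : Sys R e) (hG1 : RGD.Sup X {x | IsRoot cs h x} = ⊤)
  (hN : NoCent cs h T X) {ρ σ : I → ℤ} {i j : I} (D : Two cs h ρ σ i j)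
  (hconn : ∀ J : Set I, J.Nonempty → J ≠ Set.univ → ∃ a ∈ J, ∃ b, b ∉ J ∧ M a b ≠ 2)

include S D

/-- elements of `⟨X ρ, X σ⟩` -/
theorem mem_pair {c : Y} (hc : c ∈ RGD.Sup X ({ρ, σ} : Set (I → ℤ))) : ∃ x ∈ X ρ, ∃ y ∈ X σ, c = x * y := by
  have hcomm : ∀ x ∈ X ρ, ∀ y ∈ X σ, x * y = y * x := fun x hx y hy =>
    (S.lr D.rσ.1).comm ρ D.rρ.1 (D.rρ.2 σ (star_pos D.rσ)) x hx y hy
  let L : Subgroup Y :=
    { carrier := {c | ∃ x ∈ X ρ, ∃ y ∈ X σ, c = x * y}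
      one_mem' := ⟨1, one_mem _, 1, one_mem _, (mul_one 1).symm⟩
      mul_mem' := by
        rintro _ _ ⟨x, hx, y, hy, rfl⟩ ⟨x', hx', y', hy', rfl⟩
        refine ⟨x * x', mul_mem hx hx', y * y', mul_mem hy hy', ?_⟩
        calc x * y * (x' * y') = x * (y * x') * y' := by group
          _ = x * (x' * y) * y' := by rw [hcomm x' hx' y hy]
          _ = _ := by group
      inv_mem' := by
        rintro _ ⟨x, hx, y, hy, rfl⟩
        refine ⟨x⁻¹, inv_mem hx, y⁻¹, inv_mem hy, ?_⟩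
        rw [mul_inv_rev, hcomm _ (inv_mem hx) _ (inv_mem hy)] }
  have h1 : RGD.Sup X ({ρ, σ} : Set (I → ℤ)) ≤ L := by
    refine RGD.Sup_le fun a ha w hw => ?_
    rcases ha with rfl | ha
    · exact ⟨w, hw, 1, one_mem _, (mul_one w).symm⟩
    · rw [Set.mem_singleton_iff] at ha
      subst ha
      exact ⟨1, one_mem _, w, hw, (one_mul w).symm⟩
  exact h1 hc

/-- the images under `s_j` -/
theorem inf_bot {c : Y} (hc : c ∈ RGD.Sup X ({ρ, σ} : Set (I → ℤ))) (hc' : c ∈ X (rep cs h (cs.simple j) σ)) : c = 1 := by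
  have h1 : c ∈ RGD.Sup X ({ρ, σ} : Set (I → ℤ)) ⊓ RGD.Sup X {rep cs h (cs.simple j) σ} :=
    ⟨hc, RGD.le_Sup (S := {rep cs h (cs.simple j) σ}) rfl hc'⟩
  rw [Cfsg.Agent.KFacts.RgdInd.inf_eq_of_pos R Nodes.Slope.htHom (S := {ρ, σ}) (S' := {rep cs h (cs.simple j) σ})
    (fun x hx => ?_) (fun x hx => ?_) D.closed (Cfsg.Agent.KFacts.RgdInd.closed_singleton D.posσ.1)] at h1
  · have h2 : ({ρ, σ} : Set (I → ℤ)) ∩ {rep cs h (cs.simple j) σ} = ∅ := by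
      ext x
      simp only [Set.mem_inter_iff, Set.mem_insert_iff, Set.mem_singleton_iff, Set.mem_empty_iff_false, iff_false,
        not_and]
      rintro (rfl | rfl) h3
      · exact D.movσρ h3.symm
      · exact D.movσ h3.symm
    rw [h2, Cfsg.Agent.Nodes.OppDec.Sup_empty, Subgroup.mem_bot] at h1
    exact h1
  · have hx' : x ∈ RGD.Pos cs h := by
      rcases hx with rfl | hx
      · exact star_pos D.rρ
      · rw [Set.mem_singleton_iff] at hx; subst hx; exact star_pos D.rσ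
    exact ⟨hx'.1, RGD.ht_pos hx'.1 hx'.2⟩
  · rw [Set.mem_singleton_iff] at hx
    subst hx
    exact ⟨D.posσ.1, RGD.ht_pos D.posσ.1 D.posσ.2⟩

theorem inf_bot' {c : Y} (hc : c ∈ X ρ) (hc' : c ∈ X σ) : c = 1 := by
  have h1 : c ∈ RGD.Sup X ({ρ} : Set (I → ℤ)) ⊓ RGD.Sup X {σ} :=
    ⟨RGD.le_Sup (S := {ρ}) rfl hc, RGD.le_Sup (S := {σ}) rfl hc'⟩
  have hpos : ∀ x ∈ Star cs h (RGD.Pos cs h), IsRoot cs h x ∧ 0 < Nodes.Slope.htHom x := fun x hx =>
    ⟨hx.1, RGD.ht_pos hx.1 (star_pos hx).2⟩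
  rw [Cfsg.Agent.KFacts.RgdInd.inf_eq_of_pos R Nodes.Slope.htHom (S := {ρ}) (S' := {σ})
    (fun x hx => ?_) (fun x hx => ?_) (Cfsg.Agent.KFacts.RgdInd.closed_singleton D.rρ.1)
    (Cfsg.Agent.KFacts.RgdInd.closed_singleton D.rσ.1)] at h1
  · have h2 : ({ρ} : Set (I → ℤ)) ∩ {σ} = ∅ := by
      rw [Set.singleton_inter_eq_empty, Set.mem_singleton_iff]
      exact D.ne
    rw [h2, Cfsg.Agent.Nodes.OppDec.Sup_empty, Subgroup.mem_bot] at h1
    exact h1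
  · rw [Set.mem_singleton_iff] at hx
    subst hx
    exact hpos _ D.rρ
  · rw [Set.mem_singleton_iff] at hx
    subst hx
    exact hpos _ D.rσ

/-- If `n_j` normalises `Z ≤ ⟨X ρ, X σ⟩` then `Z ≤ X ρ`. -/
theorem le_X {Z : Subgroup Y} (hZ : Z ≤ RGD.Sup X ({ρ, σ} : Set (I → ℤ)))
    (hn : n j ∈ Subgroup.normalizer (Z : Set Y)) : Z ≤ X ρ := by
  intro c hc
  obtain ⟨x, hx, y, hy, rfl⟩ := mem_pair S D (hZ hc)
  have h1 : n j * (x * y) * (n j)⁻¹ ∈ Z := (Subgroup.mem_normalizer_iff.1 hn _).1 hc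
  have hx' : n j * x * (n j)⁻¹ ∈ X ρ := by
    have h2 : n j * x * (n j)⁻¹ ∈ cj (n j) (X ρ) := by
      rw [mem_cj]
      have : (n j)⁻¹ * (n j * x * (n j)⁻¹) * n j = x := by group
      rwa [this]
    rwa [R.conj j ρ D.rρ.1, D.rep_eq D.ij.symm] at h2
  have hy' : n j * y * (n j)⁻¹ ∈ X (rep cs h (cs.simple j) σ) := by
    have h2 : n j * y * (n j)⁻¹ ∈ cj (n j) (X σ) := by
      rw [mem_cj]
      have : (n j)⁻¹ * (n j * y * (n j)⁻¹) * n j = y := by group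
      rwa [this]
    rwa [R.conj j σ D.rσ.1] at h2
  have h3 : n j * y * (n j)⁻¹ ∈ RGD.Sup X ({ρ, σ} : Set (I → ℤ)) := by
    have h4 := mul_mem (inv_mem (RGD.le_Sup (S := ({ρ, σ} : Set (I → ℤ))) (Set.mem_insert ρ {σ}) hx')) (hZ h1)
    have e1 : (n j * x * (n j)⁻¹)⁻¹ * (n j * (x * y) * (n j)⁻¹) = n j * y * (n j)⁻¹ := by group
    rwa [e1] at h4
  have h5 := inf_bot S D h3 hy'
  have h6 : y = 1 := by
    have : y = (n j)⁻¹ * (n j * y * (n j)⁻¹) * n j := by group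
    rw [this, h5]; group
  rw [h6, mul_one]
  exact hx

/-- `n_i` moves `X ρ`. -/
theorem n_notMem : n i ∉ Subgroup.normalizer (X ρ : Set Y) := by
  intro h1
  have h2 : cj (n i) (X ρ) = X ρ := mem_normalizer_iff_cj.1 h1
  rw [R.conj i ρ D.rρ.1] at h2
  have h3 : e ρ 1 ∈ X ρ := S.mem D.rρ.1 1
  have h4 : e ρ 1 ∈ RGD.Sup X ({σ, ρ} : Set (I → ℤ)) := RGD.le_Sup (S := ({σ, ρ} : Set (I → ℤ))) (by simp) h3
  exact S.data.ne_one D.rρ.1 one_ne_zero (inf_bot S D.symm h4 (by rw [h2]; exact h3))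

theorem n_mem {k : I} (hk : k ≠ i) : n k ∈ Subgroup.normalizer (X ρ : Set Y) := by
  rw [mem_normalizer_iff_cj, R.conj k ρ D.rρ.1, D.rep_eq hk]

/-- the normaliser of `X ρ` contains the Borel subgroup -/
theorem B_le : RGD.B cs h T X ≤ Subgroup.normalizer (X ρ : Set Y) := by
  have h1 : RGD.Sup X (RGD.Pos cs h) ≤ Subgroup.normalizer (X ρ : Set Y) := by
    intro u hu
    rw [Subgroup.mem_normalizer_iff]
    intro v
    constructor
    · intro hv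
      have := star_comm_U S D.rρ hv hu
      rw [this, mul_inv_cancel_right]
      exact hv
    · intro hv
      have h2 := star_comm_U S D.rρ hv hu
      have e1 : v = u⁻¹ * (u * v * u⁻¹) * u := by group
      have h3 : u⁻¹ * (u * v * u⁻¹) * u = u * v * u⁻¹ := by
        have h4 : u * v * u⁻¹ * u = u * (u * v * u⁻¹) := by rw [h2]
        rw [mul_assoc, h4]; group
      rw [e1, h3]
      exact hv
  have h2 : T ≤ Subgroup.normalizer (X ρ : Set Y) := fun t ht => by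
    rw [mem_normalizer_iff_cj]
    exact R.tor ρ D.rρ.1 t ht
  exact sup_le h2 h1

end main

section par

variable [Finite W] [Finite Y] {R : RGD cs h 2 T n X} (S : Sys R e) (hG1 : RGD.Sup X {x | IsRoot cs h x} = ⊤)

include S

theorem PJ_mono {J J' : Set I} (hJ : J ⊆ J') : PJ cs h T X J ≤ PJ cs h T X J' := by
  intro g hg
  obtain ⟨w, hw, hc⟩ := (mem_PJ_iff_cell R).1 hg
  exact (mem_PJ_iff_cell R).2 ⟨w, Subgroup.closure_mono (Set.image_mono hJ) hw, hc⟩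

include hG1

theorem eq_PJ {P : Subgroup Y} (hP : RGD.B cs h T X ≤ P) : P = PJ cs h T X {k | n k ∈ P} := by
  have h1 := inf_eq_PJ R hP
  rwa [Cfsg.Agent.KFacts.RgdRigid.GG_eq_top hG1, inf_top_eq] at h1

theorem le_of_nodes {P P' : Subgroup Y} (hP : RGD.B cs h T X ≤ P) (hP' : RGD.B cs h T X ≤ P')
    (hle : ∀ k, n k ∈ P → n k ∈ P') : P ≤ P' := by
  have h1 := eq_PJ S hG1 hP
  have h2 := eq_PJ S hG1 hP'
  have h3 : PJ cs h T X {k | n k ∈ P} ≤ PJ cs h T X {k | n k ∈ P'} := PJ_mono S hle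
  exact (h1.le.trans h3).trans h2.ge

end par

end Cfsg.Agent.Omega.HOneEnd.SysID
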