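import Mathlib
import Cfsg.Agent.Omega.HOneEnd.SysID
import Cfsg.Agent.KFacts.RgdEx

/-!
# LeafH1, END: the subgroup `R` is a root group

* `eq_X` : `1 ≠ Z ≤ Z(U)`, `N(U) ≤ N(Z)`, `N(Z)` maximal ⟹ `Z = X ρ` or `Z = X σ`;
* `abel` : a normal 2-subgroup of `N(X σ)` is abelian if `⟨a, b^∨⟩ ≥ 0` for all `a`, `b ∈ Rad σ`.
-/

set_option autoImplicit false
set_option linter.unusedSectionVars false

namespace Cfsg.Agent.Omega.HOneEnd.SysID

open CoxeterSystem Cfsg.Agent.ChevalleyStructure.CoxeterGeom Cfsg.Agent.Tits.Roots Cfsg.Agent.Tits.Core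
  Cfsg.Agent.Tits.Exchange Cfsg.Agent.Nodes.Reps Cfsg.Agent.Nodes.BNOf Cfsg.Agent.Nodes.StabComb
  Cfsg.Agent.Nodes.Bruhat Cfsg.Agent.Nodes.OppDec Cfsg.Agent.Nodes.LeviDec Cfsg.Agent.Nodes.NormalForm
  Cfsg.Agent.Nodes.Coroot Cfsg.Agent.Nodes.PosPair Cfsg.Agent.KFacts.RgdPar Cfsg.Agent.KFacts.RgdTI
  Cfsg.Agent.KFacts.RgdCent Cfsg.Agent.KFacts.RgdKap Cfsg.Agent.KFacts.RgdField Cfsg.Agent.KFacts.RgdOdd
  Cfsg.Agent.KFacts.RgdSys Cfsg.Agent.KFacts.ChevTwo Cfsg.Agent.KFacts.SysFree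
open scoped commutatorElement

variable {I W Y K : Type*} [Fintype I] [DecidableEq I] [Group W] [Group Y] [Field K] {M : CoxeterMatrix I}
variable {cs : CoxeterSystem M W} {A : I → I → ℤ} {h : IsCartan M A} {e : (I → ℤ) → K → Y}
  {T : Subgroup Y} {n : I → Y} {X : (I → ℤ) → Subgroup Y}

section main

variable [Finite W] [Finite Y] [Finite K] [CharP K 2] {R : RGD cs h 2 T n X} (S : Sys R e)
  (hG1 : RGD.Sup X {x | IsRoot cs h x} = ⊤)

include S hG1

/-- The torus is transitive on `X ρ ∖ 1`. -/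
theorem eq_of_le {ρ : I → ℤ} (hρ : IsRoot cs h ρ) {Z : Subgroup Y} (hZ : Z ≤ X ρ) (hne : Z ≠ ⊥)
    (hT : T ≤ Subgroup.normalizer (Z : Set Y)) : Z = X ρ := by
  refine le_antisymm hZ fun x hx => ?_
  obtain ⟨⟨z, hz⟩, hz1'⟩ := Z.ne_bot_iff_exists_ne_one.1 hne
  have hz1 : z ≠ 1 := fun h1 => hz1' (Subtype.ext h1)
  obtain ⟨a, rfl⟩ := (S.mem_X ρ hρ z).1 (hZ hz)
  obtain ⟨b, rfl⟩ := (S.mem_X ρ hρ x).1 hx
  have h0 : e ρ 0 = 1 := by
    have := S.data.add ρ hρ 0 0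
    rw [add_zero] at this
    exact mul_eq_left.1 this.symm
  have ha : a ≠ 0 := by
    rintro rfl
    exact hz1 h0
  by_cases hb : b = 0
  · rw [hb, h0]; exact one_mem _
  have : Fintype K := Fintype.ofFinite K
  have hc : IsSquare (b / a) := by
    refine FiniteField.isSquare_of_char_two ?_ _
    exact ringChar.eq K 2
  obtain ⟨c, hc⟩ := hc
  have hc0 : c ≠ 0 := by
    rintro rfl
    rw [mul_zero, div_eq_zero_iff] at hc
    exact hc.elim hb ha
  have h1 := S.data.hel_conj hρ hρ hc0 a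
  have h2 : hel e ρ c ∈ Subgroup.normalizer (Z : Set Y) := hT (hel_mem S hG1 hρ hc0)
  have h3 := (Subgroup.mem_normalizer_iff.1 h2 _).1 hz
  rw [h1, cpr_self cs h hρ] at h3
  have h4 : c ^ (2 : ℤ) * a = b := by
    have : c ^ (2 : ℤ) = c * c := by
      rw [zpow_ofNat, sq]
    rw [this, ← hc, div_mul_cancel₀ _ ha]
  rwa [h4] at h3

variable (hN : NoCent cs h T X) {ρ σ : I → ℤ} {i j : I} (D : Two cs h ρ σ i j)
  (hconn : ∀ J : Set I, J.Nonempty → J ≠ Set.univ → ∃ a ∈ J, ∃ b, b ∉ J ∧ M a b ≠ 2)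

include hN D hconn

theorem eq_X {Z : Subgroup Y} (hUZ : RGD.Sup X (RGD.Pos cs h) ≤ Subgroup.centralizer (Z : Set Y)) (hne : Z ≠ ⊥)
    (hNU : Subgroup.normalizer (RGD.Sup X (RGD.Pos cs h) : Set Y) ≤ Subgroup.normalizer (Z : Set Y))
    (hmax : IsCoatom (Subgroup.normalizer (Z : Set Y))) : Z = X ρ ∨ Z = X σ := by
  have hne' : Nonempty I := ⟨i⟩
  have hB : RGD.B cs h T X ≤ Subgroup.normalizer (Z : Set Y) := R.B_le_normalizer_U.trans hNU
  have hTB : T ≤ Subgroup.normalizer (Z : Set Y) := le_sup_left.trans hB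
  have hZ : Z ≤ RGD.Sup X ({ρ, σ} : Set (I → ℤ)) := by
    intro c hc
    refine RGD.Sup_mono D.dom (center_le S hG1 hN hconn fun u hu => ?_)
    exact (Subgroup.mem_centralizer_iff.1 (hUZ hu) c hc).symm
  by_cases hi : n i ∈ Subgroup.normalizer (Z : Set Y)
  · by_cases hj : n j ∈ Subgroup.normalizer (Z : Set Y)
    · exfalso
      apply hne
      have h1 := le_X S D hZ hj
      have h2 := le_X S D.symm (by rw [Set.pair_comm]; exact hZ) hi
      rw [eq_bot_iff]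
      intro c hc
      exact Subgroup.mem_bot.2 (inf_bot' S D (h1 hc) (h2 hc))
    · right
      exact eq_of_le S hG1 D.rσ.1 (le_X S D.symm (by rw [Set.pair_comm]; exact hZ) hi) hne hTB
  · by_cases hj : n j ∈ Subgroup.normalizer (Z : Set Y)
    · left
      exact eq_of_le S hG1 D.rρ.1 (le_X S D hZ hj) hne hTB
    · exfalso
      have h1 : Subgroup.normalizer (Z : Set Y) ≤ Subgroup.normalizer (X σ : Set Y) := by
        refine le_of_nodes S hG1 hB (B_le S D.symm) fun k hk => ?_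
        refine n_mem S D.symm fun h2 => ?_
        rw [h2] at hk
        exact hj hk
      have h2 : n i ∈ Subgroup.normalizer (X σ : Set Y) := n_mem S D.symm D.ij
      have h3 : Subgroup.normalizer (X σ : Set Y) = ⊤ := by
        refine hmax.2 _ (lt_of_le_of_ne h1 fun h4 => hi ?_)
        rw [h4]; exact h2
      exact n_notMem S D.symm (h3 ▸ Subgroup.mem_top _)

end main

section abel

variable [Finite W] [Finite Y] {R : RGD cs h 2 T n X} (S : Sys R e) (hG1 : RGD.Sup X {x | IsRoot cs h x} = ⊤)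

include S hG1

/-- normal 2-subgroups of `N(X σ)` -/
theorem core_le_Rad {σ : I → ℤ} (hσ : IsRoot cs h σ) {V : Subgroup Y} (hV : IsPGroup 2 V)
    (hn : Subgroup.normalizer (X σ : Set Y) ≤ Subgroup.normalizer (V : Set Y)) : V ≤ RGD.Sup X (Rad cs h σ) := by
  have : Fact (Nat.Prime 2) := ⟨Nat.prime_two⟩
  refine Cfsg.Agent.KFacts.RgdEx.core_le R hσ ?_ hV fun u hu => ?_
  · rw [Cfsg.Agent.KFacts.RgdRigid.GG_eq_top hG1]; exact le_top
  · have h1 : RGD.Sup X (Ge cs h σ) ≤ Subgroup.normalizer (X σ : Set Y) := by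
      have h2 := (S.lr hσ).PS_le_normalizer
      exact le_sup_right.trans h2
    exact mem_normalizer_iff_cj.1 (hn (h1 hu))

/-- `O₂(N(X σ))` is abelian if all pairs in `Rad σ` have nonnegative products. -/
theorem abel {σ : I → ℤ} (hσ : IsRoot cs h σ) (hab : ∀ a ∈ Rad cs h σ, ∀ b ∈ Rad cs h σ, 0 ≤ cpr cs h a b)
    {V : Subgroup Y} (hV : IsPGroup 2 V)
    (hn : Subgroup.normalizer (X σ : Set Y) ≤ Subgroup.normalizer (V : Set Y)) :
    V ≤ Subgroup.centralizer (V : Set Y) := by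
  have h1 := core_le_Rad S hG1 hσ hV hn
  have h2 : RGD.Sup X (Rad cs h σ) ≤ Subgroup.centralizer (RGD.Sup X (Rad cs h σ) : Set Y) := by
    refine RGD.Sup_le fun a ha v hv => ?_
    have h3 : RGD.Sup X (Rad cs h σ) ≤ Subgroup.centralizer ({v} : Set Y) := by
      refine RGD.Sup_le fun b hb w hw => ?_
      rw [Subgroup.mem_centralizer_singleton_iff]
      exact (S.lr hb.1).comm a ha.1 (hab a ha b hb) v hv w hw |>.symm
    rw [Subgroup.mem_centralizer_iff]
    intro w hw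
    exact (Subgroup.mem_centralizer_singleton_iff.1 (h3 hw))
  intro v hv
  rw [Subgroup.mem_centralizer_iff]
  intro w hw
  exact Subgroup.mem_centralizer_iff.1 (h2 (h1 hv)) w (h1 hw)

end abel

end Cfsg.Agent.Omega.HOneEnd.SysID
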