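import Mathlib
import Cfsg.Agent.Omega.HOneEnd.SysIDb

/-!
# LeafH1, END, THEOREM ID for the groups with two dominant roots

* `LIn.map` : transport along an isomorphism;
* `exists_iso` : an isomorphism `φ` with `φ(U) = ⟨X_a | a > 0⟩` and `φ(R) = X ρ` or `X σ`;
* `exists_iso_left` : ... `φ(R) = X ρ` if `Rad σ` has nonnegative products only.
-/

set_option autoImplicit false
set_option linter.unusedSectionVars false

namespace Cfsg.Agent.Omega.HOneEnd

open Subgroup

section map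

variable {L Y : Type*} [Group L] [Group Y] (φ : L ≃* Y)

theorem mem_normalizer_map {K : Subgroup L} {x : L} :
    φ x ∈ normalizer (K.map φ.toMonoidHom : Set Y) ↔ x ∈ normalizer (K : Set L) := by
  rw [Subgroup.mem_normalizer_iff, Subgroup.mem_normalizer_iff]
  have key : ∀ g, φ g ∈ K.map φ.toMonoidHom ↔ g ∈ K := fun g =>
    Subgroup.mem_map_iff_mem (f := φ.toMonoidHom) φ.injective
  constructor
  · intro h g
    have h1 := h (φ g)
    rw [← map_mul, ← map_inv, ← map_mul] at h1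
    rwa [key, key] at h1
  · intro h g
    obtain ⟨g, rfl⟩ := φ.surjective g
    rw [← map_mul, ← map_inv, ← map_mul, key, key]
    exact h g

theorem mem_centralizer_map {K : Subgroup L} {x : L} :
    φ x ∈ centralizer (K.map φ.toMonoidHom : Set Y) ↔ x ∈ centralizer (K : Set L) := by
  rw [Subgroup.mem_centralizer_iff, Subgroup.mem_centralizer_iff]
  constructor
  · intro h g hg
    have h1 := h (φ g) (Subgroup.mem_map_of_mem φ.toMonoidHom hg)
    rw [← map_mul, ← map_mul] at h1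
    exact φ.injective h1
  · rintro h _ ⟨g, hg, rfl⟩
    have h1 := h g hg
    change φ g * φ x = φ x * φ g
    rw [← map_mul, ← map_mul, h1]

theorem normalizer_map_equiv (K : Subgroup L) :
    normalizer (K.map φ.toMonoidHom : Set Y) = (normalizer (K : Set L)).map φ.toMonoidHom := by
  ext y
  obtain ⟨x, rfl⟩ := φ.surjective y
  rw [mem_normalizer_map]
  exact (Subgroup.mem_map_iff_mem (f := φ.toMonoidHom) φ.injective).symm

theorem centralizer_map_equiv (K : Subgroup L) :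
    centralizer (K.map φ.toMonoidHom : Set Y) = (centralizer (K : Set L)).map φ.toMonoidHom := by
  ext y
  obtain ⟨x, rfl⟩ := φ.surjective y
  rw [mem_centralizer_map]
  exact (Subgroup.mem_map_iff_mem (f := φ.toMonoidHom) φ.injective).symm

theorem map_le_map_equiv {A B : Subgroup L} : A.map φ.toMonoidHom ≤ B.map φ.toMonoidHom ↔ A ≤ B :=
  Subgroup.map_le_map_iff_of_injective φ.injective

theorem LIn.map {U R : Subgroup L} {v : L} (H : LIn U R v) :
    LIn (U.map φ.toMonoidHom) (R.map φ.toMonoidHom) (φ v) where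
  two := H.two.map _
  odd := by
    have h1 : (U.map φ.toMonoidHom).index = U.index :=
      Subgroup.index_map_of_bijective (f := φ.toMonoidHom) φ.bijective U
    rw [h1]; exact H.odd
  R_U := Subgroup.map_mono H.R_U
  U_R := by rw [centralizer_map_equiv, map_le_map_equiv]; exact H.U_R
  R_ne := by
    intro h0
    apply H.R_ne
    rw [eq_bot_iff, ← map_le_map_equiv φ, h0]
    exact bot_le
  NU := by rw [normalizer_map_equiv, normalizer_map_equiv, map_le_map_equiv]; exact H.NU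
  max := by
    rw [normalizer_map_equiv]
    constructor
    · intro h0
      apply H.max.1
      rw [eq_top_iff, ← map_le_map_equiv φ, h0]
      exact le_top
    · intro M hM
      have h1 : normalizer (R : Set L) < M.comap φ.toMonoidHom := by
        refine lt_of_le_of_ne (Subgroup.map_le_iff_le_comap.1 hM.le) fun h2 => ?_
        rw [h2, Subgroup.map_comap_eq_self_of_surjective (f := φ.toMonoidHom) φ.surjective] at hM
        exact lt_irrefl _ hM
      have h3 := H.max.2 _ h1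
      rw [eq_top_iff]
      intro y _
      obtain ⟨x, rfl⟩ := φ.surjective y
      have h4 : x ∈ M.comap φ.toMonoidHom := by rw [h3]; trivial
      exact h4
  v_U := Subgroup.mem_map_of_mem φ.toMonoidHom H.v_U
  U_v := by
    rintro _ ⟨u, hu, rfl⟩
    have h1 := mem_centralizer_singleton_iff.1 (H.U_v hu)
    rw [mem_centralizer_singleton_iff]
    change φ u * φ v = φ v * φ u
    rw [← map_mul, ← map_mul, h1]
  v_ne := fun h0 => H.v_ne (by rwa [map_eq_one_iff φ φ.injective] at h0)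
  v_R := by
    intro h0
    apply H.v_R
    intro x hx
    have h1 := mem_centralizer_singleton_iff.1 hx
    have h2 : φ x ∈ centralizer {φ v} := by
      rw [mem_centralizer_singleton_iff, ← map_mul, ← map_mul, h1]
    exact (mem_normalizer_map φ).1 (h0 h2)
  nonab := by
    obtain ⟨W, h1, h2, h3⟩ := H.nonab
    refine ⟨W.map φ.toMonoidHom, h1.map _, ?_, ?_⟩
    · rw [normalizer_map_equiv, normalizer_map_equiv, map_le_map_equiv]; exact h2
    · rw [centralizer_map_equiv, map_le_map_equiv]; exact h3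

/-- adjusting an isomorphism to given Sylow subgroups -/
theorem exists_equiv_map [Finite L] {p : ℕ} [Fact p.Prime] {U : Subgroup L} (hU : IsPGroup p U) (hUi : ¬ p ∣ U.index)
    {V : Subgroup Y} (hV : IsPGroup p V) (hVm : ∀ Q : Subgroup Y, IsPGroup p Q → V ≤ Q → Q = V) :
    ∃ g : Y, U.map (φ.trans (MulAut.conj g)).toMonoidHom = V := by
  have : Finite Y := Finite.of_equiv L φ.toEquiv
  have h1 : ¬ p ∣ (U.map φ.toMonoidHom).index := by
    rwa [Subgroup.index_map_of_bijective (f := φ.toMonoidHom) φ.bijective U]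
  let P : Sylow p Y := (hU.map φ.toMonoidHom).toSylow h1
  let Q : Sylow p Y := ⟨V, hV, fun {Q} h2 h3 => hVm Q h2 h3⟩
  obtain ⟨g, hg⟩ := MulAction.exists_smul_eq Y P Q
  refine ⟨g, ?_⟩
  have h2 : ((g • P : Sylow p Y) : Subgroup Y) = V := by rw [hg]
  rw [← h2, Sylow.coe_subgroup_smul]
  ext y
  rw [Subgroup.mem_map, Subgroup.mem_pointwise_smul_iff_inv_smul_mem]
  constructor
  · rintro ⟨u, hu, rfl⟩
    have h3 : (MulAut.conj g)⁻¹ • ((φ.trans (MulAut.conj g)).toMonoidHom u) = φ u := by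
      change (MulAut.conj g)⁻¹ (MulAut.conj g (φ u)) = φ u
      rw [← MulAut.mul_apply, inv_mul_cancel, MulAut.one_apply]
    rw [h3]
    exact Subgroup.mem_map_of_mem φ.toMonoidHom hu
  · rintro h3
    obtain ⟨u, hu, hu1⟩ := h3
    refine ⟨u, hu, ?_⟩
    change MulAut.conj g (φ u) = y
    have h4 : φ u = (MulAut.conj g)⁻¹ y := hu1
    rw [h4, ← MulAut.mul_apply, mul_inv_cancel, MulAut.one_apply]

end map

namespace SysID

open CoxeterSystem Cfsg.Agent.ChevalleyStructure.CoxeterGeom Cfsg.Agent.Tits.Roots Cfsg.Agent.Tits.Core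
  Cfsg.Agent.Tits.Exchange Cfsg.Agent.Nodes.Reps Cfsg.Agent.Nodes.BNOf Cfsg.Agent.Nodes.StabComb
  Cfsg.Agent.Nodes.Bruhat Cfsg.Agent.Nodes.OppDec Cfsg.Agent.Nodes.LeviDec Cfsg.Agent.Nodes.NormalForm
  Cfsg.Agent.Nodes.Coroot Cfsg.Agent.Nodes.PosPair Cfsg.Agent.KFacts.RgdPar Cfsg.Agent.KFacts.RgdTI
  Cfsg.Agent.KFacts.RgdCent Cfsg.Agent.KFacts.RgdKap Cfsg.Agent.KFacts.RgdField Cfsg.Agent.KFacts.RgdOdd
  Cfsg.Agent.KFacts.RgdSys Cfsg.Agent.KFacts.ChevTwo Cfsg.Agent.KFacts.SysFree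

variable {I W Y K : Type*} [Fintype I] [DecidableEq I] [Group W] [Group Y] [Field K] {M : CoxeterMatrix I}
variable {cs : CoxeterSystem M W} {A : I → I → ℤ} {h : IsCartan M A} {e : (I → ℤ) → K → Y}
  {T : Subgroup Y} {n : I → Y} {X : (I → ℤ) → Subgroup Y}
variable [Finite W] [Finite K] [CharP K 2] {R : RGD cs h 2 T n X} (S : Sys R e)
  (hG1 : RGD.Sup X {x | IsRoot cs h x} = ⊤) (hN : NoCent cs h T X) {ρ σ : I → ℤ} {i j : I} (D : Two cs h ρ σ i j)
  (hconn : ∀ J : Set I, J.Nonempty → J ≠ Set.univ → ∃ a ∈ J, ∃ b, b ∉ J ∧ M a b ≠ 2)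

include S hG1 hN D hconn

theorem exists_iso {L : Type*} [Group L] [Finite L] (ψ : L ≃* Y) {U Z : Subgroup L} {v : L} (H : LIn U Z v) :
    ∃ φ : L ≃* Y, U.map φ.toMonoidHom = RGD.Sup X (RGD.Pos cs h) ∧
      (Z.map φ.toMonoidHom = X ρ ∨ Z.map φ.toMonoidHom = X σ) := by
  have : Fact (Nat.Prime 2) := ⟨Nat.prime_two⟩
  have : Finite Y := Finite.of_equiv L ψ.toEquiv
  obtain ⟨g, hg⟩ := exists_equiv_map ψ H.two (fun h1 => (Nat.not_even_iff_odd.2 H.odd) (even_iff_two_dvd.2 h1))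
    R.isPGroup_Upos (V := RGD.Sup X (RGD.Pos cs h)) fun Q hQ hle => by
      refine eq_U_of_isPGroup R hQ hle ?_
      rw [Cfsg.Agent.KFacts.RgdRigid.GG_eq_top hG1]; exact le_top
  have H' := H.map (ψ.trans (MulAut.conj g))
  rw [hg] at H'
  exact ⟨_, hg, eq_X S hG1 hN D hconn H'.U_R H'.R_ne H'.NU H'.max⟩

theorem exists_iso_left (hab : ∀ a ∈ Rad cs h σ, ∀ b ∈ Rad cs h σ, 0 ≤ cpr cs h a b)
    {L : Type*} [Group L] [Finite L] (ψ : L ≃* Y) {U Z : Subgroup L} {v : L} (H : LIn U Z v) :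
    ∃ φ : L ≃* Y, U.map φ.toMonoidHom = RGD.Sup X (RGD.Pos cs h) ∧ Z.map φ.toMonoidHom = X ρ := by
  have : Finite Y := Finite.of_equiv L ψ.toEquiv
  obtain ⟨φ, h1, h2⟩ := exists_iso S hG1 hN D hconn ψ H
  refine ⟨φ, h1, h2.resolve_right fun h3 => ?_⟩
  obtain ⟨V, hV, hn, hnc⟩ := (H.map φ).nonab
  rw [h3] at hn
  exact hnc (abel S hG1 D.rσ.1 hab hV hn)

end SysID

end Cfsg.Agent.Omega.HOneEnd
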