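import Cfsg.Agent.Omega.HOneEnd.TwoInst

/-!
# LeafH1, END: the radical of the long root of `C_m` is abelian

`rad_nonneg` : `⟨a, b^∨⟩ ≥ 0` for `a`, `b` with `⟨a, σ^∨⟩, ⟨b, σ^∨⟩ ≥ 1`, `σ = 2 ε₀`.
-/

set_option autoImplicit false
set_option linter.unusedSectionVars false

namespace Cfsg.Agent.Omega.HOneEnd.RadC

open CoxeterSystem Cfsg.Agent.ChevalleyStructure.CoxeterGeom Cfsg.Agent.Tits.Roots Cfsg.Agent.Tits.Core
  Cfsg.Agent.Nodes.BNOf Cfsg.Agent.Nodes.Coroot Cfsg.Agent.KFacts.RgdCent Cfsg.Agent.KFacts.RgdOdd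
  Cfsg.Agent.Nodes.KindBC Cfsg.Agent.Nodes.TypeC Cfsg.Agent.Nodes.TypeCForm Cfsg.Agent.Omega.HOneEnd.TwoInst

variable {m : ℕ} {W : Type*} [Group W] [Finite W] {cs : CoxeterSystem (CoxeterMatrix.B m) W}

theorem form (z : Fin m) {x : Fin m → ℤ} (hx : IsRoot cs (isCartan m) x) (h : 1 ≤ ee x z) :
    ∃ b : Fin m × Bool, x = rt (z, true) b ∧ (b.1 ≠ z ∨ b = (z, true)) := by
  obtain ⟨⟨i, s⟩, ⟨j, t⟩, hab, rfl⟩ := exists_rt hx
  rw [ee_rt, Pi.add_apply, wt_apply, wt_apply] at h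
  simp only at h
  by_cases hi : z = i
  · subst hi
    by_cases hj : z = j
    · subst hj
      rcases hab with hab | hab
      · exact absurd rfl hab
      · obtain ⟨-, rfl⟩ := Prod.mk.inj hab
        cases s
        · simp at h
        · exact ⟨(z, true), rfl, Or.inr rfl⟩
    · rw [if_pos rfl, if_neg hj, add_zero] at h
      cases s
      · simp at h
      · exact ⟨(j, t), rfl, Or.inl fun h' => hj h'.symm⟩
  · by_cases hj : z = j
    · subst hj
      rw [if_neg hi, if_pos rfl, zero_add] at h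
      cases t
      · simp at h
      · exact ⟨(i, s), rt_comm _ _, Or.inl fun h' => hi h'.symm⟩
    · rw [if_neg hi, if_neg hj] at h
      norm_num at h

theorem rad_nonneg (hm : 3 ≤ m) : ∀ a ∈ Rad cs (isCartan m) (sigC hm), ∀ b ∈ Rad cs (isCartan m) (sigC hm),
    0 ≤ cpr cs (isCartan m) a b := by
  intro a ha b hb
  set z : Fin m := ⟨0, by omega⟩ with hz
  have h1 : ∀ x, cpr cs (isCartan m) x (sigC hm) = ee x z := by
    intro x
    have := cpr_rt_self (cs := cs) x (z, true)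
    rw [sn, if_pos rfl, mul_one] at this
    exact this
  have ha1 : 1 ≤ ee a z := by rw [← h1]; exact ha.2
  have hb1 : 1 ≤ ee b z := by rw [← h1]; exact hb.2
  obtain ⟨c, hc, hc'⟩ := form z ha.1 ha1
  obtain ⟨d, hd, hd'⟩ := form z hb.1 hb1
  rcases hd' with hd' | rfl
  · rw [hd, cpr_rt (cs := cs) a (a := (z, true)) (b := d) (fun h => hd' h.symm)]
    have e1 : sn ((z, true) : Fin m × Bool) = 1 := by rw [sn, if_pos rfl]
    have e2 : ee a d.1 = wt c d.1 := by
      rw [hc, ee_rt, Pi.add_apply, wt_apply (z, true), if_neg hd', zero_add]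
    rw [e1, e2, mul_one]
    have e3 : -1 ≤ wt c d.1 * sn d := by
      rw [wt_apply, sn]
      split_ifs <;> norm_num
    simp only
    linarith
  · rw [hd, cpr_rt_self]
    have e1 : sn ((z, true) : Fin m × Bool) = 1 := by rw [sn, if_pos rfl]
    rw [e1, mul_one]
    simp only
    linarith

end Cfsg.Agent.Omega.HOneEnd.RadC
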