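import Cfsg.Agent.Omega.HOneEnd.TTwoRgd
import Cfsg.Agent.KFacts.TwESix.Cent
import Cfsg.Agent.KFacts.TwESix.Dat
import Cfsg.Agent.S1070

/-!
# LeafH1, END, THEOREM ID: the types `T2`, `²E₆(q)` (helper368)
-/

set_option autoImplicit false
set_option linter.unusedSectionVars false

namespace Cfsg.Agent.Omega.HOneEnd.TTwo

open Subgroup CoxeterSystem Cfsg.Agent.ChevalleyStructure.CoxeterGeom Cfsg.Agent.Tits.Roots Cfsg.Agent.Tits.Core
  Cfsg.Agent.Tits.RootComb Cfsg.Agent.Tits.Exchange Cfsg.Agent.Nodes.Reps Cfsg.Agent.Nodes.BNOf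
  Cfsg.Agent.Nodes.Coroot Cfsg.Agent.Nodes.StabComb
  Cfsg.Agent.Nodes.LeviDec Cfsg.Agent.Nodes.Bruhat Cfsg.Agent.Nodes.OppDec
  Cfsg.Agent.KFacts.RgdPar Cfsg.Agent.KFacts.RgdCent
  Cfsg.Agent.KFacts.RgdSL Cfsg.Agent.KFacts.RgdTI Cfsg.Agent.KFacts.RgdOdd
  Cfsg.Agent.Nodes.RGDTwE6 Cfsg.Agent.KFacts.TwESix.Comb Cfsg.Agent.KFacts.TwESix.CombRho
  Cfsg.Agent.KFacts.TwESix.Facts
open Cfsg.Lie

theorem center_eq_bot' {X : Type*} [Group X] (h1 : IsSimpleGroup X) (h2 : ¬ IsMulCommutative X) :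
    Subgroup.center X = ⊥ := by
  rcases (inferInstance : (Subgroup.center X).Normal).eq_bot_or_eq_top with h | h
  · exact h
  · exfalso
    apply h2
    refine ⟨⟨fun a b => ?_⟩⟩
    have : a ∈ Subgroup.center X := by rw [h]; exact Subgroup.mem_top a
    exact (Subgroup.mem_center_iff.1 this b).symm

/-- **`²E₆(q)`.** -/
theorem t2_2E6 {E : Type} [Field E] [Fintype E] [CharP E 2] {q : ℕ} (hq : IsPrimePow q)
    (hF : Fintype.card E = q ^ 2) : T2 ↥(twistedE6 E q) := by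
  obtain ⟨φ, hφ, hqq⟩ := Cfsg.Agent.ChevalleyStructure.TwE6Basic.exists_frob hq hF
  let cs := CoxeterMatrix.F₄.toCoxeterSystem
  have : Finite CoxeterMatrix.F₄.Group := finiteW cs
  obtain ⟨h1, h2⟩ := Cfsg.Agent.S1070.result (K := E) hq hF
  have hNC : NoCent cs isCartan (Cfsg.Agent.Nodes.RGDTwE6.T E q) (X φ q) :=
    noCent_of_center (rgd cs hφ hqq 2) (G1_eq_top cs hφ hqq) (center_eq_bot' h1 h2)
  have hD : Dat (rgd cs hφ hqq 2) := Cfsg.Agent.KFacts.TwESix.Dat.dat cs hφ hqq hF hq.one_lt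
  have hG : GG cs isCartan (Cfsg.Agent.Nodes.RGDTwE6.T E q) (X φ q) = ⊤ :=
    Cfsg.Agent.KFacts.RgdRigid.GG_eq_top (G1_eq_top cs hφ hqq)
  refine t2_of_LR (rgd cs hφ hqq 2) hG (hD.lr rho (rho_root cs) rho_long) ?_
  intro c _ hc
  refine Cfsg.Agent.KFacts.TwESix.Cent.k1 hD (rho_root cs) rho_long hNC (by rw [hG]; trivial) fun a ha ha0 v hv => ?_
  rw [cpr_rho] at ha0
  refine (hc v ?_).symm
  refine RGD.le_Sup (X := X φ q) (S := RGD.Pos cs isCartan) ⟨ha, ?_⟩ hv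
  rcases ha.pos_or_neg with h3 | h3
  · exact h3
  · exact absurd (h3 0) (not_le.2 ha0)

end Cfsg.Agent.Omega.HOneEnd.TTwo
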