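import Mathlib

/-!
# LeafH1, END, THEOREM ID: the types `T2` (helper368)

`T2 L`: for a Sylow 2-subgroup `U` of `L` and `1 ≠ R ≤ Z(U)` with `N(U) ≤ N(R)` maximal in `L`, `C(v) ≤ N(R)` for every
`1 ≠ v ∈ Z(U)`.

* `T2.of_ti` : `Z(U) ≤ Z₀`, `Z₀` a TI-subgroup, `N(Z₀) ≠ L`;
* `T2.of_aut` : the same, `Z(U) ≤ Z₀` from a fact about automorphisms trivial on `U`;
* `T2.of_equiv` : transport.
-/

set_option autoImplicit false
set_option linter.unusedSectionVars false

namespace Cfsg.Agent.Omega.HOneEnd.TTwo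

open Subgroup

universe u v

/-- the property of the types with `Z(U)` a TI root group -/
def T2 (L : Type u) [Group L] : Prop :=
  ∀ U : Sylow 2 L, ∀ R : Subgroup L, R ≤ (U : Subgroup L) → R ≤ centralizer ((U : Subgroup L) : Set L) → R ≠ ⊥ →
    normalizer ((U : Subgroup L) : Set L) ≤ normalizer (R : Set L) → IsCoatom (normalizer (R : Set L)) →
    ∀ v ∈ (U : Subgroup L), v ∈ centralizer ((U : Subgroup L) : Set L) → v ≠ 1 →
      centralizer {v} ≤ normalizer (R : Set L)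

section gen

variable {L : Type u} [Group L]

/-- a TI-subgroup -/
def TI (Z : Subgroup L) : Prop := ∀ z ∈ Z, z ≠ 1 → ∀ g : L, g * z * g⁻¹ ∈ Z → g ∈ normalizer (Z : Set L)

theorem mem_map_conj {Z : Subgroup L} {g x : L} : x ∈ Z.map (MulAut.conj g).toMonoidHom ↔ g⁻¹ * x * g ∈ Z := by
  constructor
  · rintro ⟨y, hy, rfl⟩
    have e : g⁻¹ * (MulAut.conj g).toMonoidHom y * g = y := by
      show g⁻¹ * (g * y * g⁻¹) * g = y
      group
    rw [e]
    exact hy
  · intro h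
    refine ⟨_, h, ?_⟩
    show g * (g⁻¹ * x * g) * g⁻¹ = x
    group

theorem normalizer_map_conj {Z : Subgroup L} {g x : L} :
    x ∈ normalizer ((Z.map (MulAut.conj g).toMonoidHom : Subgroup L) : Set L) ↔ g⁻¹ * x * g ∈ normalizer (Z : Set L) := by
  rw [mem_normalizer_iff, mem_normalizer_iff]
  constructor
  · intro h y
    have h1 := h (g * y * g⁻¹)
    rw [mem_map_conj, mem_map_conj] at h1
    have e1 : g⁻¹ * (g * y * g⁻¹) * g = y := by group
    have e2 : g⁻¹ * (x * (g * y * g⁻¹) * x⁻¹) * g = g⁻¹ * x * g * y * (g⁻¹ * x * g)⁻¹ := by group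
    rwa [e1, e2] at h1
  · intro h y
    rw [mem_map_conj, mem_map_conj, h (g⁻¹ * y * g)]
    have e2 : g⁻¹ * (x * y * x⁻¹) * g = g⁻¹ * x * g * (g⁻¹ * y * g) * (g⁻¹ * x * g)⁻¹ := by group
    rw [e2]

theorem TI.map {Z : Subgroup L} (h : TI Z) (g : L) : TI (Z.map (MulAut.conj g).toMonoidHom) := by
  intro z hz hz1 x hx
  rw [mem_map_conj] at hz hx
  rw [normalizer_map_conj]
  refine h _ hz (fun h0 => hz1 ?_) _ ?_
  · have e : z = g * (g⁻¹ * z * g) * g⁻¹ := by group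
    rw [e, h0]; group
  · have e : g⁻¹ * x * g * (g⁻¹ * z * g) * (g⁻¹ * x * g)⁻¹ = g⁻¹ * (x * z * x⁻¹) * g := by group
    rw [e]
    exact hx

/-- **The criterion.** -/
theorem T2.of_ti [Finite L] (U₀ : Sylow 2 L) (Z₀ : Subgroup L)
    (hZ : ∀ c ∈ (U₀ : Subgroup L), c ∈ centralizer ((U₀ : Subgroup L) : Set L) → c ∈ Z₀) (ti : TI Z₀)
    (hN : normalizer (Z₀ : Set L) ≠ ⊤) : T2 L := by
  have : Fact (Nat.Prime 2) := ⟨Nat.prime_two⟩
  intro U R hRU hRC hR1 _ hco v hv hvC hv1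
  obtain ⟨g, rfl⟩ := MulAction.exists_smul_eq L U₀ U
  have hmem : ∀ {x : L}, x ∈ ((g • U₀ : Sylow 2 L) : Subgroup L) ↔ g⁻¹ * x * g ∈ (U₀ : Subgroup L) := fun {x} => by
    rw [show ((g • U₀ : Sylow 2 L) : Subgroup L) = (U₀ : Subgroup L).map (MulAut.conj g).toMonoidHom from rfl,
      mem_map_conj]
  set Z := Z₀.map (MulAut.conj g).toMonoidHom with hZdef
  have hZ' : ∀ c ∈ ((g • U₀ : Sylow 2 L) : Subgroup L), c ∈ centralizer (((g • U₀ : Sylow 2 L) : Subgroup L) : Set L) →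
      c ∈ Z := by
    intro c hc hcC
    rw [hZdef, mem_map_conj]
    refine hZ _ (hmem.1 hc) (mem_centralizer_iff.2 fun y hy => ?_)
    have h1 := mem_centralizer_iff.1 hcC (g * y * g⁻¹) (hmem.2 (by
      have e : g⁻¹ * (g * y * g⁻¹) * g = y := by group
      rw [e]; exact hy))
    have e1 : y * (g⁻¹ * c * g) = g⁻¹ * (g * y * g⁻¹ * c) * g := by group
    rw [e1, h1]
    group
  have ti' : TI Z := ti.map g
  have hN' : normalizer (Z : Set L) ≠ ⊤ := by
    intro h0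
    apply hN
    rw [eq_top_iff]
    intro x _
    have h1 : g * x * g⁻¹ ∈ normalizer (Z : Set L) := h0 ▸ mem_top _
    rw [hZdef, normalizer_map_conj] at h1
    have e : g⁻¹ * (g * x * g⁻¹) * g = x := by group
    rwa [e] at h1
  have hRZ : R ≤ Z := fun r hr => hZ' r (hRU hr) (hRC hr)
  obtain ⟨r, hr1⟩ := Subgroup.ne_bot_iff_exists_ne_one.1 hR1
  have hle : normalizer (R : Set L) ≤ normalizer (Z : Set L) := fun x hx =>
    ti' r (hRZ r.2) (fun h0 => hr1 (Subtype.ext h0)) x (hRZ ((mem_normalizer_iff.1 hx _).1 r.2))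
  have heq : normalizer (R : Set L) = normalizer (Z : Set L) := by
    rcases hle.eq_or_lt with h | h
    · exact h
    · exact absurd (hco.2 _ h) hN'
  intro x hx
  rw [heq]
  rw [mem_centralizer_singleton_iff] at hx
  refine ti' v (hZ' v hv hvC) hv1 x ?_
  have e : x * v * x⁻¹ = v := by rw [hx]; group
  rw [e]
  exact hZ' v hv hvC

/-- the same with a maximal 2-subgroup -/
theorem T2.of_ti' [Finite L] {U₀ : Subgroup L} (h2 : IsPGroup 2 ↥U₀)
    (hmax : ∀ Q : Subgroup L, IsPGroup 2 ↥Q → U₀ ≤ Q → Q ≤ U₀) {Z₀ : Subgroup L}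
    (hZ : ∀ c ∈ U₀, (∀ u ∈ U₀, u * c = c * u) → c ∈ Z₀) (ti : TI Z₀)
    (hN : normalizer (Z₀ : Set L) ≠ ⊤) : T2 L :=
  T2.of_ti ⟨U₀, h2, fun {Q} hQ hle => le_antisymm (hmax Q hQ hle) hle⟩ Z₀
    (fun c hc hcC => hZ c hc fun u hu => mem_centralizer_iff.1 hcC u hu) ti hN

/-- transport -/
theorem T2.of_equiv [Finite L] {L' : Type v} [Group L'] (e : L' ≃* L) (h : T2 L) : T2 L' := by
  have : Fact (Nat.Prime 2) := ⟨Nat.prime_two⟩
  intro U R hRU hRC hR1 hUR hco v hv hvC hv1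
  have hn : ∀ {H : Subgroup L'} {x : L'}, e x ∈ normalizer ((H.map e.toMonoidHom : Subgroup L) : Set L) ↔
      x ∈ normalizer (H : Set L') := fun {H x} => by
    rw [mem_normalizer_iff, mem_normalizer_iff]
    have hm : ∀ y : L', e y ∈ H.map e.toMonoidHom ↔ y ∈ H := fun y =>
      ⟨fun ⟨z, hz, hzy⟩ => by have := e.injective hzy; rwa [← this], fun hy => ⟨y, hy, rfl⟩⟩
    constructor
    · intro h1 y
      have h2 := h1 (e y)
      rw [hm, ← map_mul, ← map_inv, ← map_mul, hm] at h2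
      exact h2
    · intro h1 y
      obtain ⟨y, rfl⟩ := e.surjective y
      rw [hm, ← map_mul, ← map_inv, ← map_mul, hm]
      exact h1 y
  have h1 : IsPGroup 2 ↥((U : Subgroup L').map e.toMonoidHom) := U.2.map _
  let U' : Sylow 2 L := ⟨(U : Subgroup L').map e.toMonoidHom, h1, by
    intro Q hQ hle
    have h2 : IsPGroup 2 ↥(Q.comap e.toMonoidHom) := hQ.comap_of_injective _ e.injective
    have h3 : (U : Subgroup L') ≤ Q.comap e.toMonoidHom := fun s hs => hle ⟨s, hs, rfl⟩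
    have h4 := U.3 h2 h3
    rw [← h4, Subgroup.map_comap_eq_self_of_surjective e.surjective]⟩
  have hc : ∀ {x : L'}, x ∈ centralizer ((U : Subgroup L') : Set L') →
      e x ∈ centralizer ((U' : Subgroup L) : Set L) := fun {x} hx => by
    rw [mem_centralizer_iff]
    rintro _ ⟨y, hy, rfl⟩
    show e y * e x = e x * e y
    rw [← map_mul, ← map_mul, mem_centralizer_iff.1 hx y hy]
  have hnorm : ∀ {H : Subgroup L'}, normalizer ((H.map e.toMonoidHom : Subgroup L) : Set L) =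
      (normalizer (H : Set L')).map e.toMonoidHom := fun {H} => by
    ext y
    obtain ⟨y, rfl⟩ := e.surjective y
    rw [hn]
    exact ⟨fun hy => ⟨y, hy, rfl⟩, fun ⟨z, hz, hzy⟩ => by have := e.injective hzy; rwa [← this]⟩
  have key := h U' (R.map e.toMonoidHom) (Subgroup.map_mono hRU)
    (by rintro _ ⟨r, hr, rfl⟩; exact hc (hRC hr))
    (by rw [Ne, Subgroup.map_eq_bot_iff_of_injective _ e.injective]; exact hR1)
    (by
      rw [show ((U' : Subgroup L) : Set L) = (((U : Subgroup L').map e.toMonoidHom : Subgroup L) : Set L) from rfl,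
        hnorm, hnorm]
      exact Subgroup.map_mono hUR)
    (by
      rw [hnorm]
      refine ⟨?_, fun K hK => ?_⟩
      · intro h0
        apply hco.1
        rw [eq_top_iff]
        intro x _
        have h2 : e x ∈ (normalizer (R : Set L')).map e.toMonoidHom := h0 ▸ mem_top _
        obtain ⟨z, hz, hzx⟩ := h2
        have := e.injective hzx
        rwa [← this]
      · have h2 : normalizer (R : Set L') < K.comap e.toMonoidHom := by
          refine lt_of_le_of_ne (fun x hx => hK.le ⟨x, hx, rfl⟩) ?_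
          intro h3
          apply hK.ne
          rw [h3, Subgroup.map_comap_eq_self_of_surjective e.surjective]
        have h3 := hco.2 _ h2
        rw [eq_top_iff]
        intro y _
        obtain ⟨y, rfl⟩ := e.surjective y
        have h4 : y ∈ K.comap e.toMonoidHom := h3 ▸ mem_top _
        exact h4)
    (e v) ⟨v, hv, rfl⟩ (hc hvC) (fun h0 => hv1 (by
      apply e.injective
      rw [h0, map_one]))
  intro x hx
  rw [← hn]
  refine key ?_
  rw [mem_centralizer_singleton_iff] at hx ⊢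
  rw [← map_mul, ← map_mul, hx]

/-- The centre of `U` from a statement on automorphisms trivial on `U`. -/
theorem T2.of_aut [Finite L] {U₀ : Subgroup L} (h2 : IsPGroup 2 ↥U₀)
    (hmax : ∀ Q : Subgroup L, IsPGroup 2 ↥Q → U₀ ≤ Q → Q ≤ U₀) {Z₀ : Subgroup L}
    (aut : ∀ α : MulAut L, (∃ n : ℕ, α ^ 2 ^ n = 1) → (∀ u ∈ U₀, α u = u) → ∃ z ∈ Z₀, ∀ x, α x = z * x * z⁻¹)
    (hc : Subgroup.center L = ⊥) (ti : TI Z₀) (hN : normalizer (Z₀ : Set L) ≠ ⊤) : T2 L := by
  refine T2.of_ti' h2 hmax ?_ ti hN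
  intro c hcU hcC
  obtain ⟨k, hk⟩ := h2 ⟨c, hcU⟩
  have hk' : c ^ 2 ^ k = 1 := congrArg Subtype.val hk
  obtain ⟨z, hz, h1⟩ := aut (MulAut.conj c) ⟨k, by rw [← map_pow, hk', map_one]⟩ (fun u hu => by
    rw [MulAut.conj_apply, ← hcC u hu]; group)
  have h2 : z⁻¹ * c ∈ Subgroup.center L := by
    rw [Subgroup.mem_center_iff]
    intro x
    have h3 := h1 x
    rw [MulAut.conj_apply] at h3
    have h4 : z⁻¹ * (c * x * c⁻¹) * c = x * (z⁻¹ * c) := by rw [h3]; group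
    rw [← h4]; group
  rw [hc, Subgroup.mem_bot, inv_mul_eq_one] at h2
  rw [← h2]
  exact hz

/-- In a simple group `N(Z₀) = L` is impossible under the hypotheses of `T2`. -/
theorem T2.of_simple [Finite L] [IsSimpleGroup L] {U₀ : Subgroup L} (h2 : IsPGroup 2 ↥U₀)
    (hmax : ∀ Q : Subgroup L, IsPGroup 2 ↥Q → U₀ ≤ Q → Q ≤ U₀) {Z₀ : Subgroup L}
    (hZ : ∀ c ∈ U₀, (∀ u ∈ U₀, u * c = c * u) → c ∈ Z₀) (ti : TI Z₀) (hZ1 : Z₀ ≠ ⊥) (hZU : Z₀ ≤ U₀)
    (hZc : ∀ z ∈ Z₀, ∀ u ∈ U₀, u * z = z * u) (hna : ∃ a b : L, a * b ≠ b * a) : T2 L := by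
  refine T2.of_ti' h2 hmax hZ ti fun h0 => ?_
  have h1 : Z₀.Normal := normalizer_eq_top_iff.mp h0
  rcases h1.eq_bot_or_eq_top with h3 | h3
  · exact hZ1 h3
  · obtain ⟨a, b, hab⟩ := hna
    have ha : a ∈ Z₀ := h3 ▸ mem_top a
    have hb : b ∈ Z₀ := h3 ▸ mem_top b
    exact hab (hZc b hb a (hZU ha))

end gen

end Cfsg.Agent.Omega.HOneEnd.TTwo
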