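import Mathlib
import Cfsg.Agent.Omega.HOneEnd.TTwo
import Cfsg.Agent.OddHalf.Orth.KFr
import Cfsg.Agent.OddHalf.Orth.KPl

/-!
# LeafH1, END, THEOREM ID: the types `T2`, `Ω⁻` (helper368)

* `NL_of_mem` : `X Q u v` is a TI-subgroup with normaliser `NL Q u v`;
* `t2_OMinus` : `PΩ⁻_{2m+2}(q)`, `q` even, `m ≥ 3`.
-/

set_option autoImplicit false
set_option linter.unusedSectionVars false

namespace Cfsg.Agent.Omega.HOneEnd.TTwo

open Subgroup QuadraticMap Cfsg.Agent.LieClassical.OrthCore Cfsg.Agent.LieClassical.OrthTrans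
  Cfsg.Agent.LieClassical.OrthSimple Cfsg.Agent.ClassicalGeometry.OrthAutBasic
  Cfsg.Agent.ClassicalGeometry.OrthAutRoot Cfsg.Agent.OddHalf.Orth Cfsg.Agent.OddHalf.Orth.FlagDef
  Cfsg.Agent.LieClassical Cfsg.Agent.LieClassical.OrthForms Cfsg.Agent.TitsThree.KSideO
  Cfsg.Agent.OddHalf.Orth.KFlag Cfsg.Agent.OddHalf.Orth.KFlagMain

section

variable {F V : Type*} [Field F] [AddCommGroup V] [Module F V] {Q : QuadraticForm F V} [CharP F 2] {u v u' v' : V}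

/-- the line of `c v` -/
theorem ln_smul (h : LF Q u v u' v') {c : F} (hc : c ≠ 0) : Ln Q u (c • v) where
  qu := h.ln.qu
  qw := by rw [QuadraticMap.map_smul, h.ln.qw, smul_zero]
  perp := by rw [polar_smul_right, h.ln.perp, smul_zero]
  ne := h.ln.ne
  ind := fun d hd => h.ln.ind (c⁻¹ * d) (by rw [mul_smul, ← hd, smul_smul, inv_mul_cancel₀ hc, one_smul])

theorem L_smul {c : F} (hc : c ≠ 0) : L F u (c • v) = L F u v := by
  ext x
  rw [mem_L, mem_L]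
  constructor
  · rintro ⟨s, t, rfl⟩
    exact ⟨s, t * c, by rw [mul_smul]⟩
  · rintro ⟨s, t, rfl⟩
    exact ⟨s, t * c⁻¹, by rw [smul_smul, inv_mul_cancel_right₀ hc]⟩

/-- `X Q u v` is a TI-subgroup with normaliser in `NL Q u v`. -/
theorem NL_of_mem (hQ : Nondeg Q) (h : LF Q u v u' v') {z : ↥(E Q)} (hz : z ∈ X Q u v h.qu h.uv) (hz1 : z ≠ 1)
    {g : ↥(E Q)} (hg : g * z * g⁻¹ ∈ X Q u v h.qu h.uv) : g ∈ NL Q u v := by
  obtain ⟨c, rfl⟩ := mem_X.1 hz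
  obtain ⟨c', h1⟩ := mem_X.1 hg
  have hc : c ≠ 0 := by
    rintro rfl
    exact hz1 (by rw [zero_smul, tE_zero_right])
  have hc' : c' ≠ 0 := by
    rintro rfl
    rw [zero_smul, tE_zero_right, mul_inv_eq_one, mul_eq_left] at h1
    exact hz1 h1
  rw [tE_conj] at h1
  have e1 : D (T Q ((g : V ≃ₗ[F] V) u) ((g : V ≃ₗ[F] V) (c • v))) = D (T Q u (c' • v)) := by
    have := congrArg Subtype.val h1
    rw [coe_tE, coe_tE] at this
    rw [this]
  rw [D_T hQ ((ln_smul h hc).map (mem_O' g)), D_T hQ (ln_smul h hc'), map_smul, L_smul hc, L_smul hc'] at e1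
  apply mem_NL_of h.ln
  · rw [← e1]; exact left_mem_L _ _
  · rw [← e1]; exact right_mem_L _ _

theorem NL_le (h : LF Q u v u' v') : NL Q u v ≤ normalizer (X Q u v h.qu h.uv : Set ↥(E Q)) := by
  intro g hg
  rw [mem_normalizer_iff]
  intro y
  refine ⟨fun hy => X_conj h hg hy, fun hy => ?_⟩
  have h1 := X_conj h (inv_mem hg) hy
  have e : g⁻¹ * (g * y * g⁻¹) * g⁻¹⁻¹ = y := by group
  rwa [e] at h1

theorem X_TI (hQ : Nondeg Q) (h : LF Q u v u' v') : TI (X Q u v h.qu h.uv) :=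
  fun _ hz hz1 _ hg => NL_le h (NL_of_mem hQ h hz hz1 hg)

theorem normalizer_X_ne_top (hQ : Nondeg Q) (h : LF Q u v u' v') :
    normalizer (X Q u v h.qu h.uv : Set ↥(E Q)) ≠ ⊤ := by
  intro h0
  have hz : tE Q u ((1 : F) • v) ∈ X Q u v h.qu h.uv := mem_X.2 ⟨1, rfl⟩
  have hz1 : tE Q u ((1 : F) • v) ≠ 1 := fun h1 => one_ne_zero ((tE_smul_eq_one_iff h hQ).1 h1)
  have hg : tE Q u' v' ∈ normalizer (X Q u v h.qu h.uv : Set ↥(E Q)) := h0 ▸ mem_top _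
  have h1 := NL_of_mem hQ h hz hz1 ((mem_normalizer_iff.1 hg _).1 hz)
  have h2 := (mem_NL.1 h1 u).2 (left_mem_L _ _)
  rw [coe_tE, T_apply2 h.h1.right h.u'v', h.h1.pair', one_smul, polar_zero_of_comm h.uv'] at h2
  have h3 := perp_L (F := F) h.uv (by rw [polar_self2]) h2
  rw [polar_add_left, polar_add_left, h.uv, h.h2.pair'] at h3
  simp [h.u'v, polar_smul_left] at h3

end

section fin

variable {F : Type*} [Field F] [Finite F] [CharP F 2]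

theorem t2_EMinus {m : ℕ} (hm : 3 ≤ m) (a b : F)
    (hab : ∀ z₁ z₂ : F, z₁ ^ 2 + a * z₁ * z₂ + b * z₂ ^ 2 = 0 → z₁ = 0 ∧ z₂ = 0) :
    T2 ↥(E (minusForm m F a b)) := by
  have hfl := (flag_minus hm a b hab).1
  have h : LF (minusForm m F a b) (em m a b hab 0) (em m a b hab 1) (fm m a b hab 0) (fm m a b hab 1) :=
    { h1 := hfl.hyp 0 (by omega)
      h2 := hfl.hyp 1 (by omega)
      uv := hfl.ee 0 1 (by omega) (by omega) (by omega)
      uv' := hfl.ef 0 1 (by omega) (by omega) (by omega)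
      u'v := polar_zero_of_comm (hfl.ef 1 0 (by omega) (by omega) (by omega))
      u'v' := hfl.ff 0 1 (by omega) (by omega) (by omega) }
  have hfin : Finite ((((Fin m ⊕ Fin m) ⊕ Fin 2) → F) ≃ₗ[F] (((Fin m ⊕ Fin m) ⊕ Fin 2) → F)) :=
    Finite.of_injective (fun g : ((((Fin m ⊕ Fin m) ⊕ Fin 2) → F) ≃ₗ[F] (((Fin m ⊕ Fin m) ⊕ Fin 2) → F)) =>
      (g : (((Fin m ⊕ Fin m) ⊕ Fin 2) → F) → (((Fin m ⊕ Fin m) ⊕ Fin 2) → F))) DFunLike.coe_injective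
  have k := Cfsg.Agent.OddHalf.Orth.KFr.kf_minus hm a b hab h.qu h.uv
  have hQ : Nondeg (minusForm m F a b) := nondeg_minusForm m F a b hab
  refine T2.of_aut k.pU k.maxU k.aut ?_ (X_TI hQ h) (normalizer_X_ne_top hQ h)
  rw [Subgroup.eq_bot_iff_forall]
  exact fun g hg => SitOf.center_E (SitOf.good_minus (by omega) hab) hg

/-- **`PΩ⁻`.** -/
theorem t2_OMinus {m : ℕ} (hm : 3 ≤ m) (a b : F)
    (hab : ∀ z₁ z₂ : F, z₁ ^ 2 + a * z₁ * z₂ + b * z₂ ^ 2 = 0 → z₁ = 0 ∧ z₂ = 0) :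
    T2 (Cfsg.POmega F (Cfsg.quadFormMinus m F a b)) := by
  have hfin : Finite ((((Fin m ⊕ Fin m) ⊕ Fin 2) → F) ≃ₗ[F] (((Fin m ⊕ Fin m) ⊕ Fin 2) → F)) :=
    Finite.of_injective (fun g : ((((Fin m ⊕ Fin m) ⊕ Fin 2) → F) ≃ₗ[F] (((Fin m ⊕ Fin m) ⊕ Fin 2) → F)) =>
      (g : (((Fin m ⊕ Fin m) ⊕ Fin 2) → F) → (((Fin m ⊕ Fin m) ⊕ Fin 2) → F))) DFunLike.coe_injective
  have e : ↥(E (minusForm m F a b)) ≃* Cfsg.POmega F (Cfsg.quadFormMinus m F a b) := by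
    rw [← coe_minusForm]
    exact SitOf.equivE (SitOf.good_minus (by omega) hab)
  exact T2.of_equiv e.symm (t2_EMinus hm a b hab)

end fin

end Cfsg.Agent.Omega.HOneEnd.TTwo
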