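import Cfsg.Agent.Omega.HOneEnd.TTwo
import Cfsg.Agent.KFacts.SysFree
import Cfsg.Agent.KFacts.SLRow.Row

/-!
# LeafH1, END, THEOREM ID: the types `T2`, simply laced groups (helper368)

* `t2_of_LR` : root group datum with `Z(U) ≤ X r`, `LR r`;
* `t2_of_isSLC` : simply laced groups;
* `t2_PSL`, `t2_OPlus`, `t2_E6`, `t2_E7`, `t2_E8`.
-/

set_option autoImplicit false
set_option linter.unusedSectionVars false

namespace Cfsg.Agent.Omega.HOneEnd.TTwo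

open Subgroup CoxeterSystem Cfsg.Agent.ChevalleyStructure.CoxeterGeom Cfsg.Agent.Tits.Roots Cfsg.Agent.Tits.Core
  Cfsg.Agent.Nodes.Reps Cfsg.Agent.Nodes.BNOf Cfsg.Agent.Nodes.RGDLib Cfsg.Agent.Nodes.Bruhat
  Cfsg.Agent.Nodes.NormalForm Cfsg.Agent.KFacts.SLRow.Def Cfsg.Agent.KFacts.RgdSL
  Cfsg.Agent.KFacts.ChevTwo Cfsg.Agent.KFacts.SLRow.Row Cfsg.Agent.KFacts.SLRow.Diag
  Cfsg.Agent.KFacts.SysFree Cfsg.Agent.KFacts.RgdTI Cfsg.Agent.KFacts.RgdCent Cfsg.Agent.KFacts.RgdKap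
  Cfsg.Agent.KFacts.RgdOpp Cfsg.Agent.KFacts.RgdAut
open Cfsg.Lie

universe u

section

variable {I W : Type*} {Y : Type u} [Fintype I] [DecidableEq I] [Group W] [Group Y] {M : CoxeterMatrix I}
  {cs : CoxeterSystem M W} {A : I → I → ℤ} {h : IsCartan M A} {T : Subgroup Y} {n : I → Y}
  {X : (I → ℤ) → Subgroup Y}

theorem normalizer_ne_top {p : ℕ} [Finite W] {R : RGD cs h p T n X} {r : I → ℤ} (L : LR R r) :
    normalizer (X r : Set Y) ≠ ⊤ := by
  intro h0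
  obtain ⟨w, i, hw⟩ := L.root
  obtain ⟨k, hk⟩ := exists_rp cs R.nsys (w * cs.simple i * w⁻¹)
  have h1 : k ∈ normalizer (X r : Set Y) := h0 ▸ mem_top k
  rw [L.mem_normalizer_iff hk] at h1
  have h2 : rep cs h (w * cs.simple i * w⁻¹) r = -r := by
    rw [hw, map_mul, map_mul, Module.End.mul_apply, Module.End.mul_apply, rep_inv_apply, rep_simple_sr, map_neg]
  rw [h2] at h1
  exact L.root.ne_zero (self_eq_neg.1 h1.symm)

/-- `Z(U) ≤ X r`. -/
theorem t2_of_LR [Finite W] [Finite Y] (R : RGD cs h 2 T n X) (hG : GG cs h T X = ⊤) {r : I → ℤ} (L : LR R r)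
    (hZ : ∀ c ∈ RGD.Sup X (RGD.Pos cs h), (∀ u ∈ RGD.Sup X (RGD.Pos cs h), u * c = c * u) → c ∈ X r) : T2 Y := by
  have : Fact (Nat.Prime 2) := ⟨Nat.prime_two⟩
  refine T2.of_ti' (U₀ := RGD.Sup X (RGD.Pos cs h)) R.isPGroup_Upos ?_ (Z₀ := X r) hZ ?_ (normalizer_ne_top L)
  · intro Q hQ hle
    exact (eq_U_of_isPGroup R hQ hle (by rw [hG]; exact le_top)).le
  · intro z hz hz1 g hg
    exact L.ti_self (by rw [hG]; trivial) hz hz1 hg

end

/-- **Simply laced groups.** -/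
theorem t2_of_isSLC {q l : ℕ} {M : CoxeterMatrix (Fin l)} {L : Type u} [Group L] [Finite L] (hK : IsSLC q M L) :
    T2 L := by
  obtain ⟨A, h, T, n, X, F, _, _, _, e, hW, rfl, hM, D, S⟩ := hK
  have hne : Nonempty (Fin l) := Fintype.card_pos_iff.1 (by have := D.three; omega)
  obtain ⟨r, hr⟩ := exists_star (cs := M.toCoxeterSystem) (h := h)
  have hs : SL M.toCoxeterSystem h := fun _ _ hx hy => Nodes.SimplyLaced.cpr_symm M.toCoxeterSystem h D.h4 D.h6 hx hy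
  have hO : ∀ r, IsRoot M.toCoxeterSystem h r → Cfsg.Agent.KFacts.RgdOdd.Orth M.toCoxeterSystem h r := fun r hr =>
    orth_of D.h4 D.h6 D.irr hr
  have hG : GG M.toCoxeterSystem h T X = ⊤ :=
    Cfsg.Agent.KFacts.RgdRigid.GG_eq_top D.gen
  refine t2_of_LR D.rgd hG (S.lr hr.1) ?_
  intro c _ hc
  have h1 := center_le S D.gen D.cent (fun J hJ hJ' => D.irr J hJ (Set.nonempty_compl.2 hJ')) hc
  refine (RGD.Sup_le fun z hz => ?_ : RGD.Sup X (Star M.toCoxeterSystem h (RGD.Pos M.toCoxeterSystem h)) ≤ X r) h1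
  rw [Cfsg.Agent.KFacts.RgdAutFacts.dom_unique hs hO hz hr]

section fam

variable {F : Type} [Field F] [Finite F] [CharP F 2]

theorem t2_PSL {n : ℕ} (hn : 4 ≤ n) : T2 (Matrix.ProjectiveSpecialLinearGroup (Fin n) F) := by
  obtain ⟨m, rfl⟩ : ∃ m, n = m + 1 := ⟨n - 1, by omega⟩
  have : Finite (Matrix.ProjectiveSpecialLinearGroup (Fin (m + 1)) F) := Quotient.finite _
  exact t2_of_isSLC (isSLC_PSL (by omega) F)

theorem t2_OPlus {n : ℕ} (hn : 4 ≤ n) : T2 (POmega F (quadFormPlus n F)) := by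
  obtain ⟨m, rfl⟩ : ∃ m, n = m + 2 := ⟨n - 2, by omega⟩
  have : Finite (POmega F (quadFormPlus (m + 2) F)) := Quotient.finite _
  exact t2_of_isSLC (isSLC_OPlus (by omega) F)

theorem t2_E6 : T2 ↥(chevE6.group F) := t2_of_isSLC (isSLC_E6 F)

theorem t2_E7 : T2 ↥(chevE7.group F) := t2_of_isSLC (isSLC_E7 F)

theorem t2_E8 : T2 ↥(chevE8.group F) := t2_of_isSLC (isSLC_E8 F)

end fam

end Cfsg.Agent.Omega.HOneEnd.TTwo
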