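import Mathlib
import Cfsg.Agent.Omega.HOneEnd.TTwo
import Cfsg.Agent.KFacts.Unit.KF

/-!
# LeafH1, END, THEOREM ID: the types `T2`, unitary groups (helper368)

* `RR_TI` : the transvection groups of `PSU` are TI-subgroups;
* `normalizer_RR_ne_top`;
* `t2_PSU` : `PSU n F q`, `q` even, `n ≥ 6`.
-/

set_option autoImplicit false
set_option linter.unusedSectionVars false

namespace Cfsg.Agent.Omega.HOneEnd.TTwo

open Subgroup Cfsg Cfsg.Agent.LieClassical.HermBasic Cfsg.Agent.LieClassical.HermSiegel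
  Cfsg.Agent.LieClassical.HermGen Cfsg.Agent.LieClassical.SUBasic Matrix
  Cfsg.Agent.ClassicalGeometry.PSUAutBasic Cfsg.Agent.ClassicalGeometry.PSUAutSylow
  Cfsg.Agent.ClassicalGeometry.PSUAutUnip Cfsg.Agent.ClassicalGeometry.PSUAutPhi Cfsg.Agent.KFacts.Unit

variable {F : Type*} [Field F] [Fintype F] {q n : ℕ}

theorem RR_TI (hF : Fintype.card F = q ^ 2) (hn : 3 ≤ n) {u : Fin n → F} (hu0 : u ≠ 0)
    (hu : hermForm n F q u u = 0) : TI (RR hF u hu) := by
  intro x hx hx1 g hg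
  obtain ⟨μ, hμ, rfl⟩ := mem_RR.1 hx
  obtain ⟨γ, rfl⟩ := pr_surjective (n := n) (F := F) (q := q) g
  obtain ⟨μ', hμ', h1⟩ := mem_RR.1 hg
  have hμ0 : μ ≠ 0 := by
    rintro rfl
    apply hx1
    rw [transv_zero, map_one]
  rw [← map_inv, ← map_mul, ← map_mul, transv, conj_siegel] at h1
  have hgu : hermForm n F q (act γ u) (act γ u) = 0 := by rw [herm_act]; exact hu
  have hgu0 : act γ u ≠ 0 := fun h0 => hu0 ((act_eq_zero γ).1 h0)
  have h2 : siegel hF (act γ u) (act γ 0) μ _ = transv hF u hu μ' hμ' := siegel_pr_inj hF hn _ _ h1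
  obtain ⟨f, -, -, hfu⟩ := exists_partner hF hgu0 hgu
  have h4 := congrArg (fun g => act g f) h2
  change act (siegel hF (act γ u) (act γ 0) μ _) f = act (transv hF u hu μ' hμ') f at h4
  rw [act_siegel, act_transv, hfu, act_zero, herm_zero_right hF, smul_zero, add_zero, sub_zero, mul_one,
    add_right_inj] at h4
  have h5 : act γ u = (μ⁻¹ * (μ' * hermForm n F q f u)) • u := by
    rw [mul_smul, ← h4, smul_smul, inv_mul_cancel₀ hμ0, one_smul]
  have hc : μ⁻¹ * (μ' * hermForm n F q f u) ≠ 0 := by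
    intro h0
    rw [h0, zero_smul] at h5
    exact hgu0 h5
  have h6 : RR hF (act γ u) hgu = RR hF u hu :=
    ((RR_eq_iff hF hn hu0 hgu0 hu hgu).2 ⟨_, hc, h5⟩).symm
  rw [mem_normalizer_iff]
  intro y
  have h7 := RR_conj hF hu γ hgu (pr n F q γ * y * (pr n F q γ)⁻¹)
  rw [h6] at h7
  have e : (pr n F q γ)⁻¹ * (pr n F q γ * y * (pr n F q γ)⁻¹) * pr n F q γ = y := by group
  rw [e] at h7
  exact h7.symm

theorem normalizer_RR_ne_top (hF : Fintype.card F = q ^ 2) (hn : 3 ≤ n) {u : Fin n → F} (hu0 : u ≠ 0)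
    (hu : hermForm n F q u u = 0) : normalizer (RR hF u hu : Set (PSU n F q)) ≠ ⊤ := by
  intro h0
  obtain ⟨μ, hμ0, hμ⟩ := exists_trace_zero_ne hF
  obtain ⟨f, hff, huf, hfu⟩ := exists_partner hF hu0 hu
  set γ := transv hF f hff μ hμ with hγ
  have hgu : hermForm n F q (act γ u) (act γ u) = 0 := by rw [herm_act]; exact hu
  have hgu0 : act γ u ≠ 0 := fun h0 => hu0 ((act_eq_zero γ).1 h0)
  have h1 : RR hF u hu = RR hF (act γ u) hgu := by
    ext x
    rw [RR_conj hF hu γ hgu x]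
    have h2 : (pr n F q γ)⁻¹ ∈ normalizer (RR hF u hu : Set (PSU n F q)) := h0 ▸ mem_top _
    have h3 := (mem_normalizer_iff.1 h2) x
    rwa [inv_inv] at h3
  obtain ⟨c, hc, h2⟩ := (RR_eq_iff hF hn hu0 hgu0 hu hgu).1 h1
  rw [hγ, act_transv, huf, mul_one] at h2
  have h3 := congrArg (fun v => hermForm n F q v u) h2
  change hermForm n F q (u + μ • f) u = hermForm n F q (c • u) u at h3
  rw [herm_add_left, herm_smul_left, herm_smul_left, hu, hfu, mul_zero, zero_add, mul_one] at h3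
  exact hμ0 h3

/-- **Unitary groups.** -/
theorem t2_PSU [CharP F 2] (hF : Fintype.card F = q ^ 2) (hn : 6 ≤ n) : T2 (PSU n F q) := by
  have : Fact (Nat.Prime 2) := ⟨Nat.prime_two⟩
  obtain ⟨U⟩ : Nonempty (Sylow 2 (PSU n F q)) := inferInstance
  obtain ⟨u, hu0, hu, hQU, hUP, -⟩ := Cfsg.Agent.KFacts.Unit.KF.exists_kf hF hn U
  refine T2.of_ti U (RR hF u hu) ?_ (RR_TI hF (by omega) hu0 hu) (normalizer_RR_ne_top hF (by omega) hu0 hu)
  intro c hcU hcC
  obtain ⟨g, hg, rfl⟩ := mem_PP.1 (hUP hcU)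
  refine ⟨g, mem_transvG_of_commute hF hu0 hu hg ?_, rfl⟩
  rintro _ ⟨w, μ, hs, rfl⟩
  have h1 := mem_centralizer_iff.1 hcC _ (hQU (mem_QQ.2 ⟨w, μ, hs, rfl⟩))
  have h2 : pr n F q (g * siegel hF u w μ hs * g⁻¹) = pr n F q (siegel hF u w μ hs) := by
    rw [map_mul, map_mul, map_inv, ← h1, mul_inv_cancel_right]
  rw [conj_siegel] at h2 ⊢
  exact siegel_pr_inj hF (by omega) _ _ h2

end Cfsg.Agent.Omega.HOneEnd.TTwo
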