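import Cfsg.Agent.Omega.HOneEnd.Fam
import Cfsg.Agent.Omega.HOneEnd.TTwoRgd
import Cfsg.Agent.Omega.HOneEnd.TTwoU
import Cfsg.Agent.Omega.HOneEnd.TTwoM
import Cfsg.Agent.Omega.HOneEnd.TTwoE

/-!
# LeafH1, END, THEOREM ID: the types `T2`, all families of rank at least three (helper368)

**`t2_of_fam`** : `Fam 2 L → T2 L ∨ L ≅ PSp_2m(q) ∨ L ≅ F₄(q)`.
-/

set_option autoImplicit false

namespace Cfsg.Agent.Omega.HOneEnd.TTwo

open Cfsg

universe u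

/-- **The types `T2` of rank at least three.** -/
theorem t2_of_fam {L : Type u} [Group L] [Finite L] (h : Fam 2 L) :
    T2 L ∨
    (∃ (F : Type) (_ : Field F) (_ : Fintype F) (_ : CharP F 2) (m : ℕ), 3 ≤ m ∧ Nonempty (L ≃* PSp m F)) ∨
    (∃ (F : Type) (_ : Field F) (_ : Fintype F) (_ : CharP F 2), Nonempty (L ≃* Lie.chevF4.group F)) := by
  rcases h with h | h | h | h | h | h | h | h | h | h | h
  · obtain ⟨F, i1, i2, i3, n, h1, ⟨f⟩⟩ := h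
    have := Finite.of_equiv _ f.toEquiv
    exact Or.inl (T2.of_equiv f (t2_PSL h1))
  · exact Or.inr (Or.inl h)
  · obtain ⟨F, i1, i2, i3, n, q, h1, h2, ⟨f⟩⟩ := h
    exact Or.inl (T2.of_equiv f (t2_PSU h1 h2))
  · obtain ⟨F, i1, i2, i3, n, h1, h2, ⟨f⟩⟩ := h
    exact absurd CharTwo.two_eq_zero h2
  · obtain ⟨F, i1, i2, i3, n, h1, ⟨f⟩⟩ := h
    have := Finite.of_equiv _ f.toEquiv
    exact Or.inl (T2.of_equiv f (t2_OPlus h1))
  · obtain ⟨F, i1, i2, i3, n, a, b, h1, h2, ⟨f⟩⟩ := h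
    have := Finite.of_equiv _ f.toEquiv
    exact Or.inl (T2.of_equiv f (t2_OMinus h1 a b h2))
  · exact Or.inr (Or.inr h)
  · obtain ⟨F, i1, i2, i3, ⟨f⟩⟩ := h
    have := Finite.of_equiv _ f.toEquiv
    exact Or.inl (T2.of_equiv f t2_E6)
  · obtain ⟨F, i1, i2, i3, ⟨f⟩⟩ := h
    have := Finite.of_equiv _ f.toEquiv
    exact Or.inl (T2.of_equiv f t2_E7)
  · obtain ⟨F, i1, i2, i3, ⟨f⟩⟩ := h
    have := Finite.of_equiv _ f.toEquiv
    exact Or.inl (T2.of_equiv f t2_E8)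
  · obtain ⟨F, i1, i2, i3, q, h1, h2, ⟨f⟩⟩ := h
    have := Finite.of_equiv _ f.toEquiv
    exact Or.inl (T2.of_equiv f (t2_2E6 h1 h2))

end Cfsg.Agent.Omega.HOneEnd.TTwo
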