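import Cfsg.Agent.Omega.HOne.Cut
import Cfsg.Agent.S0311
import Cfsg.Agent.S0312
import Cfsg.Agent.S0319

/-!
# II.0h1, `q = 2`: from a BN-pair with Borel subgroup `S` to the interface `EndIn` of the END

`G₀` has an irreducible BN-pair of rank `≥ 3` with `B = S` (THEOREM FREE), contains `C(r)`; all but one of the
distinguished generators lie in `C(r)`; `|S|` divides `|[G₀, G₀]|`; no 2-subgroup `≠ 1` is normal in `G₀`.

* `simple_of` : `G₀` is simple (Tits);
* `endIn_of` : `EndIn S G₀ S R z`;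
* `ends_of` : the same over `Pos`: `Ends S V (R o)`.
-/

set_option autoImplicit false

namespace Cfsg.Agent.Omega.HOneEnd.OfTwo

open Subgroup Cfsg

section bn

variable {L : Type*} [Group L]

/-- a normal subgroup containing `B` is the whole group -/
theorem eq_top_of_normal (Q : Cfsg.BNPair L) {K : Subgroup L} [hK : K.Normal] (h : Q.B ≤ K) : K = ⊤ := by
  obtain ⟨J, hJ, rfl⟩ := Cfsg.Agent.S0311.result Q K h
  have h1 := Cfsg.Agent.S0312.result Q hJ
  rw [← h1]
  exact Subgroup.normalizer_eq_top_iff.2 hK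

/-- `N(B) = B` -/
theorem normalizer_B (Q : Cfsg.BNPair L) : normalizer (Q.B : Set L) = Q.B := by
  have h1 := Cfsg.Agent.S0312.result Q (J := ∅) (Set.empty_subset _)
  have h2 : Q.parabolic ∅ = Q.B := by
    unfold Cfsg.BNPair.parabolic
    rw [Subgroup.closure_empty, sup_bot_eq]
  rwa [h2] at h1

/-- a subgroup containing `B` and all but one of the distinguished generators is maximal -/
theorem eq_top_of_lt (Q : Cfsg.BNPair L) {H : Subgroup L} (hB : Q.B ≤ H) {s₀ : L}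
    (hs : ∀ s ∈ Q.S, s ≠ s₀ → s ∈ H) {K : Subgroup L} (hK : H < K) : K = ⊤ := by
  obtain ⟨J, hJ, hH⟩ := Cfsg.Agent.S0311.result Q K (hB.trans hK.le)
  have h0 : s₀ ∈ J := by
    by_contra h0
    apply hK.not_ge
    rw [hH]
    unfold Cfsg.BNPair.parabolic
    refine sup_le hB ((Subgroup.closure_le _).2 fun s hs' => hs s (hJ hs') ?_)
    rintro rfl
    exact h0 hs'
  rw [eq_top_iff, ← Q.sup_eq_top]
  refine sup_le (hB.trans hK.le) ?_
  have h1 : closure Q.S ≤ K := by
    refine (Subgroup.closure_le _).2 fun s hs' => ?_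
    by_cases h : s = s₀
    · rw [h, hH]
      exact le_sup_right (α := Subgroup L) (Subgroup.subset_closure h0)
    · exact hK.le (hs s hs' h)
  rw [← Q.closure_sup]
  exact sup_le h1 (inf_le_left.trans (hB.trans hK.le))

end bn

variable {G : Type*} [Group G] [Finite G]

/-- `S` Sylow in `G₀`, `|S|` divides `|K|`, `K` normal in `G₀` : `S ≤ K` -/
theorem le_of_card_dvd {L : Type*} [Group L] [Finite L] (T : Sylow 2 L) {K : Subgroup L} [K.Normal]
    (h : Nat.card T ∣ Nat.card K) : (T : Subgroup L) ≤ K := by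
  have h1 : Nat.card (T : Subgroup L) = 2 ^ (Nat.card L).factorization 2 := T.card_eq_multiplicity
  have h2 : (Nat.card L).factorization 2 ≤ (Nat.card K).factorization 2 := by
    have h3 : 2 ^ (Nat.card L).factorization 2 ∣ Nat.card K := by rw [← h1]; exact h
    exact (Nat.prime_two.pow_dvd_iff_le_factorization Nat.card_pos.ne').1 h3
  have h3 : ¬ 2 ∣ K.index := by
    intro h4
    have h5 : (Nat.card L).factorization 2 = (Nat.card K).factorization 2 + K.index.factorization 2 := by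
      rw [← K.card_mul_index, Nat.factorization_mul Nat.card_pos.ne' K.index_ne_zero_of_finite]
      rfl
    have h6 : 0 < K.index.factorization 2 := Nat.prime_two.factorization_pos_of_dvd K.index_ne_zero_of_finite h4
    omega
  have h5 : ∀ x ∈ (T : Subgroup L), x ∈ K := by
    intro x hx
    have h6 : orderOf (QuotientGroup.mk' K x) ∣ K.index := by
      rw [Subgroup.index]
      exact orderOf_dvd_natCard _
    have h7 : ∃ k, orderOf (QuotientGroup.mk' K x) = 2 ^ k := by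
      obtain ⟨k, hk⟩ := T.2 ⟨x, hx⟩
      have hk' : x ^ 2 ^ k = 1 := congrArg Subtype.val hk
      have h8 : orderOf (QuotientGroup.mk' K x) ∣ 2 ^ k := by
        apply orderOf_dvd_of_pow_eq_one
        rw [← map_pow, hk', map_one]
      obtain ⟨j, -, hj⟩ := (Nat.dvd_prime_pow Nat.prime_two).1 h8
      exact ⟨j, hj⟩
    obtain ⟨k, hk⟩ := h7
    rcases Nat.eq_zero_or_pos k with rfl | hpos
    · rw [pow_zero, orderOf_eq_one_iff] at hk
      exact (QuotientGroup.eq_one_iff x).1 hk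
    · exfalso
      apply h3
      refine Dvd.dvd.trans ?_ h6
      rw [hk]
      exact dvd_pow_self 2 hpos.ne'
  exact h5

/-- **simplicity** (Tits), from `|S| ∣ |[G₀, G₀]|` -/
theorem simple_of {S : Sylow 2 G} {G₀ : Subgroup G} (hS : (S : Subgroup G) ≤ G₀) (Q : Cfsg.BNPair ↥G₀)
    (hB : Q.B = (S : Subgroup G).subgroupOf G₀) (hirr : Q.Irreducible)
    (hper : Nat.card (S : Subgroup G) ∣ Nat.card (commutator ↥G₀))
    (hloc : ∀ K ≤ (S : Subgroup G), G₀ ≤ normalizer (K : Set G) → K = ⊥)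
    (hne : (S : Subgroup G) ≠ ⊥) : IsSimpleGroup ↥G₀ := by
  have hcardS : Nat.card ((S : Subgroup G).subgroupOf G₀) = Nat.card (S : Subgroup G) :=
    Nat.card_congr (subgroupOfEquivOfLe hS).toEquiv
  have h2 : IsPGroup 2 ((S : Subgroup G).subgroupOf G₀) := S.2.comap_of_injective _ (Subgroup.subtype_injective _)
  obtain ⟨x, hx, hx1⟩ : ∃ x ∈ (S : Subgroup G), x ≠ 1 := by
    by_contra hcon
    push Not at hcon
    exact hne (eq_bot_iff.2 fun x hx => mem_bot.2 (hcon x hx))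
  have hnt : Nontrivial ↥G₀ := ⟨⟨⟨x, hS hx⟩, 1, fun h => hx1 (congrArg Subtype.val h)⟩⟩
  let T : Sylow 2 ↥G₀ := S.subtype hS
  have hT : (T : Subgroup ↥G₀) = (S : Subgroup G).subgroupOf G₀ := S.coe_subtype hS
  have hcomm : commutator ↥G₀ = ⊤ := by
    apply eq_top_of_normal Q
    rw [hB, ← hT]
    apply le_of_card_dvd T
    have : Nat.card (T : Subgroup ↥G₀) = Nat.card (S : Subgroup G) := by rw [hT]; exact hcardS
    rw [show Nat.card T = Nat.card (T : Subgroup ↥G₀) from rfl, this]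
    exact hper
  have hsol : Group.IsSolvable ↥Q.B := by
    rw [hB]
    have : Group.IsNilpotent ↥((S : Subgroup G).subgroupOf G₀) := h2.isNilpotent
    infer_instance
  have hcore : Q.B.normalCore = ⊥ := by
    have h3 : (Q.B.normalCore).map G₀.subtype = ⊥ := by
      apply hloc
      · rintro _ ⟨y, hy, rfl⟩
        have := Q.B.normalCore_le hy
        rw [hB] at this
        exact mem_subgroupOf.1 this
      · intro g hg
        have h4 : Q.B.normalCore.Normal := inferInstance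
        rw [Subgroup.mem_normalizer_iff]
        intro y
        constructor
        · rintro ⟨y', hy', rfl⟩
          exact ⟨⟨g, hg⟩ * y' * ⟨g, hg⟩⁻¹, h4.conj_mem _ hy' _, rfl⟩
        · rintro ⟨y', hy', he⟩
          refine ⟨⟨g, hg⟩⁻¹ * y' * ⟨g, hg⟩, ?_, ?_⟩
          · have := h4.conj_mem _ hy' (⟨g, hg⟩⁻¹)
            rwa [inv_inv] at this
          · change g⁻¹ * (y' : G) * g = y
            rw [show (y' : G) = g * y * g⁻¹ from he]
            group
    rw [eq_bot_iff]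
    intro y hy
    have h5 : (y : G) ∈ (Q.B.normalCore).map G₀.subtype := ⟨y, hy, rfl⟩
    rw [h3, mem_bot] at h5
    exact mem_bot.2 (Subtype.ext h5)
  exact Cfsg.Agent.S0319.result Q hirr hsol hcomm hcore

/-- **the interface `EndIn`** for `q = 2` -/
theorem endIn_of {S : Sylow 2 G} {G₀ R : Subgroup G} {r z : G} (hS : (S : Subgroup G) ≤ G₀) (Q : Cfsg.BNPair ↥G₀)
    (hB : Q.B = (S : Subgroup G).subgroupOf G₀) (h3 : 3 ≤ Q.rank) (hirr : Q.Irreducible)
    (hper : Nat.card (S : Subgroup G) ∣ Nat.card (commutator ↥G₀))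
    (hloc : ∀ K ≤ (S : Subgroup G), G₀ ≤ normalizer (K : Set G) → K = ⊥)
    (hR : ∀ x, x ∈ R ↔ x = 1 ∨ x = r) (r_ne : r ≠ 1) (r_S : r ∈ (S : Subgroup G))
    (S_r : (S : Subgroup G) ≤ centralizer {r}) (hr : centralizer {r} ≤ G₀)
    (z_S : z ∈ (S : Subgroup G)) (S_z : (S : Subgroup G) ≤ centralizer {z}) (z_ne : z ≠ 1)
    (hzr : ∃ x ∈ G₀, x ∈ centralizer {z} ∧ x ∉ centralizer {r})
    (hpar : ∃ s₀ : ↥G₀, ∀ s ∈ Q.S, s ≠ s₀ → (s : G) ∈ centralizer {r})
    (hW : ∃ W ≤ G₀, IsPGroup 2 W ∧ centralizer {r} ≤ normalizer (W : Set G) ∧ ¬ W ≤ centralizer (W : Set G)) :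
    EndIn (S : Subgroup G) G₀ (S : Subgroup G) R z := by
  have hNR : normalizer (R : Set G) = centralizer {r} := by
    have hrR : r ∈ R := (hR r).2 (Or.inr rfl)
    apply le_antisymm
    · intro x hx
      rw [mem_centralizer_singleton_iff]
      have h1 := (Subgroup.mem_normalizer_iff.1 hx r).1 hrR
      rcases (hR _).1 h1 with h2 | h2
      · exact absurd (conj_eq_one_iff.1 h2) r_ne
      · exact (mul_inv_eq_iff_eq_mul.1 h2)
    · intro x hx
      rw [mem_centralizer_singleton_iff] at hx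
      rw [Subgroup.mem_normalizer_iff]
      intro y
      rw [hR, hR]
      constructor
      · rintro (rfl | rfl)
        · exact Or.inl (by group)
        · exact Or.inr (by rw [hx]; group)
      · rintro (h | h)
        · exact Or.inl (conj_eq_one_iff.1 h)
        · right
          have : y = x⁻¹ * (x * y * x⁻¹) * x := by group
          rw [this, h, mul_assoc, ← hx]
          group
  have hRS : R ≤ (S : Subgroup G) := by
    intro x hx
    rcases (hR x).1 hx with rfl | rfl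
    · exact one_mem _
    · exact r_S
  have hRne : R ≠ ⊥ := by
    intro h
    have : r ∈ R := (hR r).2 (Or.inr rfl)
    rw [h, mem_bot] at this
    exact r_ne this
  have hsim : IsSimpleGroup ↥G₀ := by
    refine simple_of hS Q hB hirr hper hloc fun h => r_ne ?_
    rw [h, mem_bot] at r_S
    exact r_S
  have hnotle : ¬ G₀ ≤ centralizer {r} := by
    obtain ⟨x, hx, -, hxr⟩ := hzr
    exact fun h => hxr (h hx)
  refine {
    simple := hsim, bn := ⟨Q, hB.ge, h3, hirr⟩, cent := ?_, S_two := S.2,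
    S_G₀ := hS.trans le_normalizer, S_R := ?_, S_inf := inf_eq_left.2 hS, odd := ?_,
    N_R := ?_, R_U := hRS, U_R := ?_, R_ne := hRne, NU := ?_, R_lt := ?_, max := ?_, v_U := z_S,
    U_v := S_z, v_ne := z_ne, v_R := ?_, nonab := ?_ }
  · -- `C(G₀) = 1`
    have h1 : centralizer (G₀ : Set G) ≤ G₀ := by
      refine le_trans (centralizer_le ?_) hr
      rintro _ rfl
      exact hS r_S
    have h2 : Subgroup.center ↥G₀ = ⊥ := by
      rcases hsim.eq_bot_or_eq_top_of_normal (Subgroup.center ↥G₀) inferInstance with h | h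
      · exact h
      · exfalso
        apply hnotle
        intro x hx
        rw [mem_centralizer_singleton_iff]
        have h3 : (⟨x, hx⟩ : ↥G₀) ∈ Subgroup.center ↥G₀ := by rw [h]; trivial
        exact (congrArg Subtype.val (Subgroup.mem_center_iff.1 h3 ⟨r, hS r_S⟩)).symm
    rw [eq_bot_iff]
    intro x hx
    have h3 : (⟨x, h1 hx⟩ : ↥G₀) ∈ Subgroup.center ↥G₀ := by
      rw [Subgroup.mem_center_iff]
      intro y
      exact Subtype.ext (mem_centralizer_iff.1 hx y y.2)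
    rw [h2, mem_bot] at h3
    exact mem_bot.2 (congrArg Subtype.val h3)
  · rw [hNR]; exact S_r
  · -- odd
    have h1 : ¬ 2 ∣ (S : Subgroup G).index := S.not_dvd_index
    have h2 : (S : Subgroup G).relIndex G₀ ∣ (S : Subgroup G).index := relIndex_dvd_index_of_le hS
    rw [← Nat.not_even_iff_odd, even_iff_two_dvd]
    exact fun h => h1 (h.trans h2)
  · rw [hNR]; exact hr.trans le_normalizer
  · intro s hs
    rw [mem_centralizer_iff]
    intro x hx
    rcases (hR x).1 hx with rfl | rfl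
    · rw [one_mul, mul_one]
    · exact (mem_centralizer_singleton_iff.1 (S_r hs)).symm
  · -- `N_{G₀}(S) = S`
    rintro x ⟨hx, hxS⟩
    rw [hNR]
    apply S_r
    have h1 : (⟨x, hx⟩ : ↥G₀) ∈ normalizer (Q.B : Set ↥G₀) := by
      rw [hB]
      exact (mem_normalizer_subgroupOf hS).2 hxS
    rw [normalizer_B, hB] at h1
    exact mem_subgroupOf.1 h1
  · rw [hNR]; exact hnotle
  · -- maximality
    rintro M hM hlt
    rw [hNR] at hlt
    obtain ⟨s₀, hs⟩ := hpar
    have h1 : M.subgroupOf G₀ = ⊤ := by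
      refine eq_top_of_lt Q (H := (centralizer {r}).subgroupOf G₀) (s₀ := s₀) ?_ ?_ ?_
      · rw [hB]
        exact fun x hx => mem_subgroupOf.2 (S_r (mem_subgroupOf.1 hx))
      · exact fun s hs' hne => mem_subgroupOf.2 (hs s hs' hne)
      · refine lt_of_le_of_ne ?_ ?_
        · intro x hx
          exact mem_subgroupOf.2 (hlt.le ⟨x.2, mem_subgroupOf.1 hx⟩)
        · intro he
          obtain ⟨x, hx, hx1⟩ := SetLike.exists_of_lt hlt
          apply hx1
          have h2 : (⟨x, hM hx⟩ : ↥G₀) ∈ M.subgroupOf G₀ := mem_subgroupOf.2 hx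
          rw [← he] at h2
          exact ⟨hM hx, mem_subgroupOf.1 h2⟩
    exact le_antisymm hM (subgroupOf_eq_top.1 h1)
  · rw [hNR]
    obtain ⟨x, hx, hxz, hxr⟩ := hzr
    exact fun h => hxr (h ⟨hx, hxz⟩)
  · rw [hNR]
    obtain ⟨W, hW, h1, h2, h4⟩ := hW
    exact ⟨W, hW, h1, inf_le_right.trans h2, h4⟩

/-! ### over `Pos` -/

section pos

open Cfsg.Agent.ZN Cfsg.Agent.Omega.MinPar Cfsg.Agent.Omega.BTwo Cfsg.Agent.Omega.HOneTwo
open Cfsg.Agent.Omega.HTwo.Entry (Pos)
open Cfsg.Agent.Omega.HTwo.AlphaP (MP)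
open Cfsg.Agent.Omega.HOneTwo.Trans (gn gen)
open Cfsg.Agent.Omega.HOne.Cut (Ends TSz)

universe u

variable {G : Type u} [Group G] [Finite G] {S : Sylow 2 G} {P V : Subgroup G} {ι : Type*} {R : ι → Subgroup G}
  {o : ι} {r z : G}

/-- `N(V) ≤ G₀` -/
theorem NV_le (p : Pos S P V R o r z) {G₀ : Subgroup G} (hr : centralizer {r} ≤ G₀) (hX : XX V R ≤ G₀) :
    normalizer (V : Set G) ≤ G₀ := by
  intro g hg
  obtain ⟨j, hj⟩ := p.perm g hg o
  obtain ⟨x, hx, hxj⟩ := p.toBT.trans_X_one o j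
  have h1 : x⁻¹ * g ∈ normalizer (R o : Set G) := by
    rw [← cj_eq_self_iff, cj_mul, hj, ← hxj, cj_inv_cj]
  rw [p.normalizer_eq] at h1
  have h2 : g = x * (x⁻¹ * g) := by group
  rw [h2]
  exact mul_mem (hX hx) (hr h1)

theorem S_le_cen (p : Pos S P V R o r z) : (S : Subgroup G) ≤ centralizer {r} := by
  rw [← p.normalizer_eq]; exact p.S_R

/-- **the end of the chains for `q = 2`** -/
theorem ends_of (p : Pos S P V R o r z) {G₀ : Subgroup G} (Q : Cfsg.BNPair ↥G₀)
    (hB : Q.B = (S : Subgroup G).subgroupOf G₀) (h3 : 3 ≤ Q.rank) (hirr : Q.Irreducible)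
    (hper : Nat.card (S : Subgroup G) ∣ Nat.card (⁅G₀, G₀⁆ : Subgroup G))
    (hr : centralizer {r} ≤ G₀) (hX : XX V R ≤ G₀)
    (hpar : ∃ s₀ : ↥G₀, ∀ s ∈ Q.S, s ≠ s₀ → (s : G) ∈ centralizer {r}) :
    Ends (S : Subgroup G) V (R o) := by
  have hS : (S : Subgroup G) ≤ G₀ := (S_le_cen p).trans hr
  have hz : z ∈ zc (S : Subgroup G) := p.z_mem.1
  have hz' := mem_zc.1 hz
  have hNV := NV_le p hr hX
  refine ⟨G₀, (S : Subgroup G), z, ?_, p.toHT.V_le_S.trans hS, hNV.trans le_normalizer⟩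
  refine endIn_of hS Q hB h3 hirr ?_ ?_ p.r_iff p.r_ne ?_ (S_le_cen p) hr ?_ ?_ p.z_ne ?_ hpar ?_
  · have h1 := Subgroup.map_subtype_commutator G₀
    have h2 : Nat.card (commutator ↥G₀) = Nat.card (⁅G₀, G₀⁆ : Subgroup G) := by
      rw [← h1]
      exact (Nat.card_congr ((commutator ↥G₀).equivMapOfInjective _ (Subgroup.subtype_injective _)).toEquiv)
    rw [h2]; exact hper
  · intro K hK hG
    refine p.toHT.nonloc_o (A := XX V R) (fun i => p.toBT.trans_X_one o i) (S.2.to_le hK) (hX.trans hG) ?_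
    rw [p.normalizer_eq]
    exact hr.trans hG
  · exact p.toHT.V_le_S (p.R_le o p.r_mem)
  · exact hz'.1
  · intro s hs
    rw [mem_centralizer_singleton_iff]
    exact hz'.2.1 s hs
  · -- some element of `X` moves `r`
    obtain ⟨j, k, hj, -, -⟩ := p.toHT.one_lt
    obtain ⟨x, hx, hxj⟩ := p.toBT.trans_X_one o j
    refine ⟨x, hX hx, p.X_le hx, fun hxr => hj ?_⟩
    rw [← p.normalizer_eq, ← cj_eq_self_iff, hxj] at hxr
    exact p.toBT.R_index hxr
  · refine ⟨QQ (R o), ?_, ?_, ?_, ?_⟩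
    · exact p.toHT.Q_le_S.trans hS
    · exact S.2.to_le p.toHT.Q_le_S
    · rw [← p.normalizer_eq]
      exact le_normalizer_O2 _
    · intro h
      obtain ⟨t, ht, v, hv, hne⟩ := HTwo.AlphaFive.exists_mv p.toHT p.r_iff
      exact hne (mem_centralizer_iff.1 (h (p.V_Q o hv)) t ht)

/-! ### elements of `[G₀, G₀]` -/

/-- `[G₀, G₀]` is normalised by `G₀` -/
theorem comm_conj {G₀ : Subgroup G} {x g : G} (hg : g ∈ G₀) (hx : x ∈ (⁅G₀, G₀⁆ : Subgroup G)) :
    g * x * g⁻¹ ∈ (⁅G₀, G₀⁆ : Subgroup G) := by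
  have h1 : g * x * g⁻¹ * x⁻¹ ∈ (⁅G₀, G₀⁆ : Subgroup G) :=
    Subgroup.commutator_mem_commutator hg (Subgroup.commutator_le_self G₀ hx)
  have h2 := mul_mem h1 hx
  rwa [inv_mul_cancel_right] at h2

/-- `r ∈ [G₀, G₀]` -/
theorem r_mem_comm (p : Pos S P V R o r z) {G₀ : Subgroup G} (hX : XX V R ≤ G₀) (hV : V ≤ G₀) :
    r ∈ (⁅G₀, G₀⁆ : Subgroup G) := by
  obtain ⟨j, k, hj, -, -⟩ := p.toHT.one_lt
  obtain ⟨x, hx, hxj⟩ := p.toBT.trans_X_one o j
  have hrV : r ∈ V := p.R_le o p.r_mem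
  have h1 : x * r * x⁻¹ * r⁻¹ ∈ (⁅G₀, G₀⁆ : Subgroup G) :=
    Subgroup.commutator_mem_commutator (hX hx) (hV hrV)
  have h2 : x * r * x⁻¹ ∈ R j := by
    rw [← hxj]
    exact conj_mem_cj p.r_mem
  have h3 : x * r * x⁻¹ * r⁻¹ ∈ V := mul_mem (p.R_le j h2) (inv_mem hrV)
  have h4 : x * r * x⁻¹ * r⁻¹ ≠ 1 := by
    intro h
    have h5 : x * r * x⁻¹ = r := mul_inv_eq_one.1 h
    have h6 : r ∈ R j ⊓ R o := ⟨h5 ▸ h2, p.r_mem⟩
    rw [p.R_inf j o hj, mem_bot] at h6
    exact p.r_ne h6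
  obtain ⟨i, hi⟩ := p.R_cov _ h3
  obtain ⟨y, hy, hyo⟩ := p.toBT.trans_X_one i o
  have h5 : y * (x * r * x⁻¹ * r⁻¹) * y⁻¹ ∈ R o := by
    rw [← hyo]
    exact conj_mem_cj hi
  have h6 := comm_conj (hX hy) h1
  rcases (p.r_iff _).1 h5 with h | h
  · exact absurd (conj_eq_one_iff.1 h) h4
  · rwa [h] at h6

/-- `z ∈ [G₀, G₀]` -/
theorem z_mem_comm (p : Pos S P V R o r z) (t : TSz V R o r z) {G₀ : Subgroup G} (hr : centralizer {r} ≤ G₀)
    (hX : XX V R ≤ G₀) : z ∈ (⁅G₀, G₀⁆ : Subgroup G) := by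
  have hS : (S : Subgroup G) ≤ G₀ := (S_le_cen p).trans hr
  have hV : V ≤ G₀ := p.toHT.V_le_S.trans hS
  have hrG : r ∈ G₀ := hV (p.R_le o p.r_mem)
  have hzG : z ∈ G₀ := hS (mem_zc.1 p.z_mem.1).1
  have hM : MP V R o z ≤ G₀ := by
    refine sup_le (inf_le_left.trans ?_) hX
    rw [p.normalizer_eq]
    exact hr
  have hgn : gn (MP V R o z) r ≤ G₀ := by
    refine (closure_le _).2 ?_
    rintro _ ⟨m, hm, rfl⟩
    exact mul_mem (mul_mem (hM hm) hrG) (inv_mem (hM hm))
  have hgen : gen r z ≤ G₀ := by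
    refine (closure_le _).2 ?_
    rintro _ ⟨m, hm, rfl⟩
    have : m ∈ G₀ := hr (mem_centralizer_singleton_iff.2 hm)
    exact mul_mem (mul_mem this hzG) (inv_mem this)
  obtain ⟨u, hu, n, hn, hne⟩ := t.ne
  have h1 : n * u * n⁻¹ * u⁻¹ ∈ (⁅G₀, G₀⁆ : Subgroup G) :=
    Subgroup.commutator_mem_commutator (hgen hn) (hgn hu)
  rcases t.act u hu n hn with h | h
  · exact absurd h hne
  · have e : n * u * n⁻¹ * u⁻¹ = z * r := by
      rw [h]; group
    rw [e] at h1
    have h2 := mul_mem h1 (inv_mem (r_mem_comm p hX hV))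
    rwa [mul_inv_cancel_right] at h2

/-- `⟨z^{C(r)}⟩ ≤ [G₀, G₀]` -/
theorem gen_le_comm (p : Pos S P V R o r z) (t : TSz V R o r z) {G₀ : Subgroup G} (hr : centralizer {r} ≤ G₀)
    (hX : XX V R ≤ G₀) : gen r z ≤ (⁅G₀, G₀⁆ : Subgroup G) := by
  refine (closure_le _).2 ?_
  rintro _ ⟨m, hm, rfl⟩
  exact comm_conj (hr (mem_centralizer_singleton_iff.2 hm)) (z_mem_comm p t hr hX)

/-- `⟨r^M⟩ ≤ [G₀, G₀]` -/
theorem gn_le_comm (p : Pos S P V R o r z) {G₀ : Subgroup G} (hr : centralizer {r} ≤ G₀)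
    (hX : XX V R ≤ G₀) : gn (MP V R o z) r ≤ (⁅G₀, G₀⁆ : Subgroup G) := by
  have hS : (S : Subgroup G) ≤ G₀ := (S_le_cen p).trans hr
  have hM : MP V R o z ≤ G₀ := by
    refine sup_le (inf_le_left.trans ?_) hX
    rw [p.normalizer_eq]
    exact hr
  refine (closure_le _).2 ?_
  rintro _ ⟨m, hm, rfl⟩
  exact comm_conj (hM hm) (r_mem_comm p hX (p.toHT.V_le_S.trans hS))

end pos

end Cfsg.Agent.Omega.HOneEnd.OfTwo
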