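import Cfsg.Agent.S0319
import Cfsg.Agent.TitsThree.CharBase

/-!
# LeafH1, END: the index of `B` in a minimal parabolic subgroup (helper368)

`relIndex_parabolic` : `|P_s : B| = 1 + |B : B ∩ sBs⁻¹|`.
-/

set_option autoImplicit false

namespace Cfsg.Agent.Omega.HOneEnd.Parity

open Cfsg.Agent.TitsThree.CharBase (relIndex_eq_orbit relIndex_ne_one)

theorem relIndex_parabolic {G : Type*} [Group G] [Finite G] (P : Cfsg.BNPair G) {s : G} (hs : s ∈ P.S) :
    P.B.relIndex (P.parabolic {s}) = 1 + (P.B.map (MulAut.conj s).toMonoidHom).relIndex P.B := by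
  have hBs : ∀ b ∈ P.B, b ∈ P.parabolic {s} := fun b hb =>
    (le_sup_left : P.B ≤ P.B ⊔ Subgroup.closure {s}) hb
  have hss : s ∈ P.parabolic {s} :=
    (le_sup_right : Subgroup.closure {s} ≤ P.B ⊔ Subgroup.closure {s}) (Subgroup.subset_closure rfl)
  rw [relIndex_eq_orbit]
  have h1 : MulAction.stabilizer (P.parabolic {s}) (QuotientGroup.mk 1 : G ⧸ P.B) =
      P.B.subgroupOf (P.parabolic {s}) := by
    ext ⟨g, hg⟩
    rw [MulAction.mem_stabilizer_iff, Subgroup.mem_subgroupOf]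
    change (QuotientGroup.mk (g * 1) : G ⧸ P.B) = QuotientGroup.mk 1 ↔ _
    rw [eq_comm, QuotientGroup.eq]
    simp
  have h2 : P.B.relIndex (P.parabolic {s}) =
      (MulAction.orbit (P.parabolic {s}) (QuotientGroup.mk 1 : G ⧸ P.B)).ncard := by
    rw [← MulAction.index_stabilizer, h1]
    rfl
  have h3 : MulAction.orbit (P.parabolic {s}) (QuotientGroup.mk 1 : G ⧸ P.B) =
      insert (QuotientGroup.mk 1) (MulAction.orbit P.B (QuotientGroup.mk s : G ⧸ P.B)) := by
    ext y
    constructor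
    · rintro ⟨⟨g, hg⟩, rfl⟩
      change (QuotientGroup.mk (g * 1) : G ⧸ P.B) ∈ _
      rw [mul_one]
      rcases Cfsg.Agent.S0319.mem_parabolic_singleton P hs hg with h | ⟨a, ha, b, hb, rfl⟩
      · left
        rw [QuotientGroup.eq]
        simpa using h
      · right
        refine ⟨⟨a, ha⟩, ?_⟩
        change (QuotientGroup.mk (a * s) : G ⧸ P.B) = QuotientGroup.mk (a * s * b)
        rw [QuotientGroup.eq]
        simpa [mul_assoc] using hb
    · rintro (rfl | ⟨⟨b, hb⟩, rfl⟩)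
      · exact MulAction.mem_orbit_self _
      · refine ⟨⟨b * s, mul_mem (hBs b hb) hss⟩, ?_⟩
        change (QuotientGroup.mk (b * s * 1) : G ⧸ P.B) = QuotientGroup.mk (b * s)
        rw [mul_one]
  rw [h2, h3, Set.ncard_insert_of_notMem _ (Set.toFinite _), add_comm]
  rintro ⟨⟨b, hb⟩, h⟩
  change (QuotientGroup.mk (b * s) : G ⧸ P.B) = QuotientGroup.mk 1 at h
  rw [eq_comm, QuotientGroup.eq] at h
  have hsB : s ∈ P.B := by
    have h4 := mul_mem (inv_mem hb) h
    simpa using h4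
  apply relIndex_ne_one P hs
  rw [Subgroup.relIndex_eq_one]
  intro x hx
  refine ⟨s⁻¹ * x * s, mul_mem (mul_mem (inv_mem hsB) hx) hsB, ?_⟩
  show s * (s⁻¹ * x * s) * s⁻¹ = x
  group

/-- `|P_s : B|` is even in odd characteristic. -/
theorem two_of_odd {G : Type*} [Group G] [Finite G] (P : Cfsg.BNPair G) {s : G} (hs : s ∈ P.S) {U : Subgroup G}
    (hU : U ≤ P.B) (hodd : Odd U.index) {p a : ℕ} (hp : p.Prime)
    (ha : (P.B.map (MulAut.conj s).toMonoidHom).relIndex P.B = p ^ a) : p = 2 := by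
  have h1 := relIndex_parabolic P hs
  rw [ha] at h1
  have hBs : P.B ≤ P.parabolic {s} := le_sup_left
  have h2 : Odd (1 + p ^ a) := by
    rw [← h1]
    refine Odd.of_dvd_nat hodd ?_
    refine dvd_trans ?_ (Subgroup.index_dvd_of_le hU)
    exact ⟨_, (Subgroup.relIndex_mul_index hBs).symm⟩
  rcases hp.eq_two_or_odd' with h | h
  · exact h
  · have h3 : Even (1 + p ^ a) := odd_one.add_odd h.pow
    exact absurd h3 (Nat.not_even_iff_odd.2 h2)

end Cfsg.Agent.Omega.HOneEnd.Parity
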