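import Cfsg.Agent.Omega.HOneEnd.Split
import Cfsg.Agent.Omega.HOne.EndBN
import Cfsg.Agent.Tits.OfBN
import Cfsg.Agent.S0026
import Cfsg.Agent.S0320

/-!
# `U ≤ G'` for a parabolic system with tori and trivial core

* `le_commutator` : `Q` a (B,N)-pair of `G` with `B = U (B ∩ N)`, `U` the normal Sylow `p`-subgroup of `B`, `reg`, `fix`,
  no element of `U` acts trivially on `G / B` ⟹ `U ≤ ⁅U, B⁆`;
* `Pre.le_commutator` : for `Pre p B U P m` with `⨆ P i = G`.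
-/

set_option autoImplicit false
set_option linter.unusedSectionVars false

namespace Cfsg.Agent.Omega.HOneEnd.Perf

open Subgroup Cfsg Cfsg.Agent.ParSys Cfsg.Agent.Omega.Lie.End
open Cfsg.Agent.Tits.Core Cfsg.Agent.Tits.Exchange Cfsg.Agent.LieExceptional.BNPairCore

/-- the structure `HallData` from a complement -/
theorem hallData {G : Type*} [Group G] [Finite G] {p : ℕ} [hp : Fact p.Prime] {B U H : Subgroup G} (U_le : U ≤ B)
    (norm : B ≤ normalizer (U : Set G)) (isP : IsPGroup p U) (index : p.Coprime (U.relIndex B)) (H_le : H ≤ B)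
    (H_cop : p.Coprime (Nat.card H)) (hsup : U ⊔ H = B) : Hall.HallData p B U H where
  U_le := U_le
  H_le := H_le
  U_norm := norm
  U_pgroup := isP
  H_cop := H_cop
  UH_norm := by rw [hsup]; exact Subgroup.le_normalizer
  index := ⟨0, by rw [hsup, Subgroup.relIndex_self, pow_zero]⟩
  core := by
    intro T hTB hT _ x hx
    obtain ⟨a, ha⟩ := hT ⟨x, hx⟩
    obtain ⟨k, hk, hxk⟩ := exists_pow_of_index norm index (hTB hx)
    have ha' : x ^ p ^ a = 1 := by simpa using congrArg Subtype.val ha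
    exact Hall.mem_of_pow_mem_of_coprime (a := p ^ a) (b := k) (by rw [ha']; exact one_mem _) hxk
      (hk.pow_left a)

theorem le_commutator {G : Type*} [Group G] [Finite G] {p : ℕ} [hp : Fact p.Prime] (Q : BNPair G) {U : Subgroup G}
    (hUB : U ≤ Q.B) (hUp : IsPGroup p U) (hUn : Q.B ≤ normalizer (U : Set G)) (hidx : p.Coprime (U.relIndex Q.B))
    (hBN : ∀ b ∈ Q.B, ∃ u ∈ U, ∃ t ∈ Q.B ⊓ Q.N, b = u * t)
    (reg : ∀ t ∈ Q.S, ∀ u ∈ U, ∀ g ∈ C Q t, g⁻¹ * u * g ∈ Q.B → ∀ g' ∈ C Q t, g'⁻¹ * u * g' ∈ Q.B)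
    (fpf : ∀ H : Subgroup G, Hall.HallData p Q.B U H → ∀ t ∈ Q.S, ∀ u ∈ U, u ∈ centralizer (H : Set G) →
      ∀ g ∈ C Q t, g⁻¹ * u * g ∈ Q.B)
    (core : ∀ u ∈ U, (∀ g : G, g⁻¹ * u * g ∈ Q.B) → u = 1) : U ≤ ⁅U, Q.B⁆ := by
  have hN := Cfsg.Agent.Tits.OfBN.normal_subgroupOf Q
  obtain ⟨M, cs, hcs⟩ := Cfsg.Agent.S0320.result Q (hN := hN)
  have hW : Finite (Cfsg.Agent.Tits.OfBN.WP Q) := inferInstance
  let Δ := Cfsg.Agent.Tits.OfBN.bldg Q (Equiv.refl Q.S) cs hcs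
  let c : G ⧸ Q.B := QuotientGroup.mk 1
  have iso : ∀ (g : G) (x y : G ⧸ Q.B), Δ.δ (g • x) (g • y) = Δ.δ x y := fun g x y =>
    Cfsg.Agent.Tits.OfBN.dist_smul Q g x y
  have trans : ∀ x y x' y' : G ⧸ Q.B, Δ.δ x y = Δ.δ x' y' → ∃ g : G, g • x = x' ∧ g • y = y' := fun x y x' y' h =>
    Cfsg.Agent.Tits.OfBN.trans Q x y x' y' h
  obtain ⟨⟨n₀, hn₀⟩, hw⟩ := QuotientGroup.mk_surjective (w0 cs)
  let d : G ⧸ Q.B := QuotientGroup.mk n₀
  have hcd : Δ.Opp c d := by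
    show Cfsg.Agent.Tits.OfBN.dist Q _ _ = w0 cs
    rw [Cfsg.Agent.Tits.OfBN.dist_mk, inv_one, one_mul, ← hw]
    exact Cfsg.Agent.Tits.OfBN.wt_of_mem Q (self_mem_C _)
  have hfix : ∀ g x : G, g • (QuotientGroup.mk x : G ⧸ Q.B) = QuotientGroup.mk x ↔ x⁻¹ * g * x ∈ Q.B := by
    intro g x
    have e : g • (QuotientGroup.mk x : G ⧸ Q.B) = QuotientGroup.mk (g * x) := rfl
    rw [e, eq_comm, QuotientGroup.eq, ← mul_assoc]
  have hfc : ∀ g : G, g • c = c ↔ g ∈ Q.B := by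
    intro g
    have := hfix g 1
    rwa [inv_one, one_mul, mul_one] at this
  have hUm : ∀ g : G, g • c = c → (∃ k : ℕ, g ^ p ^ k = 1) → g ∈ U := by
    rintro g hg ⟨a, ha⟩
    obtain ⟨k, hk, hxk⟩ := exists_pow_of_index hUn hidx ((hfc g).1 hg)
    exact Hall.mem_of_pow_mem_of_coprime (a := p ^ a) (b := k) (by rw [ha]; exact one_mem _) hxk (hk.pow_left a)
  have hδ : ∀ (i : Q.S) (x : G), Δ.δ c (QuotientGroup.mk x) = cs.simple i → x ∈ C Q (i : G) := by
    intro i x h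
    have h1 : Cfsg.Agent.Tits.OfBN.dist Q (QuotientGroup.mk 1) (QuotientGroup.mk x) = cs.simple i := h
    rw [Cfsg.Agent.Tits.OfBN.dist_mk, inv_one, one_mul, hcs] at h1
    exact Cfsg.Agent.Tits.OfBN.mem_C_of_wt Q h1
  have hreg : ∀ (i : Q.S) (u : G), u ∈ U → ∀ x : G ⧸ Q.B, Δ.δ c x = cs.simple i → u • x = x → ∀ y : G ⧸ Q.B,
      Δ.δ c y = cs.simple i → u • y = y := by
    intro i u hu x hx hux y hy
    induction x using QuotientGroup.induction_on with
    | _ x =>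
    induction y using QuotientGroup.induction_on with
    | _ y =>
    exact (hfix _ _).2 (reg i i.2 u hu x (hδ i x hx) ((hfix _ _).1 hux) y (hδ i y hy))
  -- the torus
  let T : Subgroup G := Q.B ⊓ MulAction.stabilizer G d
  have hcore : ∀ u ∈ U, (∀ x : G ⧸ Q.B, u • x = x) → u = 1 := fun u hu h =>
    core u hu fun g => (hfix u g).1 (h _)
  have hUT : ∀ u ∈ U, u • d = d → u = 1 := fun u hu hud =>
    hcore u hu (Split.dg_fix Δ hcd iso (fun u hu => (hfc u).2 (hUB hu)) hUp hUm hreg trans hu hud)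
  have hTc : p.Coprime (Nat.card T) := by
    rw [hp.1.coprime_iff_not_dvd]
    intro hdvd
    obtain ⟨⟨t, ht⟩, ht1⟩ := exists_prime_orderOf_dvd_card' (G := T) p hdvd
    have h2 : t ^ p = 1 := by
      have := pow_orderOf_eq_one (⟨t, ht⟩ : T)
      rw [ht1] at this
      exact congrArg Subtype.val this
    have h3 : t ∈ U := hUm t ((hfc t).2 ht.1) ⟨1, by rw [pow_one]; exact h2⟩
    have h4 : t = 1 := hUT t h3 ht.2
    have h5 : (⟨t, ht⟩ : T) = 1 := Subtype.ext h4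
    rw [h5, orderOf_one] at ht1
    exact hp.1.one_lt.ne ht1
  have hsup : U ⊔ T = Q.B := by
    refine le_antisymm (sup_le hUB inf_le_left) fun b hb => ?_
    obtain ⟨u, hu, t, ht, rfl⟩ := hBN b hb
    refine mul_mem (mem_sup_left hu) (mem_sup_right ⟨ht.1, (hfix t n₀).2 ?_⟩)
    have := Q.conj_mem n₀⁻¹ (inv_mem hn₀) t ht
    rwa [inv_inv] at this
  have hH := hallData hUB hUn hUp hidx inf_le_left hTc hsup
  have hcen : ∀ u ∈ U, u ∈ centralizer (T : Set G) → u = 1 := by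
    intro u hu huT
    refine Split.cen_eq_one Δ hcd iso (fun u hu => (hfc u).2 (hUB hu)) hUp hUm hreg trans hcore ?_ hu ?_
    · intro v hv hvT i x hx
      induction x using QuotientGroup.induction_on with
      | _ x =>
      refine (hfix _ _).2 (fpf T hH i i.2 v hv ?_ x (hδ i x hx))
      rw [mem_centralizer_iff]
      intro t ht
      exact hvT t ((hfc t).2 ht.1) ht.2
    · intro t ht1 ht2
      exact mem_centralizer_iff.1 huT t ⟨(hfc t).1 ht1, ht2⟩
  have hsolv : Group.IsSolvable U := by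
    have := hUp.isNilpotent
    infer_instance
  have hcop : (Nat.card T).Coprime (Nat.card U) := by
    obtain ⟨k, hk⟩ := (IsPGroup.iff_card (p := p)).1 hUp
    rw [hk]
    exact (hTc.pow_left k).symm
  have h1 := Cfsg.Agent.S0026.result T U (inf_le_left.trans hUn) hcop (Or.inr hsolv)
  have h2 : U ⊓ centralizer (T : Set G) = ⊥ := by
    rw [eq_bot_iff]
    intro u hu
    exact mem_bot.2 (hcen u hu.1 hu.2)
  rw [h2, sup_bot_eq] at h1
  calc U = ⁅U, T⁆ := h1.symm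
    _ ≤ ⁅U, Q.B⁆ := commutator_mono le_rfl inf_le_left

section pre

variable {G : Type*} [Group G] {I : Type*} {p : ℕ} {B U : Subgroup G} {P : I → Subgroup G} {m : I → I → ℕ}

/-- **`U ≤ ⁅U, B⁆`** -/
theorem pre_le_commutator [Finite G] [hp : Fact p.Prime] (D : Pre p B U P m) (Q : BNPair G) (n : I → G)
    (hQB : Q.B = B) (hQS : Q.S = Set.range n) (hn : ∀ i, n i ∈ P i ∧ n i ∉ B)
    (hBN : ∀ b ∈ Q.B, ∃ u ∈ U, ∃ t ∈ Q.B ⊓ Q.N, b = u * t)
    (core : ∀ u ∈ U, (∀ g : G, g⁻¹ * u * g ∈ B) → u = 1) : U ≤ ⁅U, B⁆ := by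
  subst hQB
  have hC : ∀ i, ∀ g ∈ C Q (n i), g ∈ P i ∧ g ∉ Q.B := by
    intro i g hg
    obtain ⟨x, hx, y, hy, rfl⟩ := mem_C.1 hg
    refine ⟨mul_mem (mul_mem (D.le i hx) (hn i).1) (D.le i hy), fun h => (hn i).2 ?_⟩
    have h1 := mul_mem (mul_mem (inv_mem hx) h) (inv_mem hy)
    have e : x⁻¹ * (x * n i * y) * y⁻¹ = n i := by group
    rwa [e] at h1
  refine le_commutator Q D.U_le D.isP D.norm D.index hBN ?_ ?_ core
  · intro t ht u hu g hg hug g' hg'
    rw [hQS] at ht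
    obtain ⟨i, rfl⟩ := ht
    exact D.reg i u hu g (hC i g hg).1 (hC i g hg).2 hug g' (hC i g' hg').1
  · intro H hH t ht u hu huH g hg
    rw [hQS] at ht
    obtain ⟨i, rfl⟩ := ht
    exact fix_of_fpfG hH (D.le i) (D.fpf i) u hu huH g (hC i g hg).1

/-- **`U ≤ ⁅U, B⁆`** for a subgroup `X = ⟨P i⟩` -/
theorem pre_le_commutator' [Finite G] [Finite I] [hp : Fact p.Prime] (D : Pre p B U P m) (h3 : 3 ≤ Nat.card I)
    (conn : ∀ J : Set I, J.Nonempty → Jᶜ.Nonempty → ∃ i ∈ J, ∃ j ∈ Jᶜ, 3 ≤ m i j)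
    (core : ∀ u ∈ U, (∀ g ∈ ⨆ i, P i, g⁻¹ * u * g ∈ B) → u = 1) : U ≤ ⁅U, B⁆ := by
  have hne : Nonempty I := by
    by_contra h
    rw [not_nonempty_iff] at h
    rw [Nat.card_of_isEmpty] at h3
    omega
  obtain ⟨i₀⟩ := hne
  obtain ⟨X, hX⟩ : ∃ X, X = ⨆ i, P i := ⟨_, rfl⟩
  have hP : ∀ i, P i ≤ X.subtype.range := fun i => by
    rw [range_subtype, hX]
    exact le_iSup P i
  have D' := D.comap (φ := X.subtype) (by
      rw [ker_subtype]
      exact IsPGroup.of_bot) ((D.le i₀).trans (hP i₀)) hP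
  have gen : ⨆ i, (P i).comap X.subtype = ⊤ := by
    have e : (⨆ i, (P i).comap X.subtype).map X.subtype = (⊤ : Subgroup ↥X).map X.subtype := by
      rw [Subgroup.map_iSup, ← MonoidHom.range_eq_map, range_subtype, hX]
      exact iSup_congr fun i => map_comap_eq_self (hX ▸ hP i)
    exact map_injective (subtype_injective _) e
  obtain ⟨Q, n, h1, h2, h4, h5, -, -⟩ := Cfsg.Agent.Omega.HOne.EndBN.exists_bn_top D' gen h3 conn
  have h6 := pre_le_commutator D' Q n h1 h2 h4 h5 (by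
    intro u hu h
    apply Subtype.ext
    refine core (u : G) hu fun g hg => ?_
    rw [← hX] at hg
    exact h ⟨g, hg⟩)
  have h7 := Subgroup.map_mono (f := X.subtype) h6
  have hBX : B ≤ X := by
    have := (D.le i₀).trans (hP i₀)
    rwa [range_subtype] at this
  have hUX : U ≤ X := D.U_le.trans hBX
  rw [Subgroup.map_commutator, map_comap_eq_self (by rw [range_subtype]; exact hUX),
    map_comap_eq_self (by rw [range_subtype]; exact hBX)] at h7
  exact h7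

end pre

end Cfsg.Agent.Omega.HOneEnd.Perf
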