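import Cfsg.Agent.ParSys.WeylBN

/-!
# Split (B,N)-pairs (Fong–Seitz): `U ∩ U ^ w₀` acts trivially

`G` acts Weyl-transitively on a spherical building `Δ`, `c`, `d` opposite chambers, `U` = the set of the `p`-elements
fixing `c` (a subgroup); an element of `U` fixing two chambers `≠` of the panel of `c` fixes the panel (`reg`).

* `dg_fix` : an element of `U` fixing `d` fixes all chambers;
* `cen_eq_one` : if moreover the elements of `U` centralised by the fixator of `c`, `d` act trivially on the panels of `c`,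
  then no element `≠ 1` of `U` is centralised by the fixator of `c`, `d`.
-/

set_option autoImplicit false

namespace Cfsg.Agent.Omega.HOneEnd.Split

open CoxeterSystem List Cfsg.Agent.Tits.Core Cfsg.Agent.Tits.Exchange Cfsg.Agent.Tits.Opp Cfsg.Agent.ParSys.WeylBN

variable {I W : Type*} [Group W] {M : CoxeterMatrix I} {cs : CoxeterSystem M W} {C : Type*}

local prefix:100 "s" => cs.simple
local prefix:100 "π" => cs.wordProd
local prefix:100 "ℓ" => cs.length

variable (Δ : Bldg cs C) [Finite W] {c d : C} (hcd : Δ.Opp c d) {G : Type*} [Group G] [MulAction G C]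
  (iso : ∀ (g : G) x y, Δ.δ (g • x) (g • y) = Δ.δ x y)

section fix

include iso

theorem fix_ap {g : G} (hc : g • c = c) (hd : g • d = d) (w : W) : g • ap Δ hcd w = ap Δ hcd w := by
  refine eq_ap Δ hcd ?_ ?_
  · have h := iso g c (ap Δ hcd w)
    rw [hc, δ_ap] at h
    exact h
  · have h := iso g d (ap Δ hcd w)
    rw [hd, δ_ap'] at h
    exact h

theorem opp_ap (v : W) : Δ.Opp (ap Δ hcd v) (ap Δ hcd (v * w0 cs)) := by
  show Δ.δ _ _ = w0 cs
  rw [δ_ap_ap]

/-- an element fixing two opposite chambers of the apartment fixes the apartment -/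
theorem fix_ap' {g : G} (v : W) (hc : g • ap Δ hcd v = ap Δ hcd v)
    (hd : g • ap Δ hcd (v * w0 cs) = ap Δ hcd (v * w0 cs)) (w : W) : g • ap Δ hcd w = ap Δ hcd w := by
  have h1 : ap Δ hcd w = ap Δ (opp_ap Δ hcd iso v) (v⁻¹ * w) := by
    refine eq_ap Δ (opp_ap Δ hcd iso v) (δ_ap_ap' Δ hcd v w) ?_
    rw [δ_ap_ap', mul_inv_rev, (isLongest_w0 cs).inv_eq, mul_assoc]
  rw [h1]
  exact fix_ap Δ (opp_ap Δ hcd iso v) iso hc hd _

end fix

variable {p : ℕ} {U : Subgroup G}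

/-- the elements of `U` fixing `d` -/
def Dg (U : Subgroup G) (d : C) : Subgroup G := U ⊓ MulAction.stabilizer G d

variable (hUc : ∀ u ∈ U, u • c = c) (hUp : IsPGroup p U) (hUm : ∀ g : G, g • c = c → (∃ k : ℕ, g ^ p ^ k = 1) → g ∈ U)

include iso hUc hUp hUm

omit [Finite W] in
theorem conj_mem_U {u : G} (hu : u ∈ U) {g : G} (h : (g * u * g⁻¹) • c = c) : g * u * g⁻¹ ∈ U := by
  refine hUm _ h ?_
  obtain ⟨k, hk⟩ := hUp ⟨u, hu⟩
  refine ⟨k, ?_⟩
  have hk' : u ^ p ^ k = 1 := by simpa using congrArg Subtype.val hk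
  rw [conj_pow, hk', mul_one, mul_inv_cancel]

/-- The stabiliser of the apartment normalises `Dg`. -/
theorem conj_mem_Dg {n : G} (hn : n ∈ NN Δ hcd (G := G)) {u : G} (hu : u ∈ Dg U d) : n * u * n⁻¹ ∈ Dg U d := by
  have hu' := fix_ap Δ hcd iso (hUc u hu.1) hu.2
  have hfix : ∀ w, (n * u * n⁻¹) • ap Δ hcd w = ap Δ hcd w := by
    intro w
    obtain ⟨v, hv⟩ := (hn (n⁻¹ • ap Δ hcd w)).1 ⟨w, smul_inv_smul _ _⟩
    rw [mul_smul, mul_smul, hv, hu', ← hv, smul_inv_smul]
  have h1 := hfix 1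
  rw [ap_one] at h1
  have h2 := hfix (w0 cs)
  rw [ap_w0] at h2
  exact ⟨conj_mem_U Δ iso hUc hUp hUm hu.1 h1, h2⟩

variable (reg : ∀ (i : I) (u : G), u ∈ U → ∀ x : C, Δ.δ c x = cs.simple i → u • x = x → ∀ y : C,
  Δ.δ c y = cs.simple i → u • y = y)

include reg

/-- The fixator of `c` and `s_i w₀` normalises `Dg`. -/
theorem conj_mem_Dg' (i : I) {g : G} (hc : g • c = c) (ha : g • ap Δ hcd (s i * w0 cs) = ap Δ hcd (s i * w0 cs))
    {u : G} (hu : u ∈ Dg U d) : g * u * g⁻¹ ∈ Dg U d := by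
  have hu' := fix_ap Δ hcd iso (hUc u hu.1) hu.2
  have hgc : g⁻¹ • c = c := by rw [inv_smul_eq_iff, hc]
  have hga : g⁻¹ • ap Δ hcd (s i * w0 cs) = ap Δ hcd (s i * w0 cs) := by rw [inv_smul_eq_iff, ha]
  have h1 : (g * u * g⁻¹) • c = c := by rw [mul_smul, mul_smul, hgc, hUc u hu.1, hc]
  have h2 : (g * u * g⁻¹) • ap Δ hcd (s i * w0 cs) = ap Δ hcd (s i * w0 cs) := by
    rw [mul_smul, mul_smul, hga, hu', ha]
  have h3 : (g * u * g⁻¹) • ap Δ hcd (s i) = ap Δ hcd (s i) := by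
    have h4 : Δ.δ c (g⁻¹ • ap Δ hcd (s i)) = s i := by
      have := iso g⁻¹ c (ap Δ hcd (s i))
      rw [hgc, δ_ap] at this
      exact this
    have h5 := reg i u hu.1 (ap Δ hcd (s i)) (δ_ap Δ hcd _) (hu' _) _ h4
    rw [mul_smul, mul_smul, h5, smul_inv_smul]
  have h4 := fix_ap' Δ hcd iso (s i) h3 h2 (w0 cs)
  rw [ap_w0] at h4
  exact ⟨conj_mem_U Δ iso hUc hUp hUm hu.1 h1, h4⟩

variable (trans : ∀ x y x' y', Δ.δ x y = Δ.δ x' y' → ∃ g : G, g • x = x' ∧ g • y = y')

include trans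

omit hUc hUp hUm reg in
/-- The fixator of `c` and `s_i w₀` is transitive on the panel of `c`. -/
theorem exists_fix (i : I) {y : C} (hy : Δ.δ c y = s i) : ∃ g : G, g • c = c ∧
    g • ap Δ hcd (s i * w0 cs) = ap Δ hcd (s i * w0 cs) ∧ g • ap Δ hcd (s i) = y := by
  have hw : ℓ (w0 cs * s i * s i) = ℓ (w0 cs * s i) + ℓ (s i) := by
    have h1 := length_w0_mul cs (s i)
    have h2 := cs.length_simple i
    rw [simple_mul_simple_cancel_right, h2]
    omega
  have hac : Δ.δ (ap Δ hcd (s i * w0 cs)) c = w0 cs * s i := by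
    have := δ_ap_ap' Δ hcd (s i * w0 cs) 1
    rw [ap_one, mul_one, mul_inv_rev, (isLongest_w0 cs).inv_eq, inv_simple] at this
    exact this
  have hai : Δ.δ (ap Δ hcd (s i * w0 cs)) (ap Δ hcd (s i)) = w0 cs := by
    rw [δ_ap_ap', mul_inv_rev, inv_mul_cancel_right, (isLongest_w0 cs).inv_eq]
  have hay : Δ.δ (ap Δ hcd (s i * w0 cs)) y = w0 cs := by
    have := Δ.step_lt (ap Δ hcd (s i * w0 cs)) c y i hy (by
      rw [hac]
      have h2 := cs.length_simple i
      omega)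
    rw [this, hac, simple_mul_simple_cancel_right]
  obtain ⟨g, h1, h2⟩ := trans _ _ _ _ (hai.trans hay.symm)
  refine ⟨g, ?_, h1, h2⟩
  refine eq_of_length Δ (x := ap Δ hcd (s i * w0 cs)) (z := y) (w := w0 cs * s i) (v := s i) hw ?_ hac ?_ hy
  · have := iso g (ap Δ hcd (s i * w0 cs)) c
    rw [h1, hac] at this
    exact this
  · have := iso g c (ap Δ hcd (s i))
    rw [h2, δ_ap] at this
    exact this

include hcd

/-- The normaliser of `Dg` is transitive on the chambers. -/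
theorem exists_norm (x : C) : ∃ k : G, (∀ u ∈ Dg U d, k⁻¹ * u * k ∈ Dg U d) ∧ k • c = x := by
  generalize hn : ℓ (Δ.δ c x) = n
  induction n generalizing x with
  | zero =>
    have h1 : c = x := (Δ.eq_one c x).1 (cs.length_eq_zero_iff.1 hn)
    exact ⟨1, fun u hu => by simpa using hu, by rw [one_smul, h1]⟩
  | succ n ih =>
    have hne : Δ.δ c x ≠ 1 := by
      intro h1
      rw [h1, cs.length_one] at hn
      omega
    obtain ⟨i, hi⟩ := cs.exists_rightDescent_of_ne_one hne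
    obtain ⟨z, hz, hz'⟩ := Δ.exists_step c x i
    have hi' : ℓ (Δ.δ c x * s i) + 1 = ℓ (Δ.δ c x) := cs.isRightDescent_iff.1 hi
    obtain ⟨k, hk, hkz⟩ := ih z (by rw [hz']; omega)
    have h1 : Δ.δ c (k⁻¹ • x) = s i := by
      have := iso k⁻¹ z x
      rw [← hkz, inv_smul_smul] at this
      rw [this, hkz]
      exact symm_simple Δ hz
    obtain ⟨g, hg1, hg2, hg3⟩ := exists_fix Δ hcd iso trans i h1
    have hnm := nn_mem Δ hcd iso trans (s i)
    have hnc : nn Δ hcd iso trans (s i) • c = ap Δ hcd (s i) := by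
      have := smul_ap Δ hcd iso hnm 1
      rwa [ap_one, wt_nn, mul_one] at this
    refine ⟨k * g * nn Δ hcd iso trans (s i), fun u hu => ?_, ?_⟩
    · have h2 := hk u hu
      have h3 := conj_mem_Dg' Δ hcd iso hUc hUp hUm reg i (g := g⁻¹) (by rw [inv_smul_eq_iff, hg1])
        (by rw [inv_smul_eq_iff, hg2]) h2
      have h4 := conj_mem_Dg Δ hcd iso hUc hUp hUm (inv_mem hnm) h3
      have e : (k * g * nn Δ hcd iso trans (s i))⁻¹ * u * (k * g * nn Δ hcd iso trans (s i)) =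
          (nn Δ hcd iso trans (s i))⁻¹ * (g⁻¹ * (k⁻¹ * u * k) * g⁻¹⁻¹) * (nn Δ hcd iso trans (s i))⁻¹⁻¹ := by group
      rw [e]
      exact h4
    · rw [mul_smul, mul_smul, hnc, hg3, smul_inv_smul]

/-- **`U ∩ U ^ w₀` acts trivially.** -/
theorem dg_fix {u : G} (hu : u ∈ U) (hd : u • d = d) (x : C) : u • x = x := by
  obtain ⟨k, hk, rfl⟩ := exists_norm Δ hcd iso hUc hUp hUm reg trans x
  have h1 := hk u ⟨hu, hd⟩
  have h2 := hUc _ h1.1
  have h3 : u • k • c = k • (k⁻¹ * u * k) • c := by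
    rw [← mul_smul, ← mul_smul]
    congr 1
    group
  rw [h3, h2]

/-- **`C_U(T) = 1`**, `T` the fixator of `c` and `d`. -/
theorem cen_eq_one (faith : ∀ u ∈ U, (∀ x : C, u • x = x) → u = 1)
    (fpf : ∀ u ∈ U, (∀ t : G, t • c = c → t • d = d → t * u = u * t) → ∀ (i : I) (x : C), Δ.δ c x = cs.simple i →
      u • x = x)
    {u : G} (hu : u ∈ U) (hcen : ∀ t : G, t • c = c → t • d = d → t * u = u * t) : u = 1 := by
  refine faith u hu (dg_fix Δ hcd iso hUc hUp hUm reg trans hu ?_)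
  rw [← ap_w0 Δ hcd]
  have hl : ∀ t : G, t • c = c → t • d = d → ∀ n ∈ NN Δ hcd (G := G), (n * t * n⁻¹) • c = c ∧ (n * t * n⁻¹) • d = d := by
    intro t h1 h2 n hn
    have hu' := fix_ap Δ hcd iso h1 h2
    have hfix : ∀ w, (n * t * n⁻¹) • ap Δ hcd w = ap Δ hcd w := by
      intro w
      obtain ⟨v, hv⟩ := (hn (n⁻¹ • ap Δ hcd w)).1 ⟨w, smul_inv_smul _ _⟩
      rw [mul_smul, mul_smul, hv, hu', ← hv, smul_inv_smul]
    have h1 := hfix 1
    rw [ap_one] at h1
    have h2 := hfix (w0 cs)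
    rw [ap_w0] at h2
    exact ⟨h1, h2⟩
  have key : ∀ ω : List I, ∀ u ∈ U, (∀ t : G, t • c = c → t • d = d → t * u = u * t) →
      u • ap Δ hcd (π ω) = ap Δ hcd (π ω) := by
    intro ω
    induction ω with
    | nil =>
      intro u hu _
      rw [wordProd_nil, ap_one]
      exact hUc u hu
    | cons i ω ih =>
      intro u hu hcen
      have hnm := nn_mem Δ hcd iso trans (s i)
      set n := nn Δ hcd iso trans (s i) with hn
      have hnv : ∀ v, n • ap Δ hcd v = ap Δ hcd (s i * v) := by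
        intro v
        rw [smul_ap Δ hcd iso hnm, hn, wt_nn]
      have h1 : (n⁻¹ * u * n⁻¹⁻¹) • c = c := by
        have h2 : n • c = ap Δ hcd (s i) := by
          have := hnv 1
          rwa [ap_one, mul_one] at this
        rw [inv_inv, mul_smul, mul_smul, h2, fpf u hu hcen i _ (δ_ap Δ hcd _), ← h2, inv_smul_smul]
      have h2 := conj_mem_U Δ iso hUc hUp hUm hu h1
      have h3 := ih _ h2 (by
        intro t ht1 ht2
        obtain ⟨h4, h5⟩ := hl t ht1 ht2 n hnm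
        have h6 := hcen _ h4 h5
        have e1 : t * (n⁻¹ * u * n⁻¹⁻¹) = n⁻¹ * ((n * t * n⁻¹) * u) * n := by group
        have e2 : (n⁻¹ * u * n⁻¹⁻¹) * t = n⁻¹ * (u * (n * t * n⁻¹)) * n := by group
        rw [e1, e2, h6])
      rw [wordProd_cons, ← hnv]
      have e3 : u • n • ap Δ hcd (π ω) = n • (n⁻¹ * u * n⁻¹⁻¹) • ap Δ hcd (π ω) := by
        rw [← mul_smul, ← mul_smul]
        congr 1
        group
      rw [e3, h3]
  obtain ⟨ω, hω⟩ := cs.wordProd_surjective (w0 cs)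
  rw [← hω]
  exact key ω u hu hcen

end Cfsg.Agent.Omega.HOneEnd.Split
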