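import Mathlib
import Cfsg.Agent.Omega.HOneEnd.SysIDb

/-!
# Root systems with two dominant roots: mixed central elements, maximal parabolics

`Sys R e` (characteristic two), `Two cs h ρ σ i j`, no Weyl group element maps `ρ` to `σ`:

* `pair_of_center` : an element commuting with `U` is `x * y`, `x ∈ X ρ`, `y ∈ X σ`;
* `mem_of_pair` : an element commuting with `x * y`, `1 ≠ x ∈ X ρ`, `1 ≠ y ∈ X σ`, normalises `X ρ` and `X σ`;
* `coatom` : `N(X ρ)` is maximal.
-/

set_option autoImplicit false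
set_option linter.unusedSectionVars false

namespace Cfsg.Agent.Omega.HOneEnd.SysID

open CoxeterSystem Cfsg.Agent.ChevalleyStructure.CoxeterGeom Cfsg.Agent.Tits.Roots Cfsg.Agent.Tits.Core
  Cfsg.Agent.Tits.Exchange Cfsg.Agent.Nodes.Reps Cfsg.Agent.Nodes.BNOf Cfsg.Agent.Nodes.StabComb
  Cfsg.Agent.Nodes.Bruhat Cfsg.Agent.Nodes.OppDec Cfsg.Agent.Nodes.LeviDec Cfsg.Agent.Nodes.NormalForm
  Cfsg.Agent.Nodes.Coroot Cfsg.Agent.Nodes.PosPair Cfsg.Agent.KFacts.RgdPar Cfsg.Agent.KFacts.RgdTI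
  Cfsg.Agent.KFacts.RgdCent Cfsg.Agent.KFacts.RgdKap Cfsg.Agent.KFacts.RgdField Cfsg.Agent.KFacts.RgdOdd
  Cfsg.Agent.KFacts.RgdSys Cfsg.Agent.KFacts.ChevTwo Cfsg.Agent.KFacts.SysFree
open scoped commutatorElement

variable {I W Y K : Type*} [Fintype I] [DecidableEq I] [Group W] [Group Y] [Field K] {M : CoxeterMatrix I}
variable {cs : CoxeterSystem M W} {A : I → I → ℤ} {h : IsCartan M A} {e : (I → ℤ) → K → Y}
  {T : Subgroup Y} {n : I → Y} {X : (I → ℤ) → Subgroup Y}

section mix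

variable [Finite W] [Finite Y] {R : RGD cs h 2 T n X} (S : Sys R e) (hG1 : RGD.Sup X {x | IsRoot cs h x} = ⊤)
  (hN : NoCent cs h T X) {ρ σ : I → ℤ} {i j : I} (D : Two cs h ρ σ i j)
  (hconn : ∀ J : Set I, J.Nonempty → J ≠ Set.univ → ∃ a ∈ J, ∃ b, b ∉ J ∧ M a b ≠ 2)

include S D

theorem inf_bot_act {w : W} {k : Y} (hk : Rp cs R.nsys w k) {c : Y} (hc : c ∈ X (rep cs h w ρ))
    (hc' : c ∈ X (rep cs h w σ)) : c = 1 := by
  have h1 : k⁻¹ * c * k ∈ X ρ := by
    have := R.conj_mem' hk (D.rρ.1.act w) hc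
    rwa [rep_inv_apply] at this
  have h2 : k⁻¹ * c * k ∈ X σ := by
    have := R.conj_mem' hk (D.rσ.1.act w) hc'
    rwa [rep_inv_apply] at this
  have h3 := inf_bot' S D h1 h2
  have h4 : c = k * (k⁻¹ * c * k) * k⁻¹ := by group
  rw [h4, h3]; group

/-- The heart: `a b = x y`, `a ∈ X (w ρ)`, `b ∈ X (w σ)`, `x ∈ X ρ`, `y ∈ X σ`. -/
theorem rep_eq_of_mul (hlen : ∀ w : W, rep cs h w ρ ≠ σ) {w : W} {k : Y} (hk : Rp cs R.nsys w k) {a b x y : Y}
    (ha : a ∈ X (rep cs h w ρ)) (hb : b ∈ X (rep cs h w σ)) (hx : x ∈ X ρ) (hy : y ∈ X σ) (ha1 : a ≠ 1)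
    (hb1 : b ≠ 1) (he : a * b = x * y) : rep cs h w ρ = ρ ∧ rep cs h w σ = σ := by
  have hρ := D.rρ.1.act w
  have hσ := D.rσ.1.act w
  have hxU : x ∈ RGD.Sup X (RGD.Pos cs h) := RGD.le_Sup (S := RGD.Pos cs h) (star_pos D.rρ) hx
  have hyU : y ∈ RGD.Sup X (RGD.Pos cs h) := RGD.le_Sup (S := RGD.Pos cs h) (star_pos D.rσ) hy
  have hbot : ∀ c, c ∈ RGD.Sup X (RGD.Pos cs h) → c ∈ UN cs h X → c = 1 := by
    intro c h1 h2
    have h3 : c ∈ RGD.Sup X (RGD.Pos cs h) ⊓ UN cs h X := ⟨h1, h2⟩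
    rwa [U_inf_UN R, Subgroup.mem_bot] at h3
  have hab : a * b ≠ 1 := by
    intro h1
    apply ha1
    refine inf_bot_act S D hk ha ?_
    rw [eq_inv_of_mul_eq_one_left h1]
    exact inv_mem hb
  rcases hρ.pos_or_neg with pρ | nρ
  · have haU : a ∈ RGD.Sup X (RGD.Pos cs h) := RGD.le_Sup (S := RGD.Pos cs h) ⟨hρ, pρ⟩ ha
    rcases hσ.pos_or_neg with pσ | nσ
    · -- both positive
      have hpos : ∀ z ∈ RGD.Pos cs h, IsRoot cs h z ∧ 0 < Nodes.Slope.htHom z := fun z hz =>
        ⟨hz.1, RGD.ht_pos hz.1 hz.2⟩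
      have hcl : Cfsg.Agent.Nodes.Unique.Closed cs h ({rep cs h w ρ, rep cs h w σ} : Set (I → ℤ)) := by
        have h1 := Cfsg.Agent.KFacts.RgdInd.closed_act (D.closed) w⁻¹
        have h2 : {x | rep cs h w⁻¹ x ∈ ({ρ, σ} : Set (I → ℤ))} = {rep cs h w ρ, rep cs h w σ} := by
          ext z
          simp only [Set.mem_ofPred_eq, Set.mem_insert_iff, Set.mem_singleton_iff]
          constructor
          · rintro (h3 | h3)
            · left; rw [← h3, rep_apply_inv]
            · right; rw [← h3, rep_apply_inv]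
          · rintro (h3 | h3)
            · left; rw [h3, rep_inv_apply]
            · right; rw [h3, rep_inv_apply]
        rwa [h2] at h1
      have h1 : a * b ∈ RGD.Sup X ({rep cs h w ρ, rep cs h w σ} : Set (I → ℤ)) ⊓
          RGD.Sup X ({ρ, σ} : Set (I → ℤ)) := by
        refine ⟨mul_mem ?_ ?_, ?_⟩
        · exact RGD.le_Sup (S := ({rep cs h w ρ, rep cs h w σ} : Set (I → ℤ))) (by simp) ha
        · exact RGD.le_Sup (S := ({rep cs h w ρ, rep cs h w σ} : Set (I → ℤ))) (by simp) hb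
        · rw [he]
          exact mul_mem (RGD.le_Sup (S := ({ρ, σ} : Set (I → ℤ))) (by simp) hx)
            (RGD.le_Sup (S := ({ρ, σ} : Set (I → ℤ))) (by simp) hy)
      rw [Cfsg.Agent.KFacts.RgdInd.inf_eq_of_pos R Nodes.Slope.htHom (fun z hz => ?_) (fun z hz => ?_) hcl
        D.closed] at h1
      · by_contra hne
        apply hab
        by_cases e1 : rep cs h w ρ = ρ
        · have e2 : rep cs h w σ ≠ σ := fun h3 => hne ⟨e1, h3⟩
          exfalso
          apply hb1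
          have h2 : ({rep cs h w ρ, rep cs h w σ} : Set (I → ℤ)) ∩ {ρ, σ} ⊆ {rep cs h w ρ} := by
            rintro z ⟨hz1, hz2⟩
            rcases hz1 with hz1 | hz1
            · exact hz1
            · rw [Set.mem_singleton_iff] at hz1
              rcases hz2 with hz2 | hz2
              · exfalso
                have : rep cs h w σ = rep cs h w ρ := by rw [e1, ← hz2, hz1]
                have h4 := congrArg (rep cs h w⁻¹) this
                rw [rep_inv_apply, rep_inv_apply] at h4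
                exact D.ne h4.symm
              · exact absurd (hz1.symm.trans hz2) e2
          have h3 : a * b ∈ X (rep cs h w ρ) := by
            have h4 := RGD.Sup_mono h2 h1
            exact (RGD.Sup_le (S := {rep cs h w ρ}) fun z hz => by
              rw [Set.mem_singleton_iff] at hz; rw [hz]) h4
          refine inf_bot_act S D hk ?_ hb
          have h5 := mul_mem (inv_mem ha) h3
          rwa [inv_mul_cancel_left] at h5
        · by_cases e2 : rep cs h w σ = σ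
          · exfalso
            apply ha1
            have h2 : ({rep cs h w ρ, rep cs h w σ} : Set (I → ℤ)) ∩ {ρ, σ} ⊆ {rep cs h w σ} := by
              rintro z ⟨hz1, hz2⟩
              rcases hz1 with hz1 | hz1
              · rcases hz2 with hz2 | hz2
                · exact absurd (hz1.symm.trans hz2) e1
                · exfalso
                  exact hlen w (hz1.symm.trans hz2)
              · exact hz1
            have h3 : a * b ∈ X (rep cs h w σ) := by
              have h4 := RGD.Sup_mono h2 h1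
              exact (RGD.Sup_le (S := {rep cs h w σ}) fun z hz => by
                rw [Set.mem_singleton_iff] at hz; rw [hz]) h4
            refine inf_bot_act S D hk ha ?_
            have h5 := mul_mem h3 (inv_mem hb)
            rwa [mul_inv_cancel_right] at h5
          · have h2 : ({rep cs h w ρ, rep cs h w σ} : Set (I → ℤ)) ∩ {ρ, σ} = ∅ := by
              rw [Set.eq_empty_iff_forall_notMem]
              rintro z ⟨hz1, hz2⟩
              rcases hz1 with hz1 | hz1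
              · rcases hz2 with hz2 | hz2
                · exact e1 (hz1.symm.trans hz2)
                · exact hlen w (hz1.symm.trans hz2)
              · rw [Set.mem_singleton_iff] at hz1
                rcases hz2 with hz2 | hz2
                · apply hlen w⁻¹
                  rw [← hz2, hz1, rep_inv_apply]
                · exact e2 (hz1.symm.trans hz2)
            rwa [h2, Cfsg.Agent.Nodes.OppDec.Sup_empty, Subgroup.mem_bot] at h1
      · rcases hz with rfl | hz
        · exact hpos _ ⟨hρ, pρ⟩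
        · rw [Set.mem_singleton_iff] at hz; subst hz; exact hpos _ ⟨hσ, pσ⟩
      · rcases hz with rfl | hz
        · exact hpos _ (star_pos D.rρ)
        · rw [Set.mem_singleton_iff] at hz; subst hz; exact hpos _ (star_pos D.rσ)
    · exfalso
      apply hb1
      refine hbot b ?_ (X_le_UN hσ nσ hb)
      have h1 : b = a⁻¹ * (x * y) := by rw [← he]; group
      rw [h1]
      exact mul_mem (inv_mem haU) (mul_mem hxU hyU)
  · rcases hσ.pos_or_neg with pσ | nσ
    · exfalso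
      apply ha1
      have hbU : b ∈ RGD.Sup X (RGD.Pos cs h) := RGD.le_Sup (S := RGD.Pos cs h) ⟨hσ, pσ⟩ hb
      refine hbot a ?_ (X_le_UN hρ nρ ha)
      have h1 : a = (x * y) * b⁻¹ := by rw [← he]; group
      rw [h1]
      exact mul_mem (mul_mem hxU hyU) (inv_mem hbU)
    · exfalso
      apply hab
      refine hbot (a * b) ?_ (mul_mem (X_le_UN hρ nρ ha) (X_le_UN hσ nσ hb))
      rw [he]
      exact mul_mem hxU hyU

include hG1

/-- Elements commuting with a mixed central element normalise both root groups. -/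
theorem mem_of_pair (hlen : ∀ w : W, rep cs h w ρ ≠ σ) {x y g : Y} (hx : x ∈ X ρ) (hy : y ∈ X σ) (hx1 : x ≠ 1)
    (hy1 : y ≠ 1) (hg : g * (x * y) = (x * y) * g) :
    g ∈ Subgroup.normalizer (X ρ : Set Y) ∧ g ∈ Subgroup.normalizer (X σ : Set Y) := by
  have hB := B_le S D
  have hB' := B_le S D.symm
  have h1 : g ∈ GG cs h T X := by
    rw [Cfsg.Agent.KFacts.RgdRigid.GG_eq_top hG1]; exact Subgroup.mem_top _
  obtain ⟨w, b₁, hb₁, k, hk, b₂, hb₂, rfl⟩ := (mem_GG R).1 h1
  have hx' : b₂ * x * b₂⁻¹ ∈ X ρ := (Subgroup.mem_normalizer_iff.1 (hB hb₂) _).1 hx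
  have hy' : b₂ * y * b₂⁻¹ ∈ X σ := (Subgroup.mem_normalizer_iff.1 (hB' hb₂) _).1 hy
  have hx₀ : b₁⁻¹ * x * b₁ ∈ X ρ := by
    have := (Subgroup.mem_normalizer_iff.1 (inv_mem (hB hb₁)) _).1 hx
    rwa [inv_inv] at this
  have hy₀ : b₁⁻¹ * y * b₁ ∈ X σ := by
    have := (Subgroup.mem_normalizer_iff.1 (inv_mem (hB' hb₁)) _).1 hy
    rwa [inv_inv] at this
  have ha := R.conj_mem hk D.rρ.1 hx'
  have hb := R.conj_mem hk D.rσ.1 hy'
  have he : k * (b₂ * x * b₂⁻¹) * k⁻¹ * (k * (b₂ * y * b₂⁻¹) * k⁻¹) = b₁⁻¹ * x * b₁ * (b₁⁻¹ * y * b₁) := by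
    have h2 : b₁ * k * b₂ * (x * y) * (b₁ * k * b₂)⁻¹ = x * y := by rw [hg]; group
    calc k * (b₂ * x * b₂⁻¹) * k⁻¹ * (k * (b₂ * y * b₂⁻¹) * k⁻¹)
        = b₁⁻¹ * (b₁ * k * b₂ * (x * y) * (b₁ * k * b₂)⁻¹) * b₁ := by group
      _ = b₁⁻¹ * x * b₁ * (b₁⁻¹ * y * b₁) := by rw [h2]; group
  have ha1 : k * (b₂ * x * b₂⁻¹) * k⁻¹ ≠ 1 := fun h2 => hx1 (by
    have : x = b₂⁻¹ * k⁻¹ * (k * (b₂ * x * b₂⁻¹) * k⁻¹) * k * b₂ := by group
    rw [this, h2]; group)
  have hb1 : k * (b₂ * y * b₂⁻¹) * k⁻¹ ≠ 1 := fun h2 => hy1 (by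
    have : y = b₂⁻¹ * k⁻¹ * (k * (b₂ * y * b₂⁻¹) * k⁻¹) * k * b₂ := by group
    rw [this, h2]; group)
  obtain ⟨e1, e2⟩ := rep_eq_of_mul S D hlen hk ha hb hx₀ hy₀ ha1 hb1 he
  have k1 : k ∈ Subgroup.normalizer (X ρ : Set Y) := by
    rw [mem_normalizer_iff_cj, R.conj_rp hk D.rρ.1, e1]
  have k2 : k ∈ Subgroup.normalizer (X σ : Set Y) := by
    rw [mem_normalizer_iff_cj, R.conj_rp hk D.rσ.1, e2]
  exact ⟨mul_mem (mul_mem (hB hb₁) k1) (hB hb₂), mul_mem (mul_mem (hB' hb₁) k2) (hB' hb₂)⟩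

/-- `N(X ρ)` is maximal. -/
theorem coatom : IsCoatom (Subgroup.normalizer (X ρ : Set Y)) := by
  refine ⟨fun h1 => n_notMem S D (h1 ▸ Subgroup.mem_top _), fun P hP => ?_⟩
  have hB := B_le S D
  have h1 : n i ∈ P := by
    by_contra h1
    apply hP.not_ge
    refine le_of_nodes S hG1 (hB.trans hP.le) hB fun k hk => ?_
    refine n_mem S D fun h2 => ?_
    rw [h2] at hk
    exact h1 hk
  have h2 : (⊤ : Subgroup Y) ≤ P := by
    refine le_of_nodes S hG1 le_top (hB.trans hP.le) fun k _ => ?_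
    by_cases hk : k = i
    · rw [hk]; exact h1
    · exact hP.le (n_mem S D hk)
  exact top_le_iff.1 h2

include hN hconn

/-- elements commuting with `U` -/
theorem pair_of_center {c : Y} (hc : ∀ u ∈ RGD.Sup X (RGD.Pos cs h), u * c = c * u) :
    ∃ x ∈ X ρ, ∃ y ∈ X σ, c = x * y := by
  have hne' : Nonempty I := ⟨i⟩
  exact mem_pair S D (RGD.Sup_mono D.dom (center_le S hG1 hN hconn hc))

end mix

end Cfsg.Agent.Omega.HOneEnd.SysID
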