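import Mathlib
import Cfsg.Agent.Omega.HOneEnd.SysID

/-!
# LeafH1, END: constructor of `SysID.Two` (helper368)

`two_mk` : the fields `pos…`, `mov…` follow from the others if `ρ ≠ α_i`, `σ ≠ α_j`.
-/

set_option autoImplicit false
set_option linter.unusedSectionVars false

namespace Cfsg.Agent.Omega.HOneEnd.TwoInst

open CoxeterSystem Cfsg.Agent.ChevalleyStructure.CoxeterGeom Cfsg.Agent.Tits.Roots Cfsg.Agent.Tits.Core
  Cfsg.Agent.Nodes.BNOf Cfsg.Agent.Nodes.Coroot Cfsg.Agent.KFacts.RgdCent Cfsg.Agent.KFacts.SysFree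
  Cfsg.Agent.Omega.HOneEnd.SysID

variable {I W : Type*} [Fintype I] [DecidableEq I] [Group W] {M : CoxeterMatrix I}
variable {cs : CoxeterSystem M W} {A : I → I → ℤ} {h : IsCartan M A}

/-- a root is moved by some simple reflection -/
theorem mov_of_fix [Finite W] {ρ : I → ℤ} {i : I} (hr : IsRoot cs h ρ) (fix : ∀ k, k ≠ i → pairing A k ρ = 0) :
    rep cs h (cs.simple i) ρ ≠ ρ := by
  intro h0
  have h1 : ∀ w : W, rep cs h w ρ = ρ := by
    intro w
    induction w using cs.simple_induction_left with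
    | one => rw [map_one, Module.End.one_apply]
    | mul_simple_left w k ih =>
      rw [rep_mul_apply, ih]
      by_cases hk : k = i
      · rw [hk, h0]
      · rw [rep_simple_eq, fix k hk, zero_smul, sub_zero]
  have hr' := hr
  obtain ⟨w, l, hw⟩ := hr
  have h2 := h1 (w * cs.simple l * w⁻¹)
  rw [hw, map_mul, map_mul, Module.End.mul_apply, Module.End.mul_apply, rep_inv_apply, rep_simple_sr, map_neg, ← hw]
    at h2
  exact hr'.ne_zero (self_eq_neg.1 h2.symm)

theorem two_mk [Finite W] {ρ σ : I → ℤ} {i j : I} (rρ : ρ ∈ Star cs h (RGD.Pos cs h)) (rσ : σ ∈ Star cs h (RGD.Pos cs h))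
    (dom : Star cs h (RGD.Pos cs h) ⊆ {ρ, σ}) (ne : ρ ≠ σ) (ij : i ≠ j) (fixρ : ∀ k, k ≠ i → pairing A k ρ = 0)
    (fixσ : ∀ k, k ≠ j → pairing A k σ = 0) (nρ : ρ ≠ sr i) (nσ : σ ≠ sr j) : Two cs h ρ σ i j where
  rρ := rρ
  rσ := rσ
  dom := dom
  ne := ne
  ij := ij
  fixρ := fixρ
  fixσ := fixσ
  posρ := ⟨rρ.1.act _, rρ.1.simple_nonneg (star_pos rρ).2 i nρ⟩
  posσ := ⟨rσ.1.act _, rσ.1.simple_nonneg (star_pos rσ).2 j nσ⟩
  movρ := mov_of_fix rρ.1 fixρ
  movσ := mov_of_fix rσ.1 fixσ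
  movρσ := by
    intro h0
    apply ne
    have h1 : rep cs h (cs.simple i) σ = ρ := by
      have h2 := rep_inv_apply cs h (cs.simple i) ρ
      rwa [cs.inv_simple, h0] at h2
    rw [rep_simple_eq, fixσ i ij, zero_smul, sub_zero] at h1
    exact h1.symm
  movσρ := by
    intro h0
    apply ne
    have h1 : rep cs h (cs.simple j) ρ = σ := by
      have h2 := rep_inv_apply cs h (cs.simple j) σ
      rwa [cs.inv_simple, h0] at h2
    rw [rep_simple_eq, fixρ j ij.symm, zero_smul, sub_zero] at h1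
    exact h1

end Cfsg.Agent.Omega.HOneEnd.TwoInst
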