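import Mathlib
import Cfsg.Agent.Omega.HOneEnd.TwoMk
import Cfsg.Agent.KFacts.SysBFSp

/-!
# LeafH1, END: `SysID.Two` for type `C_m`, `m ≥ 3` (helper368)

`two_C` : the dominant roots are `ρ = ε₀ + ε₁` (short, moved by the node 1) and `σ = 2 ε₀` (long, moved by the node 0).
-/

set_option autoImplicit false
set_option linter.unusedSectionVars false

namespace Cfsg.Agent.Omega.HOneEnd.TwoInst

open CoxeterSystem Cfsg.Agent.ChevalleyStructure.CoxeterGeom Cfsg.Agent.Tits.Roots Cfsg.Agent.Tits.Core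
  Cfsg.Agent.Nodes.BNOf Cfsg.Agent.Nodes.Coroot Cfsg.Agent.KFacts.RgdCent Cfsg.Agent.KFacts.SysFree
  Cfsg.Agent.Nodes.KindBC Cfsg.Agent.Nodes.TypeC Cfsg.Agent.KFacts.SysBFSp
  Cfsg.Agent.Omega.HOneEnd.SysID

variable {m : ℕ} {W : Type*} [Group W] [Finite W] {cs : CoxeterSystem (CoxeterMatrix.B m) W}

/-- the short dominant root -/
def rhoC (hm : 3 ≤ m) : Fin m → ℤ := rt (⟨0, by omega⟩, true) (⟨1, by omega⟩, true)

/-- the long dominant root -/
def sigC (hm : 3 ≤ m) : Fin m → ℤ := rt (⟨0, by omega⟩, true) (⟨0, by omega⟩, true)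

theorem cf_nonneg {x : Fin m → ℤ} (hx : x ∈ Star cs (isCartan m) (RGD.Pos cs (isCartan m))) (i : Fin m) :
    0 ≤ Cf i (ee x) := by
  rw [Cf_ee, ← cpr_sr cs]
  exact hx.2 _ ⟨isRoot_sr cs _ i, sr_nonneg i⟩

/-- the coordinates of a dominant root decrease -/
theorem ee_le {x : Fin m → ℤ} (hx : x ∈ Star cs (isCartan m) (RGD.Pos cs (isCartan m))) :
    ∀ (d : ℕ) (k l : Fin m), (l : ℕ) = k + d → ee x l ≤ ee x k := by
  intro d
  induction d with
  | zero => intro k l h; rw [Fin.ext h]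
  | succ d ih =>
    intro k l h
    have hk : (k : ℕ) + d < m := by have := l.2; omega
    have h1 := ih k ⟨k + d, hk⟩ rfl
    have h2 := cf_nonneg hx ⟨k + d, hk⟩
    have h3 : (k : ℕ) + d + 1 < m := by have := l.2; omega
    unfold Cf at h2
    rw [dif_pos h3] at h2
    have e : (⟨(⟨k + d, hk⟩ : Fin m) + 1, h3⟩ : Fin m) = l := Fin.ext (by simp only; omega)
    rw [e] at h2
    linarith

theorem ee_nonneg {x : Fin m → ℤ} (hx : x ∈ Star cs (isCartan m) (RGD.Pos cs (isCartan m))) (k : Fin m) :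
    0 ≤ ee x k := by
  have hk := k.2
  have h1 := ee_le hx (m - 1 - k) k ⟨m - 1, by omega⟩ (by simp only; omega)
  have h2 := cf_nonneg hx ⟨m - 1, by omega⟩
  unfold Cf at h2
  rw [dif_neg (by simp only; omega)] at h2
  linarith

theorem dom_C (hm : 3 ≤ m) : Star cs (isCartan m) (RGD.Pos cs (isCartan m)) ⊆ {rhoC hm, sigC hm} := by
  intro x hx
  obtain ⟨a, b, hab, e⟩ := exists_rt hx.1
  have hee : ∀ k, ee x k = (if k = a.1 then (if a.2 then 1 else -1) else 0) +
      (if k = b.1 then (if b.2 then 1 else -1) else 0) := fun k => by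
    rw [e, ee_rt, Pi.add_apply, wt_apply, wt_apply]
  have h0 : ∀ k : Fin m, ee x k ≤ ee x ⟨0, by omega⟩ := fun k => ee_le hx k ⟨0, by omega⟩ k (by simp)
  obtain ⟨i, s⟩ := a
  obtain ⟨j, t⟩ := b
  have hs : s = true := by
    have h1 := ee_nonneg hx i
    rw [hee i] at h1
    simp only [if_true] at h1
    rcases hab with hab | hab
    · have hne : i ≠ j := hab
      rw [if_neg hne] at h1
      by_contra hs
      rw [if_neg hs] at h1
      norm_num at h1
    · obtain ⟨rfl, rfl⟩ := Prod.mk.inj hab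
      rw [if_pos rfl] at h1
      by_contra hs
      rw [if_neg hs] at h1
      norm_num at h1
  have ht : t = true := by
    have h1 := ee_nonneg hx j
    rw [hee j] at h1
    simp only [if_true] at h1
    rcases hab with hab | hab
    · have hne : j ≠ i := fun h => hab h.symm
      rw [if_neg hne] at h1
      by_contra ht
      rw [if_neg ht] at h1
      norm_num at h1
    · obtain ⟨rfl, rfl⟩ := Prod.mk.inj hab
      exact hs
  subst hs ht
  simp only [if_true] at hee
  have hz : (⟨0, by omega⟩ : Fin m) = i ∨ (⟨0, by omega⟩ : Fin m) = j := by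
    by_contra hcon
    push Not at hcon
    have h1 := h0 i
    rw [hee i, hee ⟨0, by omega⟩, if_pos rfl, if_neg hcon.1, if_neg hcon.2] at h1
    have h2 : (0 : ℤ) ≤ if i = j then 1 else 0 := by split_ifs <;> norm_num
    linarith
  -- WLOG `i = 0`
  have key : ∀ j : Fin m, x = rt (⟨0, by omega⟩, true) (j, true) →
      (∀ k, ee x k = (if k = ⟨0, by omega⟩ then 1 else 0) + (if k = j then 1 else 0)) →
      x = rhoC hm ∨ x = sigC hm := by
    intro j hxj hj
    by_cases hj0 : (j : ℕ) = 0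
    · right
      rw [hxj, show j = ⟨0, by omega⟩ from Fin.ext hj0]
      rfl
    · left
      have h1 := ee_le hx ((j : ℕ) - 1) ⟨1, by omega⟩ j (by simp only; omega)
      rw [hj j, hj ⟨1, by omega⟩, if_pos rfl, if_neg (fun h => hj0 (by rw [h])),
        if_neg (fun h => by have := congrArg Fin.val h; simp at this)] at h1
      have hj1 : (⟨1, by omega⟩ : Fin m) = j := by
        by_contra hne
        rw [if_neg hne] at h1
        norm_num at h1
      rw [hxj, ← hj1]
      rfl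
  rcases hz with hz | hz
  · subst hz
    exact key j e hee
  · subst hz
    refine key i (by rw [e, rt_comm]) fun k => ?_
    rw [hee k, add_comm]

theorem pairing_rho (hm : 3 ≤ m) (k : Fin m) (hk : k ≠ ⟨1, by omega⟩) : pairing (A m) k (rhoC hm) = 0 := by
  rw [← Cf_ee, rhoC, ee_rt]
  unfold Cf
  have hk1 : (k : ℕ) ≠ 1 := fun h => hk (Fin.ext h)
  split_ifs with h
  · simp only [Pi.add_apply, wt_apply, Fin.ext_iff]
    by_cases hk0 : (k : ℕ) = 0
    · simp [hk0]
    · have : (k : ℕ) + 1 ≠ 1 := by omega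
      simp [hk0, hk1]
  · simp only [Pi.add_apply, wt_apply, Fin.ext_iff]
    have hk0 : (k : ℕ) ≠ 0 := by omega
    simp [hk0, hk1]

theorem pairing_sig (hm : 3 ≤ m) (k : Fin m) (hk : k ≠ ⟨0, by omega⟩) : pairing (A m) k (sigC hm) = 0 := by
  rw [← Cf_ee, sigC, ee_rt]
  unfold Cf
  have hk0 : (k : ℕ) ≠ 0 := fun h => hk (Fin.ext h)
  split_ifs with h <;> simp [Pi.add_apply, wt_apply, Fin.ext_iff, hk0]

theorem rho_ne_sr (hm : 3 ≤ m) : rhoC hm ≠ sr ⟨1, by omega⟩ := by
  intro h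
  have h1 := congrFun (congrArg ee h) ⟨0, by omega⟩
  rw [ee_sr, rhoC, ee_rt, bt_apply] at h1
  simp [Pi.add_apply, wt_apply, Fin.ext_iff] at h1

theorem sig_ne_sr (hm : 3 ≤ m) : sigC hm ≠ sr ⟨0, by omega⟩ := by
  intro h
  have h1 := congrFun (congrArg ee h) ⟨0, by omega⟩
  rw [ee_sr, sigC, ee_rt, bt_apply] at h1
  have h3 : (0 : ℕ) + 1 < m := by omega
  simp [Pi.add_apply, wt_apply, h3] at h1

/-- **Type `C_m`.** -/
theorem two_C (hm : 3 ≤ m) : Two cs (isCartan m) (rhoC hm) (sigC hm) ⟨1, by omega⟩ ⟨0, by omega⟩ :=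
  two_mk (star_short hm cs) (star_long hm cs) (dom_C hm) (star_ne hm).symm
    (fun h => by have := congrArg Fin.val h; simp at this) (pairing_rho hm) (pairing_sig hm) (rho_ne_sr hm)
    (sig_ne_sr hm)

end Cfsg.Agent.Omega.HOneEnd.TwoInst
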