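import Mathlib
import Cfsg.Agent.Omega.HOneEnd.TwoC
import Cfsg.Agent.Omega.HOneEnd.TwoFF
import Cfsg.Agent.KFacts.F4Aut
import Cfsg.Agent.KFacts.RgdGraphF4

/-!
# LeafH1, END: the inputs of `SysID` for `PSp_{2m}(q)`, `m ≥ 3`, and `F₄(q)`, `q` even (helper368)

`Inp` : the hypotheses `sup`, `cent`, `two`, `conn`; `inp_C` (with `SysSp.sys_PSp`), `inp_F` (with `F4Pair.sysF`).
-/

set_option autoImplicit false
set_option linter.unusedSectionVars false
set_option Elab.async false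

namespace Cfsg.Agent.Omega.HOneEnd.TwoInst

open CoxeterSystem Cfsg.Agent.ChevalleyStructure.CoxeterGeom Cfsg.Agent.Tits.Roots Cfsg.Agent.Tits.Core
open Cfsg.Lie Cfsg.Agent.Nodes.BNOf Cfsg.Agent.Nodes.Coroot Cfsg.Agent.KFacts.RgdCent
  Cfsg.Agent.Nodes.RGDChev Cfsg.Agent.TitsThree Cfsg.Agent.Nodes
open Cfsg.Agent.KFacts.SysSp (sys_PSp sup_eq_top_PSp noCent_PSp conn_B eSp)
open Cfsg.Agent.KFacts.F4Pair (XF eF sysF)
open Cfsg.Agent.KFacts.F4Cent (v)
open Cfsg.Agent.Nodes.KindF (isType)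
open Cfsg.Agent.Omega.HOneEnd.SysID

/-- The hypotheses of `SysID` on the root group datum. -/
structure Inp {I W Y : Type*} [Fintype I] [DecidableEq I] [Group W] [Group Y] {M : CoxeterMatrix I}
    (cs : CoxeterSystem M W) {A : I → I → ℤ} (h : IsCartan M A) (T : Subgroup Y) (X : (I → ℤ) → Subgroup Y)
    (ρ σ : I → ℤ) (i j : I) : Prop where
  sup : RGD.Sup X {x | IsRoot cs h x} = ⊤
  cent : NoCent cs h T X
  two : Two cs h ρ σ i j
  conn : ∀ J : Set I, J.Nonempty → J ≠ Set.univ → ∃ a ∈ J, ∃ b, b ∉ J ∧ M a b ≠ 2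

/-- **`PSp_{2m}(q)`, `m ≥ 3`**: `Sys` is `sys_PSp m F cs`. -/
theorem inp_C {m : ℕ} (hm : 3 ≤ m) (F : Type*) [Field F] [CharP F 2] {W : Type*} [Group W] [Finite W]
    (cs : CoxeterSystem (CoxeterMatrix.B m) W) :
    Inp cs (TypeC.isCartan m) (WittModel.T (KInstSp.model m F)) (WittModel.X (KInstSp.model m F)) (rhoC hm) (sigC hm)
      ⟨1, by omega⟩ ⟨0, by omega⟩ where
  sup := sup_eq_top_PSp (by omega) F cs
  cent := noCent_PSp m F cs
  two := two_C hm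
  conn := conn_B m

/-- **`F₄(q)`**: `Sys` is `sysF cs`. -/
theorem inp_F (K : Type*) [Field K] [Finite K] [CharP K 2] {W : Type*} [Group W] [Finite W]
    (cs : CoxeterSystem CoxeterMatrix.F₄ W) :
    Inp cs isType.isCartan (Cfsg.Agent.KFacts.F4Torus.TF K) (XF K) (v 47) (v 44) 3 0 where
  sup := G1_eq_top isType cs
  cent := Cfsg.Agent.KFacts.F4Aut.noCent cs
  two := two_F cs
  conn := Cfsg.Agent.KFacts.RgdGraphF4.hconn_F4

end Cfsg.Agent.Omega.HOneEnd.TwoInst
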