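import Cfsg.Agent.Omega.HOneEnd.EndIn
import Cfsg.Agent.Omega.HOneEnd.IDTwo
import Cfsg.Agent.Omega.HOneEnd.Parity
import Cfsg.Agent.Omega.HOneEnd.TTwoFin
import Cfsg.Agent.Omega.HOneEnd.TwoInst
import Cfsg.Agent.Omega.HOneEnd.FFourDefs

/-!
# LeafH1, END, THEOREM ID (the glue)

**`thm_id`** : `EndIn S G₀ U R v` ⟹ `G₀ ≅ PSp_{2n}(F)`, `n ≥ 3`, with `U ↦ ⟨X_a | a > 0⟩`, `R ↦ X_ρ` (`ρ` the short dominant
root), or `G₀ ≅ F₄(K)` with `U ↦ ⟨X_a | a > 0⟩`, `R ↦ X_s`, `s` dominant.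
-/

set_option autoImplicit false
set_option linter.unusedSectionVars false
set_option Elab.async false

namespace Cfsg.Agent.Omega.HOneEnd.ThmId

open CoxeterSystem Cfsg.Agent.ChevalleyStructure.CoxeterGeom Cfsg.Agent.Tits.Roots Cfsg.Agent.Tits.Core
open Cfsg Cfsg.Lie Cfsg.Agent.Nodes.BNOf Cfsg.Agent.Nodes.Coroot Cfsg.Agent.KFacts.RgdCent
  Cfsg.Agent.Nodes.RGDChev Cfsg.Agent.TitsThree Cfsg.Agent.Nodes Cfsg.Agent.Nodes.KindBC Cfsg.Agent.Nodes.TypeC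
  Cfsg.Agent.Nodes.TypeCForm Cfsg.Agent.KFacts.RgdOdd
open Cfsg.Agent.KFacts.SysSp (sys_PSp sup_eq_top_PSp noCent_PSp conn_B eSp)
open Cfsg.Agent.KFacts.F4Pair (XF eF sysF)
open Cfsg.Agent.KFacts.F4Cent (v)
open Cfsg.Agent.Nodes.KindF (isType)
open Cfsg.Agent.Omega.HOneEnd.SysID Cfsg.Agent.Omega.HOneEnd.TwoInst
open Subgroup

section rad

variable {m : ℕ} {W : Type*} [Group W] [Finite W] {cs : CoxeterSystem (CoxeterMatrix.B m) W}

theorem wt_nonneg {o : Fin m} {c : Fin m × Bool} (hc : c ≠ (o, false)) : 0 ≤ wt c o := by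
  rw [wt_apply]
  obtain ⟨i, b⟩ := c
  by_cases h : o = i
  · subst h
    cases b
    · exact absurd rfl hc
    · simp
  · rw [if_neg h]

theorem wt_mul_sn (c d : Fin m × Bool) : -1 ≤ wt c d.1 * sn d := by
  rw [wt_apply]
  unfold sn
  split_ifs <;> norm_num

theorem exists_o (hm : 3 ≤ m) {x : Fin m → ℤ} (hx : x ∈ Rad cs (TypeC.isCartan m) (sigC hm)) :
    ∃ c : Fin m × Bool, c ≠ (⟨0, by omega⟩, false) ∧ Ok (⟨0, by omega⟩, true) c ∧
      x = rt (⟨0, by omega⟩, true) c := by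
  obtain ⟨a, b, hab, rfl⟩ := exists_rt hx.1
  have h1 := hx.2
  unfold sigC at h1
  rw [cpr_rt_self, ee_rt] at h1
  simp only [Pi.add_apply, sn, if_true, mul_one] at h1
  have key : ∀ a b : Fin m × Bool, Ok a b → 1 ≤ wt a ⟨0, by omega⟩ + wt b ⟨0, by omega⟩ →
      a = (⟨0, by omega⟩, true) → ∃ c : Fin m × Bool, c ≠ (⟨0, by omega⟩, false) ∧ Ok (⟨0, by omega⟩, true) c ∧
      rt a b = rt (⟨0, by omega⟩, true) c := by
    rintro a b hab h1 rfl
    refine ⟨b, ?_, hab, rfl⟩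
    rintro rfl
    rw [wt_apply, wt_apply] at h1
    simp at h1
  by_cases ha : a = (⟨0, by omega⟩, true)
  · exact key a b hab h1 ha
  by_cases hb : b = (⟨0, by omega⟩, true)
  · rw [rt_comm]
    refine key b a ?_ (by rw [add_comm]; exact h1) hb
    rcases hab with h | h
    · exact Or.inl (Ne.symm h)
    · exact Or.inr h.symm
  · exfalso
    have h2 : ∀ a : Fin m × Bool, a ≠ (⟨0, by omega⟩, true) → wt a ⟨0, by omega⟩ ≤ 0 := by
      intro a ha
      rw [wt_apply]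
      obtain ⟨i, t⟩ := a
      by_cases h : (⟨0, by omega⟩ : Fin m) = i
      · subst h
        cases t
        · simp
        · exact absurd rfl ha
      · rw [if_neg h]
    have := h2 a ha
    have := h2 b hb
    omega

/-- the roots `ε₀ ± ε_j`, `2 ε₀` have nonnegative products -/
theorem rad_sig (hm : 3 ≤ m) : ∀ a ∈ Rad cs (TypeC.isCartan m) (sigC hm), ∀ b ∈ Rad cs (TypeC.isCartan m) (sigC hm),
    0 ≤ cpr cs (TypeC.isCartan m) a b := by
  intro a ha b hb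
  obtain ⟨c, hc, -, rfl⟩ := exists_o hm ha
  obtain ⟨d, hd, hod, rfl⟩ := exists_o hm hb
  have h1 := wt_nonneg hc
  have h2 := wt_mul_sn c d
  rcases hod with h | h
  · rw [cpr_rt cs _ h, ee_rt]
    have h3 : wt ((⟨0, by omega⟩, true) : Fin m × Bool) ⟨0, by omega⟩ = 1 := by rw [wt_apply]; simp
    have h4 : wt ((⟨0, by omega⟩, true) : Fin m × Bool) d.1 = 0 := by
      rw [wt_apply, if_neg (fun e => h e.symm)]
    simp only [Pi.add_apply, h3, h4, zero_add]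
    have h5 : sn ((⟨0, by omega⟩, true) : Fin m × Bool) = 1 := rfl
    rw [h5, mul_one]
    linarith
  · rw [← h, cpr_rt_self, ee_rt]
    have h3 : wt ((⟨0, by omega⟩, true) : Fin m × Bool) ⟨0, by omega⟩ = 1 := by rw [wt_apply]; simp
    simp only [Pi.add_apply, h3]
    have h5 : sn ((⟨0, by omega⟩, true) : Fin m × Bool) = 1 := rfl
    rw [h5, mul_one]
    linarith

end rad

universe u

/-- **THEOREM ID.** -/
theorem thm_id {G : Type u} [Group G] [Finite G] {S G₀ U R : Subgroup G} {v : G} (h : EndIn S G₀ U R v) :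
    (∃ (F : Type) (_ : Field F) (_ : Fintype F) (_ : CharP F 2) (n : ℕ) (hn : 3 ≤ n) (φ : ↥G₀ ≃* PSp n F),
      (U.subgroupOf G₀).map φ.toMonoidHom = RGD.Sup (WittModel.X (KInstSp.model n F))
        (RGD.Pos (CoxeterMatrix.B n).toCoxeterSystem (TypeC.isCartan n)) ∧
      (R.subgroupOf G₀).map φ.toMonoidHom = WittModel.X (KInstSp.model n F) (rhoC hn)) ∨
    (∃ (K : Type) (_ : Field K) (_ : Fintype K) (_ : CharP K 2) (φ : ↥G₀ ≃* ↥(chevF4.group K)),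
      (U.subgroupOf G₀).map φ.toMonoidHom = RGD.Sup (XF K) (RGD.Pos FFour.cF isType.isCartan) ∧
      ∃ s, FFour.Dom s ∧ (R.subgroupOf G₀).map φ.toMonoidHom = XF K s) := by
  have : Fact (Nat.Prime 2) := ⟨Nat.prime_two⟩
  obtain ⟨hv, H⟩ := h.lIn
  obtain ⟨Q, hQU, h3, hirr⟩ := h.bn
  have hs := h.simple
  rcases TTwo.t2_of_fam (Parity.fam_two Q h3 hirr hQU H.odd) with h2 | ⟨F, i1, i2, i3, n, hn, ⟨ψ⟩⟩ | ⟨K, i1, i2, i3, ⟨ψ⟩⟩
  · exfalso
    have hi : ¬ 2 ∣ (U.subgroupOf G₀).index := fun h1 => (Nat.not_even_iff_odd.2 H.odd) (even_iff_two_dvd.2 h1)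
    have h4 := h2 (H.two.toSylow hi) (R.subgroupOf G₀) H.R_U (Subgroup.le_centralizer_iff.1 H.U_R) H.R_ne H.NU H.max
      ⟨v, hv⟩ H.v_U ?_ H.v_ne
    · exact H.v_R h4
    · exact fun x hx => (mem_centralizer_singleton_iff.1 (H.U_v hx))
  · left
    have hW : Finite (CoxeterMatrix.B n).Group := finite_W (CoxeterMatrix.B n).toCoxeterSystem
    have I := inp_C hn F (CoxeterMatrix.B n).toCoxeterSystem
    obtain ⟨φ, e1, e2⟩ := exists_iso_left (sys_PSp n F (CoxeterMatrix.B n).toCoxeterSystem) I.sup I.cent I.two I.conn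
      (rad_sig hn) ψ H
    exact ⟨F, i1, i2, i3, n, hn, φ, e1, e2⟩
  · right
    have hW := FFour.finW
    have I := inp_F K FFour.cF
    obtain ⟨φ, e1, e2⟩ := SysID.exists_iso (sysF FFour.cF) I.sup I.cent I.two I.conn ψ H
    refine ⟨K, i1, i2, i3, φ, e1, ?_⟩
    rcases e2 with e2 | e2
    · exact ⟨_, Or.inl rfl, e2⟩
    · exact ⟨_, Or.inr rfl, e2⟩

end Cfsg.Agent.Omega.HOneEnd.ThmId
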